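import Groth.Agent.Catenary.Ring
import Groth.Agent.GeomProp.RegLocal
import Groth.Prelude.Def_EGA4b
import Mathlib.RingTheory.AdicCompletion.RingHom

/-! Localisations of excellent rings are excellent. -/

universe u

open IsLocalRing

namespace Groth.Agent.Easy3

section Cpl
variable {R S : Type u} [CommRing R] [CommRing S] (I : Ideal R) (J : Ideal S) (e : R →+* S)
  (h : I.map e ≤ J)

include h in
theorem pow_le_comap (n : ℕ) : I ^ n ≤ (J ^ n).comap e := by
  rw [← Ideal.map_le_iff_le_comap, Ideal.map_pow]
  exact Ideal.pow_right_mono h n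

theorem cplMap_compat {m n : ℕ} (hle : m ≤ n) :
    (Ideal.Quotient.factorPow J hle).comp
        ((Ideal.quotientMap (J ^ n) e (pow_le_comap I J e h n)).comp (AdicCompletion.evalₐ I n).toRingHom) =
      (Ideal.quotientMap (J ^ m) e (pow_le_comap I J e h m)).comp (AdicCompletion.evalₐ I m).toRingHom := by
  refine RingHom.ext fun x => ?_
  apply AdicCompletion.induction_on I R x (fun a => ?_)
  have h1 : a.1 n - a.1 m ∈ I ^ m := by
    simpa using SModEq.sub_mem.1 (a.2 hle).symm
  simp only [RingHom.comp_apply, AlgHom.toRingHom_eq_coe, RingHom.coe_coe, AdicCompletion.evalₐ_mk,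
    Ideal.quotientMap_mk, Ideal.Quotient.factorPow, Ideal.Quotient.factor_mk]
  rw [Ideal.Quotient.eq, ← map_sub]
  exact pow_le_comap I J e h m h1

/-- Functoriality of the completion. -/
noncomputable def cplMap : AdicCompletion I R →+* AdicCompletion J S :=
  AdicCompletion.liftRingHom J
    (fun n => (Ideal.quotientMap (J ^ n) e (pow_le_comap I J e h n)).comp (AdicCompletion.evalₐ I n).toRingHom)
    (fun {m n} hle => cplMap_compat I J e h hle)

theorem evalₐ_cplMap (n : ℕ) (x : AdicCompletion I R) :
    AdicCompletion.evalₐ J n (cplMap I J e h x) =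
      Ideal.quotientMap (J ^ n) e (pow_le_comap I J e h n) (AdicCompletion.evalₐ I n x) := by
  unfold cplMap
  exact AdicCompletion.evalₐ_liftRingHom J _ (fun {m n} hle => cplMap_compat I J e h hle) n x

theorem cplMap_of (x : R) : cplMap I J e h (AdicCompletion.of I R x) = AdicCompletion.of J S (e x) :=
  AdicCompletion.ext_evalₐ fun n => by simp [evalₐ_cplMap]

theorem cplMap_bijective (e : R ≃+* S) (hIJ : I.map e.toRingHom ≤ J) (hJI : J.map e.symm.toRingHom ≤ I) :
    Function.Bijective (cplMap I J e.toRingHom hIJ) := by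
  refine Function.bijective_iff_has_inverse.2 ⟨cplMap J I e.symm.toRingHom hJI, fun x => ?_, fun x => ?_⟩
  · refine AdicCompletion.ext_evalₐ fun n => ?_
    obtain ⟨y, hy⟩ := Ideal.Quotient.mk_surjective (AdicCompletion.evalₐ I n x)
    rw [evalₐ_cplMap, evalₐ_cplMap, ← hy, Ideal.quotientMap_mk, Ideal.quotientMap_mk]
    simp
  · refine AdicCompletion.ext_evalₐ fun n => ?_
    obtain ⟨y, hy⟩ := Ideal.Quotient.mk_surjective (AdicCompletion.evalₐ J n x)
    rw [evalₐ_cplMap, evalₐ_cplMap, ← hy, Ideal.quotientMap_mk, Ideal.quotientMap_mk]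
    simp

end Cpl

theorem isLocalization_bot_of_bijective {R S : Type u} [CommRing R] [CommRing S] [Algebra R S]
    (h : Function.Bijective (algebraMap R S)) : IsLocalization (⊥ : Submonoid R) S := by
  haveI : IsLocalization (⊥ : Submonoid R) R := IsLocalization.self (fun x hx => by
    rw [Submonoid.mem_bot.1 hx]; exact isUnit_one)
  exact IsLocalization.isLocalization_of_algEquiv _ (AlgEquiv.ofBijective (Algebra.ofId R S) h)

theorem isRegularHom_completion_of_ringEquiv {R R' : Type u} [CommRing R] [CommRing R'] [IsLocalRing R]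
    [IsLocalRing R'] [IsNoetherianRing R] (e : R ≃+* R')
    (h : CAlg.IsRegularHom R (AdicCompletion (maximalIdeal R) R)) :
    CAlg.IsRegularHom R' (AdicCompletion (maximalIdeal R') R') := by
  have hIJ : (maximalIdeal R).map e.toRingHom ≤ maximalIdeal R' := Ideal.map_le_iff_le_comap.2 fun x hx => by
    simpa using hx
  have hJI : (maximalIdeal R').map e.symm.toRingHom ≤ maximalIdeal R := Ideal.map_le_iff_le_comap.2 fun x hx => by
    simpa using hx
  letI : Algebra R R' := e.toRingHom.toAlgebra
  letI : Algebra (AdicCompletion (maximalIdeal R) R) (AdicCompletion (maximalIdeal R') R') :=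
    (cplMap _ _ e.toRingHom hIJ).toAlgebra
  haveI : IsScalarTower R R' (AdicCompletion (maximalIdeal R') R') := IsScalarTower.of_algebraMap_eq fun _ => rfl
  haveI : IsScalarTower R (AdicCompletion (maximalIdeal R) R) (AdicCompletion (maximalIdeal R') R') :=
    IsScalarTower.of_algebraMap_eq fun r => by
      show AdicCompletion.of _ _ (e r) = cplMap _ _ e.toRingHom hIJ (AdicCompletion.of _ _ r)
      rw [cplMap_of]
      rfl
  haveI := isLocalization_bot_of_bijective (R := R) (S := R') e.bijective
  haveI := isLocalization_bot_of_bijective (R := AdicCompletion (maximalIdeal R) R)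
    (S := AdicCompletion (maximalIdeal R') R') (cplMap_bijective _ _ e hIJ hJI)
  exact GeomProp.regular_localizeBoth (R := R) (Λ := AdicCompletion (maximalIdeal R) R) (⊥ : Submonoid R) ⊥ h

theorem isGRing_of_isLocalization {A : Type u} [CommRing A] (S : Submonoid A) (L : Type u) [CommRing L]
    [Algebra A L] [IsLocalization S L] (hA : CAlg.IsGRing A) : CAlg.IsGRing L := by
  obtain ⟨hN, hA⟩ := hA
  haveI := hN
  refine ⟨IsLocalization.isNoetherianRing S L inferInstance, fun p _ => ?_⟩
  haveI := IsLocalization.isLocalization_isLocalization_atPrime_isLocalization S (Localization.AtPrime p) p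
  haveI : IsNoetherianRing (Localization.AtPrime (p.comap (algebraMap A L))) :=
    IsLocalization.isNoetherianRing (p.comap (algebraMap A L)).primeCompl _ inferInstance
  exact isRegularHom_completion_of_ringEquiv
    (IsLocalization.algEquiv (p.comap (algebraMap A L)).primeCompl
      (Localization.AtPrime (p.comap (algebraMap A L))) (Localization.AtPrime p)).toRingEquiv
    (hA _)

theorem isJ2_of_isLocalization {A : Type u} [CommRing A] (S : Submonoid A) (L : Type u) [CommRing L]
    [Algebra A L] [IsLocalization S L] (hA : EGA4.IsJ2 A) : EGA4.IsJ2 L := by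
  classical
  intro B _ _ hB
  letI : Algebra A B := ((algebraMap L B).comp (algebraMap A L)).toAlgebra
  haveI : IsScalarTower A L B := IsScalarTower.of_algebraMap_eq fun _ => rfl
  obtain ⟨s, hs⟩ := hB.1
  let B0 := Algebra.adjoin A (s : Set B)
  haveI : Algebra.FiniteType A B0 := ⟨(Subalgebra.fg_top B0).2 (Subalgebra.fg_adjoin_finset s)⟩
  have hunit : ∀ a ∈ S, IsUnit (algebraMap A B a) := fun a ha =>
    (IsLocalization.map_units L (⟨a, ha⟩ : S)).map (algebraMap L B)
  have hclear : ∀ b : B, ∃ a ∈ S, algebraMap A B a * b ∈ B0 := by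
    intro b
    have hb : b ∈ Algebra.adjoin L (s : Set B) := hs ▸ Algebra.mem_top
    induction hb using Algebra.adjoin_induction with
    | mem x hx => exact ⟨1, S.one_mem, by simpa using Algebra.subset_adjoin hx⟩
    | algebraMap l =>
      obtain ⟨⟨a, t⟩, hat⟩ := IsLocalization.surj S l
      refine ⟨t, t.2, ?_⟩
      rw [IsScalarTower.algebraMap_apply A L B, ← map_mul, mul_comm, hat, ← IsScalarTower.algebraMap_apply]
      exact Subalgebra.algebraMap_mem _ a
    | add x y _ _ hx hy =>
      obtain ⟨a, ha, hax⟩ := hx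
      obtain ⟨a', ha', hay⟩ := hy
      refine ⟨a * a', S.mul_mem ha ha', ?_⟩
      rw [map_mul, mul_add]
      refine add_mem ?_ ?_
      · rw [mul_comm (algebraMap A B a), mul_assoc]; exact mul_mem (B0.algebraMap_mem _) hax
      · rw [mul_assoc]; exact mul_mem (B0.algebraMap_mem _) hay
    | mul x y _ _ hx hy =>
      obtain ⟨a, ha, hax⟩ := hx
      obtain ⟨a', ha', hay⟩ := hy
      refine ⟨a * a', S.mul_mem ha ha', ?_⟩
      rw [map_mul, mul_mul_mul_comm]
      exact mul_mem hax hay
  haveI : IsLocalization (Algebra.algebraMapSubmonoid B0 S) B :=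
    { map_units := by rintro ⟨_, a, ha, rfl⟩; exact hunit a ha
      surj := fun b => by
        obtain ⟨a, ha, hab⟩ := hclear b
        exact ⟨⟨⟨_, hab⟩, ⟨_, a, ha, rfl⟩⟩, mul_comm _ _⟩
      exists_of_eq := fun {x y} h => ⟨1, by rw [show x = y from Subtype.ext h]⟩ }
  have hpre : EGA4.regLocus B = PrimeSpectrum.comap (algebraMap B0 B) ⁻¹' EGA4.regLocus B0 := by
    ext P
    haveI := IsLocalization.isLocalization_isLocalization_atPrime_isLocalization
      (Algebra.algebraMapSubmonoid B0 S) (Localization.AtPrime P.asIdeal) P.asIdeal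
    let e := (IsLocalization.algEquiv (P.asIdeal.comap (algebraMap B0 B)).primeCompl
      (Localization.AtPrime (P.asIdeal.comap (algebraMap B0 B))) (Localization.AtPrime P.asIdeal)).toRingEquiv
    exact ⟨fun h => (haveI : IsRegularLocalRing (Localization.AtPrime P.asIdeal) := h;
        IsRegularLocalRing.of_ringEquiv e.symm),
      fun h => (haveI : IsRegularLocalRing (Localization.AtPrime (P.asIdeal.comap (algebraMap B0 B))) := h;
        IsRegularLocalRing.of_ringEquiv e)⟩
  rw [hpre]
  exact (hA B0 inferInstance).preimage (PrimeSpectrum.continuous_comap _)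

theorem isExcellent_localization {A : Type u} [CommRing A] (hA : EGA4.IsExcellent A) (S : Submonoid A) :
    EGA4.IsExcellent (Localization S) := by
  obtain ⟨hN, hC, hG, hJ⟩ := hA
  exact ⟨IsLocalization.isNoetherianRing S _ hN, Catenary.isUniversallyCatenary_of_isLocalization S _ hC,
    isGRing_of_isLocalization S _ hG, isJ2_of_isLocalization S _ hJ⟩

end Groth.Agent.Easy3
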