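import Groth.Agent.Easy3.Cyclic
import Mathlib.RingTheory.Flat.Localization
import Mathlib.RingTheory.Flat.Stability
import Mathlib.RingTheory.Localization.Away.Basic
import Mathlib.LinearAlgebra.Matrix.MvPolynomial
import Mathlib.RingTheory.MvPolynomial.Basic

/-! Flatness of the centralizer of a fibrewise regular matrix. -/

universe u v w
open Matrix MvPolynomial

namespace Groth.Agent.Easy3

variable {A : Type u} [CommRing A] {n : ℕ} (g : Matrix (Fin n) (Fin n) A) (v : Fin n → A)

theorem coeff_unique {B : Type v} [CommRing B] [Algebra A B] (hd : IsUnit (algebraMap A B (krylov g v).det))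
    (a b : Fin n → B)
    (h : ∑ j, a j • (g.map (algebraMap A B)) ^ (j : ℕ) = ∑ j, b j • (g.map (algebraMap A B)) ^ (j : ℕ)) : a = b := by
  have hK : IsUnit (krylov (g.map (algebraMap A B)) (algebraMap A B ∘ v)) := by
    rw [Matrix.isUnit_iff_isUnit_det, ← krylov_map, ← RingHom.mapMatrix_apply, ← RingHom.map_det]
    exact hd
  refine (Matrix.mulVec_injective_of_isUnit hK) ?_
  rw [krylov_mulVec, krylov_mulVec, h]

theorem map_sum_smul {B : Type v} {C : Type w} [CommRing B] [CommRing C] [Algebra A B] [Algebra A C]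
    (f : B →ₐ[A] C) (c : Fin n → B) :
    (∑ j, c j • (g.map (algebraMap A B)) ^ (j : ℕ)).map f = ∑ j, f (c j) • (g.map (algebraMap A C)) ^ (j : ℕ) := by
  have hg : f.toRingHom.mapMatrix (g.map (algebraMap A B)) = g.map (algebraMap A C) :=
    Matrix.ext fun i j => f.commutes (g i j)
  show f.toRingHom.mapMatrix (∑ j, c j • (g.map (algebraMap A B)) ^ (j : ℕ)) = _
  rw [map_sum]
  refine Finset.sum_congr rfl fun j _ => ?_
  rw [← hg, ← map_pow]
  exact Matrix.ext fun i k => map_mul f _ _

theorem flat_centralizer_away :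
    let Q := MvPolynomial (Fin n × Fin n) A ⧸ Ideal.span (Set.range fun ij : Fin n × Fin n =>
      (Matrix.mvPolynomialX (Fin n) (Fin n) A * g.map MvPolynomial.C -
        g.map MvPolynomial.C * Matrix.mvPolynomialX (Fin n) (Fin n) A :
          Matrix (Fin n) (Fin n) (MvPolynomial (Fin n × Fin n) A)) ij.1 ij.2)
    Module.Flat A (Localization.Away (algebraMap A Q (krylov g v).det)) := by
  intro Q
  set d := (krylov g v).det with hd
  let L := Localization.Away (algebraMap A Q d)
  let Ad := Localization.Away d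
  let P := MvPolynomial (Fin n) Ad
  haveI : Module.Flat A Ad := IsLocalization.flat _ (Submonoid.powers d)
  haveI : Module.Flat A P := Module.Flat.trans A Ad P
  let GP := g.map (algebraMap A P)
  let MP : Matrix (Fin n) (Fin n) P := ∑ l, (MvPolynomial.X l : P) • GP ^ (l : ℕ)
  have hMP : MP * GP = GP * MP :=
    (Commute.sum_left _ _ _ fun l _ => ((Commute.refl GP).pow_left _).smul_left _).eq
  let φ₀ : MvPolynomial (Fin n × Fin n) A →ₐ[A] P := aeval fun ij => MP ij.1 ij.2
  have hφ₀X : φ₀.mapMatrix (Matrix.mvPolynomialX (Fin n) (Fin n) A) = MP :=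
    Matrix.ext fun i j => aeval_X _ _
  have hφ₀g : φ₀.mapMatrix (g.map MvPolynomial.C) = GP := Matrix.ext fun i j => aeval_C _ _
  let φ : Q →ₐ[A] P := Ideal.Quotient.liftₐ _ φ₀ (fun a ha => by
    refine (Ideal.span_le (I := RingHom.ker φ₀)).2 ?_ ha
    rintro _ ⟨⟨i, j⟩, rfl⟩
    show φ₀.mapMatrix (Matrix.mvPolynomialX (Fin n) (Fin n) A * g.map MvPolynomial.C -
        g.map MvPolynomial.C * Matrix.mvPolynomialX (Fin n) (Fin n) A) i j = 0
    rw [map_sub, map_mul, map_mul, hφ₀X, hφ₀g, hMP, sub_self]
    rfl)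
  have hunitP : IsUnit (algebraMap A P d) := by
    rw [IsScalarTower.algebraMap_apply A Ad P]
    exact (IsLocalization.Away.algebraMap_isUnit d).map _
  have hφd : IsUnit (φ (algebraMap A Q d)) := by rw [AlgHom.commutes]; exact hunitP
  have hφpow : ∀ y : Submonoid.powers (algebraMap A Q d), IsUnit (φ y) := by
    rintro ⟨_, m, rfl⟩
    show IsUnit (φ (algebraMap A Q d ^ m))
    rw [map_pow]
    exact hφd.pow m
  let Φ : L →ₐ[A] P := IsLocalization.liftAlgHom (M := Submonoid.powers (algebraMap A Q d)) (f := φ) hφpow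
  have hΦ : ∀ q : Q, Φ (algebraMap Q L q) = φ q := fun q => IsLocalization.lift_eq _ q
  -- the generic matrix in `L`
  let π : MvPolynomial (Fin n × Fin n) A →ₐ[A] L :=
    (IsScalarTower.toAlgHom A Q L).comp (Ideal.Quotient.mkₐ A _)
  let xL : Matrix (Fin n) (Fin n) L := π.mapMatrix (Matrix.mvPolynomialX (Fin n) (Fin n) A)
  have hπg : π.mapMatrix (g.map MvPolynomial.C) = g.map (algebraMap A L) :=
    Matrix.ext fun i j => π.commutes (g i j)
  have hxL : xL * g.map (algebraMap A L) = g.map (algebraMap A L) * xL := by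
    rw [← hπg, ← map_mul, ← map_mul, ← sub_eq_zero, ← map_sub]
    ext i j
    show algebraMap Q L (Ideal.Quotient.mk _ _) = 0
    rw [Ideal.Quotient.eq_zero_iff_mem.2 (Ideal.subset_span (Set.mem_range_self (i, j))), map_zero]
  obtain ⟨c', hc'⟩ := exists_poly_of_commute g v xL hxL
  have hunitL : IsUnit (algebraMap A L d) := by
    rw [IsScalarTower.algebraMap_apply A Q L]
    exact IsLocalization.Away.algebraMap_isUnit _
  obtain ⟨w, hw⟩ := (hunitL.pow 2).exists_left_inv
  let c : Fin n → L := fun l => w * c' l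
  have hc : ∑ l, c l • (g.map (algebraMap A L)) ^ (l : ℕ) = xL := by
    simp only [c, mul_smul, ← Finset.smul_sum]
    rw [← hc', smul_smul, ← hd, map_pow, hw, one_smul]
  let ιd : Ad →ₐ[A] L := IsLocalization.liftAlgHom (M := Submonoid.powers d) (f := Algebra.ofId A L) (by
    rintro ⟨_, m, rfl⟩
    show IsUnit (algebraMap A L (d ^ m))
    rw [map_pow]
    exact hunitL.pow m)
  let Ψ : P →ₐ[A] L := MvPolynomial.aevalTower ιd c
  have hΦx : Φ.mapMatrix xL = MP := by
    refine Matrix.ext fun i j => ?_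
    show Φ (algebraMap Q L (Ideal.Quotient.mk _ (Matrix.mvPolynomialX (Fin n) (Fin n) A i j))) = MP i j
    rw [hΦ]
    show φ₀ _ = _
    simp [φ₀]
  have h1 : Φ.comp Ψ = AlgHom.id A P := by
    have hX : (fun l => Φ (c l)) = fun l => (MvPolynomial.X l : P) := by
      refine coeff_unique g v hunitP _ _ ?_
      rw [← map_sum_smul g Φ c, hc]
      exact hΦx
    apply AlgHom.coe_ringHom_injective
    refine MvPolynomial.ringHom_ext (fun a => ?_) (fun l => ?_)
    · have : ((Φ.comp Ψ).toRingHom.comp (MvPolynomial.C : Ad →+* P)) = (MvPolynomial.C : Ad →+* P) :=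
        IsLocalization.ringHom_ext (Submonoid.powers d) (RingHom.ext fun b =>
          ((Φ.comp Ψ).commutes b).trans (IsScalarTower.algebraMap_apply A Ad P b))
      exact RingHom.congr_fun this a
    · show Φ (Ψ (MvPolynomial.X l)) = MvPolynomial.X l
      rw [MvPolynomial.aevalTower_X]
      exact congrFun hX l
  have h2 : Ψ.comp Φ = AlgHom.id A L := by
    apply AlgHom.coe_ringHom_injective
    refine IsLocalization.ringHom_ext (Submonoid.powers (algebraMap A Q d)) ?_
    refine Ideal.Quotient.ringHom_ext (MvPolynomial.ringHom_ext (fun a => ?_) fun ij => ?_)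
    · show Ψ (Φ (algebraMap Q L (algebraMap A Q a))) = algebraMap Q L (algebraMap A Q a)
      rw [← IsScalarTower.algebraMap_apply A Q L, AlgHom.commutes, AlgHom.commutes]
    · show Ψ (Φ (xL ij.1 ij.2)) = xL ij.1 ij.2
      rw [show Φ (xL ij.1 ij.2) = MP ij.1 ij.2 from congrFun (congrFun hΦx ij.1) ij.2]
      have := map_sum_smul g Ψ fun l => (MvPolynomial.X l : P)
      refine (congrFun (congrFun this ij.1) ij.2).trans ?_
      have hcX : (fun l => Ψ ((MvPolynomial.X l : P))) = c := funext fun l => MvPolynomial.aevalTower_X _ _ _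
      show (∑ l, (fun l => Ψ ((MvPolynomial.X l : P))) l • g.map (algebraMap A L) ^ (l : ℕ)) ij.1 ij.2 = _
      rw [hcX, hc]
  exact Module.Flat.of_linearEquiv (AlgEquiv.ofAlgHom Φ Ψ h1 h2).toLinearEquiv

theorem flat_centralizer
    (hspan : Ideal.span (Set.range fun v : Fin n → A => (krylov g v).det) = ⊤) :
    Module.Flat A (Localization.Away
      (Ideal.Quotient.mk (Ideal.span (Set.range fun ij : Fin n × Fin n =>
        (Matrix.mvPolynomialX (Fin n) (Fin n) A * g.map MvPolynomial.C -
          g.map MvPolynomial.C * Matrix.mvPolynomialX (Fin n) (Fin n) A :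
            Matrix (Fin n) (Fin n) (MvPolynomial (Fin n × Fin n) A)) ij.1 ij.2))
        (Matrix.mvPolynomialX (Fin n) (Fin n) A).det)) := by
  set I := Ideal.span (Set.range fun ij : Fin n × Fin n =>
        (Matrix.mvPolynomialX (Fin n) (Fin n) A * g.map MvPolynomial.C -
          g.map MvPolynomial.C * Matrix.mvPolynomialX (Fin n) (Fin n) A :
            Matrix (Fin n) (Fin n) (MvPolynomial (Fin n × Fin n) A)) ij.1 ij.2) with hI
  let Q := MvPolynomial (Fin n × Fin n) A ⧸ I
  let s : Set Q := algebraMap A Q '' Set.range fun v : Fin n → A => (krylov g v).det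
  have hs : Ideal.span s = ⊤ := by rw [← Ideal.map_span, hspan, Ideal.map_top]
  haveI : Module.Flat A Q := by
    refine Module.flat_of_isLocalized_span (R := A) Q Q s hs (fun r : s => Localization.Away r.1)
      (fun r => Algebra.linearMap Q (Localization.Away r.1)) ?_
    rintro ⟨_, _, ⟨v', rfl⟩, rfl⟩
    exact flat_centralizer_away g v'
  let e := Ideal.Quotient.mk I (Matrix.mvPolynomialX (Fin n) (Fin n) A).det
  haveI : Module.Flat Q (Localization.Away e) := IsLocalization.flat _ (Submonoid.powers e)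
  exact Module.Flat.trans A Q _

end Groth.Agent.Easy3
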