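import Groth.Agent.UFDLib.Regular
import Mathlib.RingTheory.Length
import Mathlib.RingTheory.MvPolynomial.Localization
import Mathlib.RingTheory.LocalRing.ResidueField.Ideal
import Mathlib.RingTheory.Noetherian.Basic
import Mathlib.RingTheory.Flat.Basic
import Mathlib.RingTheory.TensorProduct.Maps
import Mathlib.RingTheory.Ideal.AssociatedPrime.Localization
import Mathlib.Algebra.CharP.Lemmas

/-! Small commutative algebra milestones. -/

universe u v
open TensorProduct

namespace Groth.Agent.Easy3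

open MvPolynomial in
theorem exists_unit_ideal_spread {A : Type u} [CommRing A] [IsDomain A] {m : ℕ}
    (P : Finset (MvPolynomial (Fin m) A))
    (hη : Ideal.span ((MvPolynomial.map (algebraMap A (FractionRing A))) '' (P : Set (MvPolynomial (Fin m) A))) = ⊤) :
    ∃ f : A, f ≠ 0 ∧ ∀ p : PrimeSpectrum A, f ∉ p.asIdeal →
      Ideal.span ((MvPolynomial.map (algebraMap A p.asIdeal.ResidueField)) '' (P : Set (MvPolynomial (Fin m) A))) = ⊤ := by
  let K := FractionRing A
  letI : Algebra (MvPolynomial (Fin m) A) (MvPolynomial (Fin m) K) := MvPolynomial.algebraMvPolynomial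
  have h1 : (Ideal.span (P : Set (MvPolynomial (Fin m) A))).map
      (algebraMap (MvPolynomial (Fin m) A) (MvPolynomial (Fin m) K)) = ⊤ := by
    rw [Ideal.map_span]
    exact hη
  obtain ⟨⟨⟨a, ha⟩, ⟨s, hs⟩⟩, has⟩ := (IsLocalization.mem_map_algebraMap_iff
    ((nonZeroDivisors A).map (C (σ := Fin m))) (MvPolynomial (Fin m) K) (z := 1)).1
    (h1 ▸ Submodule.mem_top)
  obtain ⟨d, hd, rfl⟩ := hs
  rw [one_mul] at has
  have hinj : Function.Injective (algebraMap (MvPolynomial (Fin m) A) (MvPolynomial (Fin m) K)) :=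
    MvPolynomial.map_injective _ (IsFractionRing.injective A K)
  have : C d ∈ Ideal.span (P : Set (MvPolynomial (Fin m) A)) := (hinj has : C d = a) ▸ ha
  refine ⟨d, nonZeroDivisors.ne_zero hd, fun p hp => ?_⟩
  rw [← Ideal.map_span]
  refine Ideal.eq_top_of_isUnit_mem _ (Ideal.mem_map_of_mem _ this) ?_
  rw [MvPolynomial.map_C]
  exact (IsUnit.mk0 _ fun h => hp (Ideal.algebraMap_residueField_eq_zero.1 h)).map C

theorem bijective_of_generic (R K A B : Type u) [CommRing R] [IsDomain R] [Field K] [Algebra R K]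
    [IsFractionRing R K] [CommRing A] [CommRing B] [Algebra R A] [Algebra R B] [Algebra A B]
    [IsScalarTower R A B] [Module.Flat R B]
    (hK : Function.Bijective (Algebra.TensorProduct.map (AlgHom.id R K) (IsScalarTower.toAlgHom R A B)))
    (htr : Function.Surjective (fun u : B →ₗ[A] A => u 1)) : Function.Bijective (algebraMap A B) := by
  obtain ⟨u, hu⟩ := htr 1
  have hu' : ∀ a, u (algebraMap A B a) = a := fun a => by
    rw [Algebra.algebraMap_eq_smul_one, map_smul, show u 1 = 1 from hu, smul_eq_mul, mul_one]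
  refine ⟨Function.LeftInverse.injective hu', fun b => ⟨u b, ?_⟩⟩
  have hinjB : Function.Injective fun x : B => (1 : K) ⊗ₜ[R] x := by
    have h := Module.Flat.rTensor_preserves_injective_linearMap (M := B) (Algebra.linearMap R K)
      (IsFractionRing.injective R K)
    intro x y hxy
    have := @h ((1 : R) ⊗ₜ x) (1 ⊗ₜ y) (by simpa using hxy)
    simpa using congrArg (TensorProduct.lid R B) this
  have hden : ∀ z : K ⊗[R] A, ∃ r : R, r ≠ 0 ∧ ∃ a : A, r • z = (1 : K) ⊗ₜ a := by
    intro z
    induction z using TensorProduct.induction_on with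
    | zero => exact ⟨1, one_ne_zero, 0, by simp⟩
    | add x y hx hy =>
      obtain ⟨r, hr, a, ha⟩ := hx
      obtain ⟨r', hr', a', ha'⟩ := hy
      exact ⟨r * r', mul_ne_zero hr hr', r' • a + r • a', by
        rw [smul_add, TensorProduct.tmul_add, TensorProduct.tmul_smul, TensorProduct.tmul_smul,
          ← ha, ← ha', ← mul_smul, ← mul_smul, mul_comm r' r]⟩
    | tmul k a =>
      obtain ⟨n, d, hd, rfl⟩ := IsFractionRing.div_surjective (A := R) k
      refine ⟨d, nonZeroDivisors.ne_zero hd, n • a, ?_⟩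
      rw [TensorProduct.smul_tmul', TensorProduct.tmul_smul, TensorProduct.smul_tmul',
        Algebra.smul_def, Algebra.smul_def, mul_one,
        mul_div_cancel₀ _ (IsFractionRing.to_map_ne_zero_of_mem_nonZeroDivisors hd)]
  obtain ⟨z, hz⟩ := hK.2 ((1 : K) ⊗ₜ b)
  obtain ⟨r, hr, a, ha⟩ := hden z
  have hrb : r • b = algebraMap A B a := by
    apply hinjB
    dsimp only
    rw [TensorProduct.tmul_smul, ← hz, ← map_smul, ha]
    simp
  apply hinjB
  dsimp only
  have : r • algebraMap A B (u b) = r • b := by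
    rw [← IsScalarTower.toAlgHom_apply R A B, ← map_smul, ← u.map_smul_of_tower, hrb, hu']
    rfl
  have hinjr : ∀ x : K ⊗[R] B, r • x = 0 → x = 0 := fun x hx => by
    rw [← IsScalarTower.algebraMap_smul K r x] at hx
    exact (smul_eq_zero.1 hx).resolve_left (by simpa [map_eq_zero_iff _ (IsFractionRing.injective R K)] using hr)
  refine sub_eq_zero.1 (hinjr _ ?_)
  rw [smul_sub, ← TensorProduct.tmul_smul, ← TensorProduct.tmul_smul, this, sub_self]

theorem length_mul_add {A : Type u} [CommRing A] [IsDomain A] [DecompositionMonoid A] (f g h : A)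
    (hfg : IsRelPrime f g) :
    Module.length A (A ⧸ Ideal.span ({f * h, g} : Set A)) =
      Module.length A (A ⧸ Ideal.span ({f, g} : Set A)) +
        Module.length A (A ⧸ Ideal.span ({h, g} : Set A)) := by
  let μ : (A ⧸ Ideal.span ({h, g} : Set A)) →ₗ[A] A ⧸ Ideal.span ({f * h, g} : Set A) :=
    Submodule.mapQ _ _ (LinearMap.mulLeft A f) (by
      refine Submodule.span_le.2 ?_
      rintro x (rfl | rfl)
      · show f * x ∈ Ideal.span ({f * x, g} : Set A)
        exact Ideal.mem_span_pair.2 ⟨1, 0, by ring⟩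
      · exact Ideal.mem_span_pair.2 ⟨0, f, by simp⟩)
  let π : (A ⧸ Ideal.span ({f * h, g} : Set A)) →ₗ[A] A ⧸ Ideal.span ({f, g} : Set A) :=
    Submodule.mapQ _ _ LinearMap.id (by
      refine Submodule.span_le.2 ?_
      rintro x (rfl | rfl)
      · exact Ideal.mul_mem_right _ _ (Ideal.subset_span (Or.inl rfl))
      · exact Ideal.subset_span (Or.inr rfl))
  rw [Module.length_eq_add_of_exact μ π ?_ ?_ ?_, add_comm]
  · refine (injective_iff_map_eq_zero μ).2 fun x hx => ?_
    obtain ⟨x, rfl⟩ := Submodule.Quotient.mk_surjective _ x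
    obtain ⟨a, b, hab⟩ := Ideal.mem_span_pair.1 ((Submodule.Quotient.mk_eq_zero _).1 hx)
    simp only [LinearMap.mulLeft_apply] at hab
    refine (Submodule.Quotient.mk_eq_zero _).2 (Ideal.mem_span_pair.2 ?_)
    by_cases hf : f = 0
    · have hg : IsUnit g := by simpa [hf, isRelPrime_zero_left] using hfg
      obtain ⟨v, hv⟩ := hg.dvd (a := x)
      exact ⟨0, v, by rw [hv]; ring⟩
    · obtain ⟨c, hc⟩ : f ∣ b := hfg.dvd_of_dvd_mul_right ⟨x - a * h, by linear_combination hab⟩
      exact ⟨a, c, mul_left_cancel₀ hf (by rw [hc] at hab; linear_combination hab)⟩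
  · intro x
    obtain ⟨y, rfl⟩ := Submodule.Quotient.mk_surjective _ x
    exact ⟨Submodule.Quotient.mk y, rfl⟩
  · intro y
    obtain ⟨y, rfl⟩ := Submodule.Quotient.mk_surjective _ y
    constructor
    · intro hy
      obtain ⟨a, b, hab⟩ := Ideal.mem_span_pair.1 ((Submodule.Quotient.mk_eq_zero _).1 hy)
      refine ⟨Submodule.Quotient.mk a, (Submodule.Quotient.eq _).2 (Ideal.mem_span_pair.2 ⟨0, -b, ?_⟩)⟩
      simp only [LinearMap.id_coe, id_eq] at hab
      simp only [LinearMap.mulLeft_apply]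
      linear_combination -hab
    · rintro ⟨x, hx⟩
      obtain ⟨x, rfl⟩ := Submodule.Quotient.mk_surjective _ x
      rw [← hx]
      exact (Submodule.Quotient.mk_eq_zero _).2 (Ideal.mem_span_pair.2 ⟨x, 0, by simp [mul_comm]⟩)

theorem monotone_stabilizes_of_le_conductor (S R : Type u) [CommRing S] [CommRing R] [Algebra S R]
    [FaithfulSMul S R] [IsNoetherianRing R] [Module.Finite S R] (c : Ideal S)
    (hc : ∀ s : S, s ∈ c ↔ ∀ r : R, ∃ s' : S, algebraMap S R s' = algebraMap S R s * r)
    [IsNoetherianRing (S ⧸ c)] (a : ℕ →o Ideal S) :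
    ∃ N : ℕ, ∀ n, N ≤ n → a n = a N := by
  let φ : S →ₗ[S] R := Algebra.linearMap S R
  have hφ : Function.Injective φ := FaithfulSMul.algebraMap_injective S R
  obtain ⟨N₀, hN₀⟩ := monotone_stabilizes_iff_noetherian.2 (inferInstance : IsNoetherian R R)
    ⟨fun n => (a n).map (algebraMap S R), fun _ _ h => Ideal.map_mono (a.monotone h)⟩
  let J : Submodule S R := ((a N₀).map (algebraMap S R)).restrictScalars S
  haveI : Module.Finite S J :=
    Module.Finite.of_fg (Submodule.FG.restrictScalars (IsNoetherian.noetherian ((a N₀).map (algebraMap S R))))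
  let b : ℕ →o Submodule S (↥J ⧸ c • (⊤ : Submodule S ↥J)) :=
    ⟨fun n => Submodule.map (Submodule.mkQ _) (Submodule.comap J.subtype (Submodule.map φ (a n))),
      fun _ _ h => Submodule.map_mono (Submodule.comap_mono (Submodule.map_mono (a.monotone h)))⟩
  haveI : IsNoetherian (S ⧸ c) (↥J ⧸ c • (⊤ : Submodule S ↥J)) :=
    haveI : Module.Finite (S ⧸ c) (↥J ⧸ c • (⊤ : Submodule S ↥J)) :=
      Module.Finite.of_restrictScalars_finite S _ _
    inferInstance
  haveI : IsNoetherian S (↥J ⧸ c • (⊤ : Submodule S ↥J)) := by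
    refine ⟨fun N => ?_⟩
    let N' : Submodule (S ⧸ c) (↥J ⧸ c • (⊤ : Submodule S ↥J)) :=
      { N.toAddSubmonoid with
        smul_mem' := fun q x hx => by
          obtain ⟨q, rfl⟩ := Ideal.Quotient.mk_surjective q
          show Ideal.Quotient.mk c q • x ∈ N
          rw [← Ideal.Quotient.algebraMap_eq, algebraMap_smul]
          exact N.smul_mem q hx }
    have h : (N'.restrictScalars S).FG := Submodule.FG.restrictScalars_of_surjective
      (IsNoetherian.noetherian N') Ideal.Quotient.mk_surjective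
    exact h
  obtain ⟨N₁, hN₁⟩ := monotone_stabilizes_iff_noetherian.2 this b
  refine ⟨max N₀ N₁, fun n hn => le_antisymm (fun s hs => ?_) (a.monotone hn)⟩
  have hsJ : φ s ∈ J := by
    show algebraMap S R s ∈ (a N₀).map (algebraMap S R)
    have := hN₀ n (le_trans (le_max_left _ _) hn)
    change (a N₀).map (algebraMap S R) = (a n).map (algebraMap S R) at this
    rw [this]; exact Ideal.mem_map_of_mem _ hs
  have h1 : (Submodule.mkQ (c • (⊤ : Submodule S ↥J))) ⟨φ s, hsJ⟩ ∈ b (max N₀ N₁) := by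
    rw [← hN₁ _ (le_max_right _ _), hN₁ n (le_trans (le_max_right _ _) hn)]
    exact ⟨⟨φ s, hsJ⟩, ⟨s, hs, rfl⟩, rfl⟩
  obtain ⟨y, ⟨t, ht, hty⟩, hy⟩ := h1
  have hcJ : ∀ z ∈ c • (⊤ : Submodule S ↥J), (z : R) ∈ Submodule.map φ (a N₀) := by
    intro z hz
    refine Submodule.smul_induction_on hz (fun k hk w _ => ?_) (fun _ _ h h' => add_mem h h')
    show k • (w : R) ∈ _
    have hw : (w : R) ∈ Ideal.span (algebraMap S R '' (a N₀ : Set S)) := w.2
    refine Submodule.span_induction (p := fun x _ => ∀ k ∈ c, k • x ∈ Submodule.map φ (a N₀)) ?_ ?_ ?_ ?_ hw k hk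
    · rintro _ ⟨e, he, rfl⟩ k _
      exact ⟨k * e, (a N₀).mul_mem_left _ he, by simp [φ, Algebra.smul_def]⟩
    · intro k _; rw [smul_zero]; exact zero_mem _
    · intro x y _ _ h h' k hk; rw [smul_add]; exact add_mem (h k hk) (h' k hk)
    · intro r x _ hx k hk
      obtain ⟨k', hk'⟩ := (hc k).1 hk r
      have hk'c : k' ∈ c := (hc k').2 fun r' => by
        obtain ⟨k'', hk''⟩ := (hc k).1 hk (r * r')
        exact ⟨k'', by rw [hk'', hk', mul_assoc]⟩
      have := hx k' hk'c
      rwa [Algebra.smul_def, hk', mul_assoc, ← Algebra.smul_def] at this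
  obtain ⟨e, he, hex⟩ := hcJ _ ((Submodule.Quotient.eq _).1 hy)
  have hst : e = t - s := hφ (by rw [map_sub, hex, hty]; rfl)
  have : t - e ∈ a (max N₀ N₁) := sub_mem ht (a.monotone (le_max_left _ _) he)
  rwa [hst, sub_sub_cancel] at this

end Groth.Agent.Easy3
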