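import Mathlib.Algebra.Module.PID
import Mathlib.Algebra.Polynomial.Module.AEval
import Mathlib.Algebra.Polynomial.Module.FiniteDimensional
import Mathlib.LinearAlgebra.Matrix.Charpoly.Coeff
import Mathlib.LinearAlgebra.Matrix.ToLin
import Mathlib.LinearAlgebra.Matrix.NonsingularInverse
import Mathlib.LinearAlgebra.Charpoly.Basic
import Mathlib.Algebra.Algebra.Subalgebra.Centralizer
import Mathlib.RingTheory.Ideal.Quotient.Operations
import Mathlib.RingTheory.LocalRing.ResidueField.Ideal

/-! A matrix with commutant of dimension `n` has a cyclic vector; consequences over a ring. -/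

universe u v
open Polynomial Matrix

namespace Groth.Agent.Easy3

/-- The matrix with columns `v, g v, g² v, …`. -/
def krylov {n : ℕ} {A : Type u} [CommRing A] (g : Matrix (Fin n) (Fin n) A) (v : Fin n → A) :
    Matrix (Fin n) (Fin n) A :=
  Matrix.of fun i j => ((g ^ (j : ℕ)) *ᵥ v) i

theorem krylov_mulVec {n : ℕ} {A : Type u} [CommRing A] (g : Matrix (Fin n) (Fin n) A) (v c : Fin n → A) :
    krylov g v *ᵥ c = (∑ j, c j • g ^ (j : ℕ)) *ᵥ v := by
  ext i
  simp only [krylov, Matrix.sum_mulVec, Matrix.smul_mulVec, Finset.sum_apply, Pi.smul_apply, smul_eq_mul]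
  simp only [Matrix.mulVec, dotProduct, Matrix.of_apply]
  exact Finset.sum_congr rfl fun j _ => mul_comm _ _

theorem krylov_map {n : ℕ} {A : Type u} {B : Type v} [CommRing A] [CommRing B] (φ : A →+* B)
    (g : Matrix (Fin n) (Fin n) A) (v : Fin n → A) :
    (krylov g v).map φ = krylov (g.map φ) (φ ∘ v) := by
  ext i j
  simp only [krylov, Matrix.map_apply, Matrix.of_apply, RingHom.map_mulVec]
  have h := map_pow φ.mapMatrix g (j : ℕ)
  rw [RingHom.mapMatrix_apply, RingHom.mapMatrix_apply] at h
  rw [h]

theorem finrank_lt_of_notMem {K : Type u} [Field K] {W E' : Type*} {C : Type v} [AddCommGroup W] [Module K W]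
    [AddCommGroup E'] [Module K E'] [AddCommGroup C] [Module K C] [FiniteDimensional K C]
    (D : W →ₗ[K] E') (hD : Function.Injective D) {ψ : E'} (hψ : ψ ∉ LinearMap.range D)
    (Θ : E' →ₗ[K] C) (hΘ : Function.Injective Θ) : Module.finrank K W < Module.finrank K C := by
  haveI : FiniteDimensional K E' := FiniteDimensional.of_injective Θ hΘ
  rw [← LinearMap.finrank_range_of_inj hD]
  refine lt_of_lt_of_le (Submodule.finrank_lt fun htop => hψ ?_) (LinearMap.finrank_le_finrank_of_injective hΘ)
  rw [htop]
  exact Submodule.mem_top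

theorem exists_cyclic_of_commutant {K : Type u} [Field K] {n : ℕ} (g : Matrix (Fin n) (Fin n) K)
    (h : Module.finrank K (Subalgebra.centralizer K ({g} : Set (Matrix (Fin n) (Fin n) K))) = n) :
    ∃ v : Fin n → K, (krylov g v).det ≠ 0 := by
  classical
  let f : Module.End K (Fin n → K) := Matrix.toLin' g
  have htor : Module.IsTorsion K[X] (Module.AEval' f) :=
    Module.AEval.isTorsion_of_finiteDimensional K (Fin n → K) f
  obtain ⟨ι, _, p, hp, e, ⟨e₀⟩⟩ := Module.equiv_directSum_of_isTorsion (R := K[X]) htor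
  let Q : ι → Type u := fun i => K[X] ⧸ Ideal.span {p i ^ e i}
  let e₁ : Module.AEval' f ≃ₗ[K[X]] (∀ i, Q i) :=
    e₀.trans (DirectSum.linearEquivFunOnFintype K[X] ι Q)
  let E : (Fin n → K) ≃ₗ[K] (∀ i, Q i) := (Module.AEval'.of f).trans (e₁.restrictScalars K)
  have hEX : ∀ v, E (f v) = (X : K[X]) • E v := fun v => by
    show e₁ (Module.AEval'.of f (f v)) = X • e₁ (Module.AEval'.of f v)
    rw [← map_smul, Module.AEval'.X_smul_of]
  by_cases hco : Pairwise fun i j => IsCoprime (p i ^ e i) (p j ^ e j)
  · let w : ∀ i, Q i := fun i => Ideal.Quotient.mk _ 1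
    have hw : ∀ z : (∀ i, Q i), ∃ r : K[X], z = r • w := by
      intro z
      choose a ha using fun i => Ideal.Quotient.mk_surjective (I := Ideal.span {p i ^ e i}) (z i)
      obtain ⟨r, hr⟩ := Ideal.exists_forall_sub_mem_ideal
        (I := fun i => Ideal.span {p i ^ e i})
        (fun i j hij => (Ideal.isCoprime_span_singleton_iff _ _).2 (hco hij)) a
      refine ⟨r, funext fun i => ?_⟩
      rw [← ha i]
      show _ = Ideal.Quotient.mk _ (r * 1)
      rw [mul_one, Ideal.Quotient.eq]
      simpa using neg_mem (hr i)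
    refine ⟨E.symm w, ?_⟩
    rw [← isUnit_iff_ne_zero, ← Matrix.isUnit_iff_isUnit_det, ← Matrix.mulVec_surjective_iff_isUnit]
    intro y
    obtain ⟨r, hr⟩ := hw (E y)
    let r' := r %ₘ f.charpoly
    have hmon : f.charpoly.Monic := f.charpoly_monic
    have hdeg : r'.natDegree < n ∨ r' = 0 := by
      rcases Nat.eq_zero_or_pos n with hn | hn
      · right
        have h0 : f.charpoly.natDegree = 0 := by rw [f.charpoly_natDegree]; simp [hn]
        show r %ₘ f.charpoly = 0
        rw [hmon.natDegree_eq_zero.1 h0, modByMonic_one]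
      · left
        have := natDegree_modByMonic_lt r hmon (fun h1 => by
          have := f.charpoly_natDegree; rw [h1, natDegree_one] at this; simp at this; omega)
        rwa [f.charpoly_natDegree, Module.finrank_fin_fun] at this
    have hy : y = aeval f r' (E.symm w) := by
      rw [aeval_modByMonic_eq_self_of_root f.aeval_self_charpoly]
      apply E.injective
      show E y = e₁ (Module.AEval.of K (Fin n → K) f (aeval f r • E.symm w))
      rw [hr, Module.AEval.of_aeval_smul, map_smul]
      congr 1
      exact (E.apply_symm_apply w).symm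
    refine ⟨fun j => r'.coeff j, ?_⟩
    rw [krylov_mulVec, hy]
    have : aeval f r' = Matrix.toLin' (∑ j : Fin n, r'.coeff (j : ℕ) • g ^ (j : ℕ)) := by
      rcases hdeg with hd | hd
      · rw [aeval_eq_sum_range' hd, map_sum, Finset.sum_range]
        exact Finset.sum_congr rfl fun j _ => by rw [map_smul, Matrix.toLin'_pow]
      · simp [hd]
    rw [this, Matrix.toLin'_apply]
  · exfalso
    obtain ⟨i, j, hij, hnco⟩ : ∃ i j, i ≠ j ∧ ¬ IsCoprime (p i ^ e i) (p j ^ e j) := by
      simpa [Pairwise] using hco
    have hj0 : e j ≠ 0 := fun h0 => hnco (by rw [h0, pow_zero]; exact isCoprime_one_right)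
    have hi0 : e i ≠ 0 := fun h0 => hnco (by rw [h0, pow_zero]; exact isCoprime_one_left)
    have hdvd : p j ∣ p i ^ e i := by
      by_contra hnd
      exact hnco ((((hp j).coprime_iff_not_dvd).2 hnd).pow_left.symm)
    obtain ⟨d, hd⟩ := Nat.exists_eq_succ_of_ne_zero hj0
    let ψ₀ : Q i →ₗ[K[X]] Q j := Submodule.mapQ _ _ (LinearMap.mulRight K[X] (p j ^ d)) (by
      intro x hx
      obtain ⟨c, rfl⟩ := Ideal.mem_span_singleton.1 hx
      obtain ⟨c', hc'⟩ := hdvd
      refine Ideal.mem_span_singleton.2 ⟨c' * c, ?_⟩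
      show p i ^ e i * c * p j ^ d = _
      rw [hd, pow_succ, hc']
      ring)
    let ψ : (∀ l, Q l) →ₗ[K[X]] (∀ l, Q l) := LinearMap.single K[X] Q j ∘ₗ ψ₀ ∘ₗ LinearMap.proj i
    let D : (∀ l, Q l) →ₗ[K] Module.End K[X] (∀ l, Q l) :=
      (Algebra.lmul K[X] (∀ l, Q l)).toLinearMap.restrictScalars K
    have hD : Function.Injective D := fun a b hab => by
      simpa [D] using LinearMap.congr_fun hab 1
    have hψ : ψ ∉ LinearMap.range D := by
      rintro ⟨z, hz⟩
      have h1 := congrFun (LinearMap.congr_fun hz (Pi.single i 1)) j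
      simp only [D, ψ, LinearMap.restrictScalars_apply, AlgHom.toLinearMap_apply, Algebra.coe_lmul_eq_mul,
        LinearMap.mul_apply', Pi.mul_apply, Pi.single_eq_of_ne hij.symm, mul_zero, LinearMap.comp_apply,
        LinearMap.proj_apply, Pi.single_eq_same, LinearMap.coe_single] at h1
      have h2 : ψ₀ (Ideal.Quotient.mk _ 1) = Ideal.Quotient.mk _ (1 * p j ^ d) := rfl
      rw [map_one, one_mul] at h2
      rw [h2] at h1
      have h3 := Ideal.mem_span_singleton.1 (Ideal.Quotient.eq_zero_iff_mem.1 h1.symm)
      rw [pow_dvd_pow_iff (hp j).ne_zero (hp j).not_isUnit, hd] at h3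
      omega
    let Θ : Module.End K[X] (∀ l, Q l) →ₗ[K] Subalgebra.centralizer K ({g} : Set (Matrix (Fin n) (Fin n) K)) :=
      { toFun := fun φ => ⟨LinearMap.toMatrix' (E.symm.toLinearMap ∘ₗ φ.restrictScalars K ∘ₗ E.toLinearMap), by
          rw [Subalgebra.mem_centralizer_iff]
          intro g' hg'
          rw [Set.mem_singleton_iff.1 hg']
          apply Matrix.toLin'.injective
          rw [Matrix.toLin'_mul, Matrix.toLin'_mul, Matrix.toLin'_toMatrix']
          refine LinearMap.ext fun v => E.injective ?_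
          show E (f (E.symm (φ (E v)))) = E (E.symm (φ (E (f v))))
          rw [hEX, hEX, E.apply_symm_apply, E.apply_symm_apply, map_smul]⟩
        map_add' := fun a b => Subtype.ext (by
          simp [LinearMap.comp_add, LinearMap.add_comp, LinearMap.restrictScalars_add])
        map_smul' := fun c a => Subtype.ext (by
          simp only [LinearMap.restrictScalars_smul, LinearMap.smul_comp, LinearMap.comp_smul, map_smul,
            RingHom.id_apply, SetLike.val_smul]) }
    have hΘ : Function.Injective Θ := fun a b hab => by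
      have := LinearMap.toMatrix'.injective (congrArg Subtype.val hab)
      refine LinearMap.ext fun z => ?_
      have := LinearMap.congr_fun this (E.symm z)
      simpa using this
    have key := finrank_lt_of_notMem (K := K) (W := ∀ l, Q l) (E' := Module.End K[X] (∀ l, Q l))
      (C := ↥(Subalgebra.centralizer K ({g} : Set (Matrix (Fin n) (Fin n) K)))) D hD hψ Θ hΘ
    rw [h, ← E.finrank_eq, Module.finrank_fin_fun] at key
    exact lt_irrefl _ key

section Ring

variable {A : Type u} [CommRing A] {n : ℕ}

/-- Fibrewise regular matrices: the Krylov determinants generate the unit ideal. -/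
theorem span_det_krylov_eq_top (g : Matrix (Fin n) (Fin n) A)
    (hreg : ∀ (K : Type u) [Field K] (φ : A →+* K),
      Module.finrank K (Subalgebra.centralizer K ({g.map φ} : Set (Matrix (Fin n) (Fin n) K))) = n) :
    Ideal.span (Set.range fun v : Fin n → A => (krylov g v).det) = ⊤ := by
  classical
  by_contra hne
  obtain ⟨P, hP, hle⟩ := Ideal.exists_le_maximal _ hne
  letI : Field (A ⧸ P) := Ideal.Quotient.field P
  obtain ⟨w, hw⟩ := exists_cyclic_of_commutant (g.map (Ideal.Quotient.mk P)) (hreg (A ⧸ P) _)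
  choose v hv using fun i => Ideal.Quotient.mk_surjective (w i)
  refine hw ?_
  have : Ideal.Quotient.mk P (krylov g v).det = 0 :=
    Ideal.Quotient.eq_zero_iff_mem.2 (hle (Ideal.subset_span ⟨v, rfl⟩))
  rw [RingHom.map_det, RingHom.mapMatrix_apply, krylov_map] at this
  rwa [show (Ideal.Quotient.mk P) ∘ v = w from funext hv] at this

variable {B : Type v} [CommRing B] [Algebra A B] (g : Matrix (Fin n) (Fin n) A) (v : Fin n → A)

/-- A matrix commuting with `g` is a polynomial in `g`, up to `det(krylov)²`. -/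
theorem exists_poly_of_commute (x : Matrix (Fin n) (Fin n) B)
    (hx : x * g.map (algebraMap A B) = g.map (algebraMap A B) * x) :
    ∃ c : Fin n → B, algebraMap A B ((krylov g v).det ^ 2) • x =
      ∑ j, c j • (g.map (algebraMap A B)) ^ (j : ℕ) := by
  classical
  set G := g.map (algebraMap A B) with hG
  set C := krylov G (algebraMap A B ∘ v) with hC
  have hd : C.det = algebraMap A B (krylov g v).det := by
    rw [RingHom.map_det, RingHom.mapMatrix_apply, krylov_map]
  let c : Fin n → B := C.adjugate *ᵥ (x *ᵥ (algebraMap A B ∘ v))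
  let y : Matrix (Fin n) (Fin n) B := C.det • x - ∑ j, c j • G ^ (j : ℕ)
  have hy0 : y *ᵥ (algebraMap A B ∘ v) = 0 := by
    have h1 := krylov_mulVec G (algebraMap A B ∘ v) c
    rw [← hC, Matrix.mulVec_mulVec, Matrix.mul_adjugate, Matrix.smul_mulVec, Matrix.one_mulVec] at h1
    simp only [y, Matrix.sub_mulVec, Matrix.smul_mulVec]
    rw [h1, sub_self]
  have hyG : Commute y G := by
    refine Commute.sub_left ((Commute.smul_left (a := x) hx _)) (Commute.sum_left _ _ _ fun j _ => ?_)
    exact ((Commute.refl G).pow_left _).smul_left _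
  have hyC : y * C = 0 := by
    ext i j
    have h1 : (y * C) i j = (y *ᵥ ((G ^ (j : ℕ)) *ᵥ (algebraMap A B ∘ v))) i := rfl
    rw [h1, Matrix.mulVec_mulVec, (hyG.pow_right _).eq, ← Matrix.mulVec_mulVec, hy0, Matrix.mulVec_zero]
    rfl
  have h2 : C.det • y = 0 := by
    rw [← Matrix.mul_one (C.det • y), Matrix.smul_mul, ← Matrix.mul_smul, ← Matrix.mul_adjugate,
      ← Matrix.mul_assoc, hyC, Matrix.zero_mul]
  refine ⟨fun j => C.det * c j, ?_⟩
  rw [map_pow, ← hd, sq, mul_smul]
  simp only [mul_smul]
  rw [← Finset.smul_sum, ← sub_eq_zero, ← smul_sub]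
  exact h2

theorem commute_of_span {g : Matrix (Fin n) (Fin n) A}
    (hspan : Ideal.span (Set.range fun v : Fin n → A => (krylov g v).det) = ⊤)
    (x y : Matrix (Fin n) (Fin n) B)
    (hx : x * g.map (algebraMap A B) = g.map (algebraMap A B) * x)
    (hy : y * g.map (algebraMap A B) = g.map (algebraMap A B) * y) : x * y = y * x := by
  set I : Ideal A := Ideal.comap (algebraMap A B) (Module.annihilator B (Submodule.span B {x * y - y * x})) with hI
  have hmem : ∀ v : Fin n → A, (krylov g v).det ∈ I.radical := by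
    intro v
    refine ⟨2, ?_⟩
    rw [hI, Ideal.mem_comap, Submodule.mem_annihilator_span_singleton]
    obtain ⟨c, hc⟩ := exists_poly_of_commute g v x hx
    rw [smul_sub, ← Matrix.smul_mul, ← Matrix.mul_smul, hc, sub_eq_zero]
    exact (Commute.sum_left _ _ _ fun j _ => ((show Commute (g.map (algebraMap A B)) y from hy.symm).pow_left _).smul_left _).eq
  have htop : I.radical = ⊤ := eq_top_iff.2 (hspan ▸ Ideal.span_le.2 (by rintro _ ⟨v, rfl⟩; exact hmem v))
  rw [Ideal.radical_eq_top] at htop
  have h1 : (1 : A) ∈ I := htop ▸ Submodule.mem_top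
  rw [hI, Ideal.mem_comap, map_one, Submodule.mem_annihilator_span_singleton, one_smul, sub_eq_zero] at h1
  exact h1

theorem commute_of_commute_base {g h : Matrix (Fin n) (Fin n) A}
    (hspan : Ideal.span (Set.range fun v : Fin n → A => (krylov g v).det) = ⊤)
    (hgh : h * g = g * h) (x : Matrix (Fin n) (Fin n) B)
    (hx : x * g.map (algebraMap A B) = g.map (algebraMap A B) * x) :
    x * h.map (algebraMap A B) = h.map (algebraMap A B) * x :=
  commute_of_span hspan x _ hx (by rw [← Matrix.map_mul, ← Matrix.map_mul, hgh])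

end Ring

end Groth.Agent.Easy3
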