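import Groth.Agent.DiffOps.Basic
import Mathlib

/-! Differential operators: representability, and extension along formally etale maps. -/

set_option autoImplicit false

namespace Groth.Agent.Easy3.DiffEtale

universe u

open Diff16 TensorProduct

section Rep

variable (R S : Type u) [CommRing R] [CommRing S] [Algebra R S] {M : Type u}
  [AddCommGroup M] [Module S M] [Module R M] [IsScalarTower R S M]
  {P : Type u} [AddCommGroup P] [Module S P] [Module R P] [IsScalarTower R S P]

/-- relations making `D` an operator of order `≤ n`. -/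
noncomputable def relSub : ℕ → (M →ₗ[R] P) → Submodule S P
  | 0, D => Submodule.span S (Set.range fun bm : S × M => D (bm.1 • bm.2) - bm.1 • D bm.2)
  | n + 1, D => ⨆ b : S, relSub n (commutator R S M P D b)

theorem diff_comp_iff {N : Type u} [AddCommGroup N] [Module S N] [Module R N] [IsScalarTower R S N]
    (α : P →ₗ[S] N) : ∀ (n : ℕ) (D : M →ₗ[R] P),
      IsDiffOpLE R S M N n (α.restrictScalars R ∘ₗ D) ↔ relSub R S n D ≤ LinearMap.ker α := by
  intro n
  induction n with
  | zero =>
    intro D
    rw [relSub, Submodule.span_le]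
    constructor
    · rintro h _ ⟨⟨b, m⟩, rfl⟩
      have := h b m
      simp only [LinearMap.comp_apply, LinearMap.coe_restrictScalars] at this
      simp [this]
    · intro h b m
      have := h ⟨(b, m), rfl⟩
      simpa [sub_eq_zero] using this
  | succ n ih =>
    intro D
    rw [DiffOps.diff_succ_iff, relSub, iSup_le_iff]
    refine forall_congr' fun b => ?_
    rw [← ih]
    have e : commutator R S M N (α.restrictScalars R ∘ₗ D) b = α.restrictScalars R ∘ₗ commutator R S M P D b := by
      ext m; simp
    rw [e]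

theorem exists_rep (M : Type u) [AddCommGroup M] [Module S M] [Module R M] [IsScalarTower R S M] (k : ℕ) :
    ∃ (P : Type u) (_ : AddCommGroup P) (_ : Module S P) (_ : Module R P) (_ : IsScalarTower R S P)
      (D : M →ₗ[R] P), IsDiffOpLE R S M P k D ∧
        ∀ (N : Type u) [AddCommGroup N] [Module S N] [Module R N] [IsScalarTower R S N] (D' : M →ₗ[R] N),
          IsDiffOpLE R S M N k D' → ∃! α : P →ₗ[S] N, α.restrictScalars R ∘ₗ D = D' := by
  let D₀ : M →ₗ[R] S ⊗[R] M := TensorProduct.mk R S M 1
  let K := relSub R S k D₀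
  refine ⟨(S ⊗[R] M) ⧸ K, inferInstance, inferInstance, inferInstance, inferInstance,
    (K.mkQ.restrictScalars R) ∘ₗ D₀, (diff_comp_iff R S K.mkQ k D₀).2 (by rw [Submodule.ker_mkQ]), ?_⟩
  intro N _ _ _ _ D' hD'
  let β : S ⊗[R] M →ₗ[S] N := TensorProduct.AlgebraTensorModule.lift
    { toFun := fun s => s • D'
      map_add' := fun a b => add_smul a b D'
      map_smul' := fun a b => mul_smul a b D' }
  have hβ : β.restrictScalars R ∘ₗ D₀ = D' := by ext m; simp [β, D₀]
  have hK : K ≤ LinearMap.ker β := (diff_comp_iff R S β k D₀).1 (by rw [hβ]; exact hD')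
  refine ⟨K.liftQ β hK, ?_, fun α hα => ?_⟩
  · ext m; exact LinearMap.congr_fun hβ m
  · refine Submodule.linearMap_qext K (TensorProduct.AlgebraTensorModule.ext fun s m => ?_)
    have h1 : α (K.mkQ (1 ⊗ₜ[R] m)) = D' m := LinearMap.congr_fun hα m
    rw [show s ⊗ₜ[R] m = s • (1 : S) ⊗ₜ[R] m by rw [TensorProduct.smul_tmul', smul_eq_mul, mul_one], map_smul,
      LinearMap.comp_apply, h1, map_smul, LinearMap.comp_apply, Submodule.mkQ_apply, Submodule.liftQ_apply]
    exact congrArg (s • ·) (LinearMap.congr_fun hβ m).symm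

end Rep

section Etale

variable (R S S' : Type u) [CommRing R] [CommRing S] [CommRing S'] [Algebra R S] [Algebra R S'] [Algebra S S']
  [IsScalarTower R S S']
  {M : Type u} [AddCommGroup M] [Module S M] [Module R M] [IsScalarTower R S M]
  {N : Type u} [AddCommGroup N] [Module S' N] [Module S N] [IsScalarTower S S' N] [Module R N]
  [IsScalarTower R S' N] [IsScalarTower R S N]

/-- relative operators for an unramified map are linear. -/
theorem linear_of_unramified [Algebra.FormallyUnramified S S'] :
    ∀ (n : ℕ) (f : S' →ₗ[S] N), IsDiffOpLE S S' S' N n f → ∀ x, f x = x • f 1 := by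
  intro n
  induction n with
  | zero => intro f hf x; have := hf x 1; rwa [smul_eq_mul, mul_one] at this
  | succ n ih =>
    intro f hf x
    have hc : ∀ a b : S', f (a * b) = a • f b + b • (f a - a • f 1) := fun a b => by
      have := ih _ (hf a) b
      simp only [DiffOps.comm_apply, smul_eq_mul, mul_one] at this
      rw [← this]; abel
    let δ : Derivation S S' N := Derivation.mk'
      (f - (LinearMap.toSpanSingleton S' N (f 1)).restrictScalars S) fun a b => by
        simp only [LinearMap.sub_apply, LinearMap.coe_restrictScalars, LinearMap.toSpanSingleton_apply, hc,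
          smul_sub, ← mul_smul]
        rw [mul_comm b a]
        abel
    have h0 : δ x = 0 := by
      rw [← Derivation.liftKaehlerDifferential_comp_D δ x,
        Subsingleton.elim (KaehlerDifferential.D S S' x) 0, map_zero]
    simpa [δ, sub_eq_zero] using h0

/-- uniqueness of extensions along an unramified map. -/
theorem eq_zero_of_comp_eq_zero [Algebra.FormallyUnramified S S'] :
    ∀ (n : ℕ) (E : S' ⊗[S] M →ₗ[R] N), IsDiffOpLE R S' (S' ⊗[S] M) N n E →
      (∀ m, E (1 ⊗ₜ m) = 0) → E = 0 := by
  intro n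
  induction n with
  | zero =>
    intro E hE h0
    refine LinearMap.ext fun z => ?_
    induction z with
    | zero => exact map_zero E
    | tmul a m =>
      have := hE a (1 ⊗ₜ m)
      rw [TensorProduct.smul_tmul', smul_eq_mul, mul_one, h0, smul_zero] at this
      exact this
    | add x y hx hy => simp [hx, hy]
  | succ n ih =>
    intro E hE h0
    have hlin : ∀ (s : S) z, E (s • z) = s • E z := by
      intro s z
      have h1 := ih _ (hE (algebraMap S S' s)) fun m => by
        rw [DiffOps.comm_apply, algebraMap_smul, algebraMap_smul, ← TensorProduct.tmul_smul, h0, h0, smul_zero, sub_zero]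
      have h2 := LinearMap.congr_fun h1 z
      rwa [DiffOps.comm_apply, algebraMap_smul, algebraMap_smul, LinearMap.zero_apply, sub_eq_zero] at h2
    refine LinearMap.ext fun z => ?_
    induction z with
    | zero => exact map_zero E
    | add x y hx hy => simp [hx, hy]
    | tmul a m =>
      let E' : S' ⊗[S] M →ₗ[S] N := { toFun := E, map_add' := E.map_add, map_smul' := hlin }
      let f : S' →ₗ[S] N := E' ∘ₗ (TensorProduct.mk S S' M).flip m
      have hf : ∀ (j : ℕ) (F : S' ⊗[S] M →ₗ[R] N) (g : S' →ₗ[S] N), (∀ x, g x = F (x ⊗ₜ m)) →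
          IsDiffOpLE R S' (S' ⊗[S] M) N j F → IsDiffOpLE S S' S' N j g := by
        intro j
        induction j with
        | zero =>
          intro F g hg hF b x
          rw [hg, hg, smul_eq_mul, ← hF b (x ⊗ₜ m), TensorProduct.smul_tmul', smul_eq_mul]
        | succ j ihj =>
          intro F g hg hF b
          refine ihj (commutator R S' (S' ⊗[S] M) N F b) _ (fun x => ?_) (hF b)
          rw [DiffOps.comm_apply, DiffOps.comm_apply, hg, hg, TensorProduct.smul_tmul']
      have h1 := linear_of_unramified S S' (n + 1) f (hf _ E f (fun _ => rfl) hE) a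
      change E (a ⊗ₜ m) = a • E (1 ⊗ₜ m) at h1
      rw [h1, h0, smul_zero, LinearMap.zero_apply]

/-- actions on operators. -/
noncomputable def theta : S' ⊗[R] S →ₐ[R] Module.End R (M →ₗ[R] N) :=
  Algebra.TensorProduct.lift (Algebra.lsmul R R (M →ₗ[R] N))
    (AlgHom.ofLinearMap
      { toFun := fun s => LinearMap.lcomp R N ((LinearMap.lsmul S M s).restrictScalars R)
        map_add' := fun a b => by ext F m; simp [add_smul]
        map_smul' := fun r s => by ext F m; simp [smul_assoc] }
      (by ext F m; simp) (fun a b => by ext F m; simp [← mul_smul, mul_comm a b]))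
    (fun a b => by ext F m; simp)

theorem theta_tmul (a : S') (s : S) (F : M →ₗ[R] N) (m : M) : theta R S S' (a ⊗ₜ s) F m = a • F (s • m) := by
  simp [theta]

theorem theta_one_tmul (s : S) (x : S' ⊗[R] S) (F : M →ₗ[R] N) (m : M) :
    theta R S S' ((1 : S') ⊗ₜ[R] s * x) F m = theta R S S' x F (s • m) := by
  rw [map_mul, Module.End.mul_apply, theta_tmul, one_smul]

/-- multiplication. -/
noncomputable def mu : S' ⊗[R] S →ₐ[R] S' :=
  Algebra.TensorProduct.lift (AlgHom.id R S') (IsScalarTower.toAlgHom R S S') fun _ _ => Commute.all _ _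

/-- the diagonal ideal. -/
noncomputable abbrev diagI : Ideal (S' ⊗[R] S) := RingHom.ker (mu R S S').toRingHom

theorem mem_span_gen {x : S' ⊗[R] S} (hx : x ∈ diagI R S S') :
    x ∈ Ideal.span (Set.range fun s : S => (1 : S') ⊗ₜ[R] s - algebraMap S S' s ⊗ₜ[R] (1 : S)) := by
  suffices ∀ y : S' ⊗[R] S, y - mu R S S' y ⊗ₜ[R] (1 : S) ∈
      Ideal.span (Set.range fun s : S => (1 : S') ⊗ₜ[R] s - algebraMap S S' s ⊗ₜ[R] (1 : S)) by
    have h := this x
    have hx0 : mu R S S' x = 0 := RingHom.mem_ker.1 hx
    rwa [hx0, TensorProduct.zero_tmul, sub_zero] at h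
  intro y
  induction y with
  | zero => simp
  | add a b ha hb => rw [map_add, TensorProduct.add_tmul, add_sub_add_comm]; exact add_mem ha hb
  | tmul a s =>
    have h := Ideal.mul_mem_left _ (a ⊗ₜ[R] (1 : S)) (Ideal.subset_span ⟨s, rfl⟩ :
      (1 : S') ⊗ₜ[R] s - algebraMap S S' s ⊗ₜ[R] (1 : S) ∈
        Ideal.span (Set.range fun s : S => (1 : S') ⊗ₜ[R] s - algebraMap S S' s ⊗ₜ[R] (1 : S)))
    rw [mul_sub, Algebra.TensorProduct.tmul_mul_tmul, Algebra.TensorProduct.tmul_mul_tmul, mul_one, one_mul, one_mul] at h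
    simpa [mu] using h

theorem killed_of_diff : ∀ (n : ℕ) (F : M →ₗ[R] N), IsDiffOpLE R S M N n F →
    ∀ x ∈ diagI R S S' ^ (n + 1), theta R S S' x F = 0 := by
  intro n
  induction n with
  | zero =>
    intro F hF x hx
    rw [zero_add, pow_one] at hx
    have h := mem_span_gen R S S' hx
    clear hx
    induction h using Submodule.span_induction with
    | mem x hx =>
      obtain ⟨s, rfl⟩ := hx
      ext m
      rw [map_sub, LinearMap.sub_apply, LinearMap.sub_apply, theta_tmul, theta_tmul, hF s m, one_smul, one_smul,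
        algebraMap_smul, sub_self, LinearMap.zero_apply]
    | zero => rw [map_zero]; rfl
    | add a b _ _ ha hb => rw [map_add, LinearMap.add_apply, ha, hb, add_zero]
    | smul c a _ ha => rw [smul_eq_mul, map_mul, Module.End.mul_apply, ha, map_zero]
  | succ n ih =>
    intro F hF x hx
    rw [pow_succ] at hx
    induction hx using Submodule.mul_induction_on' with
    | mem_mul_mem a ha b hb =>
      have h := mem_span_gen R S S' hb
      clear hb
      induction h using Submodule.span_induction generalizing a with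
      | mem y hy =>
        obtain ⟨s, rfl⟩ := hy
        have e : theta R S S' ((1 : S') ⊗ₜ[R] s - algebraMap S S' s ⊗ₜ[R] (1 : S)) F = commutator R S M N F s := by
          ext m
          rw [map_sub, LinearMap.sub_apply, LinearMap.sub_apply, theta_tmul, theta_tmul, one_smul, one_smul,
            algebraMap_smul, DiffOps.comm_apply]
        rw [map_mul, Module.End.mul_apply, e]
        exact ih _ (hF s) a ha
      | zero => rw [mul_zero, map_zero]; rfl
      | add p q _ _ hp hq => rw [mul_add, map_add, LinearMap.add_apply, hp a ha, hq a ha, add_zero]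
      | smul c p _ hp =>
        rw [smul_eq_mul, ← mul_assoc, mul_comm a c]
        exact hp (c * a) (Ideal.mul_mem_left _ c ha)
    | add p _ q _ hp hq => rw [map_add, LinearMap.add_apply, hp, hq, add_zero]

theorem exists_reps [Algebra.FormallyEtale S S'] (k : ℕ) :
    ∃ a : S' → S' ⊗[R] S,
      (∀ x, mu R S S' (a x) = x) ∧
      (∀ x y, a (x + y) - (a x + a y) ∈ diagI R S S' ^ (k + 1)) ∧
      (∀ x y, a (x * y) - a x * a y ∈ diagI R S S' ^ (k + 1)) ∧
      (∀ s : S, a (algebraMap S S' s) - (1 : S') ⊗ₜ[R] s ∈ diagI R S S' ^ (k + 1)) := by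
  let J := diagI R S S' ^ (k + 1)
  let T := (S' ⊗[R] S) ⧸ J
  letI : Algebra S T := ((Ideal.Quotient.mk J).comp
    (Algebra.TensorProduct.includeRight : S →ₐ[R] S' ⊗[R] S).toRingHom).toAlgebra
  have hJ : J ≤ diagI R S S' := Ideal.pow_le_self (Nat.succ_ne_zero k)
  let g : T →ₐ[S] S' :=
    { Ideal.Quotient.lift J (mu R S S').toRingHom fun x hx => RingHom.mem_ker.1 (hJ hx) with
      commutes' := fun s => by
        show mu R S S' ((1 : S') ⊗ₜ[R] s) = algebraMap S S' s
        simp [mu] }
  have hg : Function.Surjective g := fun x => ⟨Ideal.Quotient.mk J (x ⊗ₜ 1), by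
    show mu R S S' (x ⊗ₜ[R] (1 : S)) = x
    simp [mu]⟩
  have hnil : IsNilpotent (RingHom.ker (g : T →+* S')) := by
    refine ⟨k + 1, ?_⟩
    have hle : RingHom.ker (g : T →+* S') ≤ (diagI R S S').map (Ideal.Quotient.mk J) := by
      intro t ht
      obtain ⟨y, rfl⟩ := Ideal.Quotient.mk_surjective t
      exact Ideal.mem_map_of_mem _ (RingHom.mem_ker.2 (RingHom.mem_ker.1 ht))
    refine le_bot_iff.1 ((Ideal.pow_right_mono hle (k + 1)).trans ?_)
    rw [← Ideal.map_pow, Ideal.map_quotient_self]
  obtain ⟨φ, hφ⟩ : ∃ φ : S' →ₐ[S] T, g.comp φ = AlgHom.id S S' :=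
    ⟨Algebra.FormallySmooth.liftOfSurjective (AlgHom.id S S') g hg hnil,
      Algebra.FormallySmooth.comp_liftOfSurjective _ _ _ _⟩
  choose a ha using fun x => Ideal.Quotient.mk_surjective (φ x)
  refine ⟨a, fun x => ?_, fun x y => ?_, fun x y => ?_, fun s => ?_⟩
  · have h1 := AlgHom.congr_fun hφ x
    rw [AlgHom.comp_apply, ← ha] at h1
    exact h1
  · rw [← Ideal.Quotient.eq, map_add, ha, ha, ha, map_add]
  · rw [← Ideal.Quotient.eq, map_mul, ha, ha, ha, map_mul]
  · rw [← Ideal.Quotient.eq, ha, AlgHom.commutes]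
    rfl

/-- extension along formally etale maps. -/
theorem existsUnique_ext [Algebra.FormallyEtale S S'] (k : ℕ) (D : M →ₗ[R] N) (hD : IsDiffOpLE R S M N k D) :
    ∃! E : S' ⊗[S] M →ₗ[R] N, IsDiffOpLE R S' (S' ⊗[S] M) N k E ∧ ∀ m, E (1 ⊗ₜ m) = D m := by
  obtain ⟨a, hμ, hadd, hmul, halg⟩ := exists_reps R S S' k
  have cong : ∀ {F : M →ₗ[R] N}, (∀ x ∈ diagI R S S' ^ (k + 1), theta R S S' x F = 0) →
      ∀ {x y : S' ⊗[R] S}, x - y ∈ diagI R S S' ^ (k + 1) → theta R S S' x F = theta R S S' y F := by
    intro F hF x y hxy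
    have := hF _ hxy
    rwa [map_sub, LinearMap.sub_apply, sub_eq_zero] at this
  -- balanced
  have key : ∀ {F : M →ₗ[R] N}, (∀ x ∈ diagI R S S' ^ (k + 1), theta R S S' x F = 0) →
      ∀ (s : S) (x : S') (m : M), theta R S S' (a (algebraMap S S' s * x)) F m = theta R S S' (a x) F (s • m) := by
    intro F hF s x m
    rw [← theta_one_tmul]
    refine LinearMap.congr_fun (cong hF ?_) m
    have h1 := hmul (algebraMap S S' s) x
    have h2 := Ideal.mul_mem_right (a x) _ (halg s)
    have := add_mem h1 h2
    convert this using 1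
    ring
  have mkE : ∀ F : M →ₗ[R] N, (∀ x ∈ diagI R S S' ^ (k + 1), theta R S S' x F = 0) →
      ∃ E : S' ⊗[S] M →ₗ[R] N, ∀ x m, E (x ⊗ₜ m) = theta R S S' (a x) F m := by
    intro F hF
    let b : S' →+ M →+ N := AddMonoidHom.mk' (fun x => (theta R S S' (a x) F).toAddMonoidHom) fun x y => by
      ext m
      show theta R S S' (a (x + y)) F m = theta R S S' (a x) F m + theta R S S' (a y) F m
      rw [cong hF (hadd x y), map_add]
      rfl
    let e : S' ⊗[S] M →+ N := TensorProduct.liftAddHom b fun s x m => by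
      show theta R S S' (a (s • x)) F m = theta R S S' (a x) F (s • m)
      rw [Algebra.smul_def, key hF]
    refine ⟨{ toFun := e, map_add' := e.map_add, map_smul' := fun r z => ?_ }, fun x m => rfl⟩
    simp only [RingHom.id_apply]
    induction z with
    | zero => rw [smul_zero, map_zero, smul_zero]
    | add p q hp hq => rw [smul_add, map_add, map_add, hp, hq, smul_add]
    | tmul x m =>
      rw [TensorProduct.smul_tmul']
      show theta R S S' (a (r • x)) F m = r • theta R S S' (a x) F m
      rw [← algebraMap_smul S r x, Algebra.smul_def, key hF, algebraMap_smul, map_smul]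
  obtain ⟨E, hE⟩ := mkE D (killed_of_diff R S S' k D hD)
  have horder : ∀ (j : ℕ), j ≤ k → ∀ (F : M →ₗ[R] N) (G : S' ⊗[S] M →ₗ[R] N),
      (∀ x ∈ diagI R S S' ^ (j + 1), theta R S S' x F = 0) →
      (∀ x m, G (x ⊗ₜ m) = theta R S S' (a x) F m) → IsDiffOpLE R S' (S' ⊗[S] M) N j G := by
    intro j
    have hG : ∀ (F : M →ₗ[R] N), (∀ x ∈ diagI R S S' ^ (k + 1), theta R S S' x F = 0) →
        ∀ (G : S' ⊗[S] M →ₗ[R] N), (∀ x m, G (x ⊗ₜ m) = theta R S S' (a x) F m) → ∀ t x m,
        G (t • (x ⊗ₜ m)) - t • G (x ⊗ₜ m) =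
          theta R S S' (a x) (theta R S S' (a t - t ⊗ₜ 1) F) m := by
      intro F hF G hG t x m
      rw [TensorProduct.smul_tmul', smul_eq_mul, hG, hG, cong hF (hmul t x), ← Module.End.mul_apply, ← map_mul,
        mul_sub, map_sub, LinearMap.sub_apply, LinearMap.sub_apply, mul_comm (a x) (a t),
        mul_comm (a x) (t ⊗ₜ[R] (1 : S)), map_mul _ (t ⊗ₜ[R] (1 : S)), Module.End.mul_apply, theta_tmul, one_smul]
    induction j with
    | zero =>
      intro hj F G hF hGF t z
      induction z with
      | zero => simp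
      | add p q hp hq => rw [smul_add, map_add, map_add, hp, hq, smul_add]
      | tmul x m =>
        rw [← sub_eq_zero, hG F (fun y hy => hF y (Ideal.pow_le_pow_right (by lia) hy)) G hGF,
          hF _ (by rw [zero_add, pow_one, RingHom.mem_ker]; show mu R S S' _ = 0; rw [map_sub, hμ]; simp [mu]),
          map_zero, LinearMap.zero_apply]
    | succ j ih =>
      intro hj F G hF hGF t
      refine ih (by lia) (theta R S S' (a t - t ⊗ₜ 1) F) _ (fun y hy => ?_) fun x m => ?_
      · rw [← Module.End.mul_apply, ← map_mul]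
        refine hF _ ?_
        rw [pow_succ]
        refine Ideal.mul_mem_mul hy ?_
        rw [RingHom.mem_ker]
        show mu R S S' _ = 0
        rw [map_sub, hμ]
        simp [mu]
      · rw [DiffOps.comm_apply, hG F (fun y hy => hF y (Ideal.pow_le_pow_right (by lia) hy)) G hGF]
  have h1 : ∀ m, E (1 ⊗ₜ m) = D m := fun m => by
    rw [hE, show (1 : S') = algebraMap S S' 1 from (map_one _).symm, cong (killed_of_diff R S S' k D hD) (halg 1),
      theta_tmul, one_smul, one_smul]
  refine ⟨E, ⟨horder k le_rfl D E (killed_of_diff R S S' k D hD) hE, h1⟩, fun E' hE' => ?_⟩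
  exact sub_eq_zero.1 (eq_zero_of_comp_eq_zero R S S' k (E' - E)
    (DiffOps.diff_sub hE'.1 (horder k le_rfl D E (killed_of_diff R S S' k D hD) hE))
    fun m => by rw [LinearMap.sub_apply, hE'.2, h1, sub_self])

theorem diff_res : ∀ (n : ℕ) (E : S' ⊗[S] M →ₗ[R] N), IsDiffOpLE R S' (S' ⊗[S] M) N n E →
    IsDiffOpLE R S M N n (E ∘ₗ (TensorProduct.mk S S' M 1).restrictScalars R) := by
  intro n
  induction n with
  | zero =>
    intro E hE s m
    simp only [LinearMap.comp_apply, LinearMap.coe_restrictScalars, map_smul]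
    rw [← algebraMap_smul S' s (TensorProduct.mk S S' M 1 m), hE, algebraMap_smul]
  | succ n ih =>
    intro E hE s
    have h := ih _ (hE (algebraMap S S' s))
    convert h using 1
    ext m
    simp [DiffOps.comm_apply, algebraMap_smul]

end Etale

theorem diff_post (R : Type u) {S : Type u} [CommRing R] [CommRing S] [Algebra R S] {M N P : Type u}
    [AddCommGroup M] [Module R M] [Module S M] [IsScalarTower R S M]
    [AddCommGroup N] [Module R N] [Module S N] [IsScalarTower R S N]
    [AddCommGroup P] [Module R P] [Module S P] [IsScalarTower R S P] (α : N →ₗ[S] P) :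
    ∀ (n : ℕ) (D : M →ₗ[R] N), IsDiffOpLE R S M N n D → IsDiffOpLE R S M P n (α.restrictScalars R ∘ₗ D) := by
  intro n
  induction n with
  | zero => intro D hD b m; simp [hD b m]
  | succ n ih =>
    intro D hD b
    convert ih _ (hD b) using 1
    ext m; simp

theorem diff_pre (R : Type u) {S : Type u} [CommRing R] [CommRing S] [Algebra R S] {M N P : Type u}
    [AddCommGroup M] [Module R M] [Module S M] [IsScalarTower R S M]
    [AddCommGroup N] [Module R N] [Module S N] [IsScalarTower R S N]
    [AddCommGroup P] [Module R P] [Module S P] [IsScalarTower R S P] (α : P →ₗ[S] M) :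
    ∀ (n : ℕ) (D : M →ₗ[R] N), IsDiffOpLE R S M N n D → IsDiffOpLE R S P N n (D ∘ₗ α.restrictScalars R) := by
  intro n
  induction n with
  | zero => intro D hD b m; simp [hD b]
  | succ n ih =>
    intro D hD b
    convert ih _ (hD b) using 1
    ext m; simp

end Groth.Agent.Easy3.DiffEtale
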