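import Groth.Agent.Easy3.NoetherDiff

/-! The trace different and ramification, finite free case. -/

set_option autoImplicit false

namespace Groth.Agent.Easy3.DiffRam

universe u v

open TensorProduct Groth.Agent.Easy3.NoetherDiff

variable {A : Type u} {B : Type v} [CommRing A] [CommRing B] [Algebra A B]

local notation "μ" => Algebra.TensorProduct.lmul' (S := B) A
local notation "I" => KaehlerDifferential.ideal A B

theorem mul_eq_smul {y : B ⊗[A] B} (hy : ∀ i ∈ I, y * i = 0) (z : B ⊗[A] B) : y * z = μ z • y := by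
  rw [Algebra.smul_def, mul_comm (algebraMap B (B ⊗[A] B) (μ z)), ← sub_eq_zero, ← mul_sub]
  refine hy _ ?_
  rw [RingHom.mem_ker, map_sub]
  simp [Algebra.TensorProduct.algebraMap_apply]

variable [Module.Free A B] [Module.Finite A B]

theorem trace_tmul (u v : B) : Algebra.trace B (B ⊗[A] B) (u ⊗ₜ[A] v) = u * algebraMap A B (Algebra.trace A B v) := by
  have h1 : Algebra.lmul B (B ⊗[A] B) (u ⊗ₜ[A] v) = u • (Algebra.lmul A B v).baseChange B := by
    refine LinearMap.restrictScalars_injective A (TensorProduct.ext' fun a b => ?_)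
    simp [TensorProduct.smul_tmul']
  rw [Algebra.trace_apply, h1, map_smul, LinearMap.trace_baseChange, ← Algebra.trace_apply, smul_eq_mul]

theorem trace_of_ann {y : B ⊗[A] B} (hy : ∀ i ∈ I, y * i = 0) : Algebra.trace B (B ⊗[A] B) y = μ y := by
  let m : (B ⊗[A] B) →ₗ[B] B :=
    { toFun := μ
      map_add' := map_add _
      map_smul' := fun c z => by simp [Algebra.smul_def, Algebra.TensorProduct.algebraMap_apply] }
  have hfac : Algebra.lmul B (B ⊗[A] B) y = (LinearMap.toSpanSingleton B _ y) ∘ₗ m :=
    LinearMap.ext fun z => mul_eq_smul hy z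
  rw [Algebra.trace_apply, hfac, LinearMap.trace_comp_comm']
  rcases subsingleton_or_nontrivial B with _ | _
  · exact Subsingleton.elim _ _
  have h3 : m ∘ₗ LinearMap.toSpanSingleton B _ y = μ y • LinearMap.id := by
    apply LinearMap.ext_ring
    show μ ((1 : B) • y) = μ y • (1 : B)
    rw [one_smul, smul_eq_mul, mul_one]
  rw [h3, map_smul, LinearMap.trace_id, Module.finrank_self, Nat.cast_one, smul_eq_mul, mul_one]

/-- symmetric annihilating elements lie over the different. -/
theorem mu_mem_different {y : B ⊗[A] B} (hy : ∀ i ∈ I, y * i = 0)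
    (hsym : Algebra.TensorProduct.comm A B B y = y) : μ y ∈ Disc.differentSet A B := by
  intro φ
  let L : B ⊗[A] B →ₗ[A] B := TensorProduct.lift ((LinearMap.lsmul A B).flip.compl₂ φ)
  have hL : ∀ u v : B, L (u ⊗ₜ v) = φ v • u := fun u v => rfl
  refine ⟨L y, fun z => ?_⟩
  have h1 : ∀ w : B ⊗[A] B, Algebra.trace A B (L w * z) =
      φ (Algebra.trace B (B ⊗[A] B) (Algebra.TensorProduct.comm A B B w * ((1 : B) ⊗ₜ[A] z))) := by
    intro w
    induction w with
    | zero => simp
    | add p q hp hq => simp only [map_add, add_mul, hp, hq]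
    | tmul u v =>
      rw [hL, smul_mul_assoc, map_smul, Algebra.TensorProduct.comm_tmul, Algebra.TensorProduct.tmul_mul_tmul,
        mul_one, trace_tmul, mul_comm v, ← Algebra.smul_def, map_smul, smul_eq_mul, smul_eq_mul, mul_comm]
  rw [h1, hsym, trace_of_ann (fun i hi => by rw [mul_right_comm, hy i hi, zero_mul]), map_mul μ,
    Algebra.TensorProduct.lmul'_apply_tmul, one_mul]

theorem not_subset_of_unramified [Algebra.FiniteType A B] (q : Ideal B) [q.IsPrime] (h : Algebra.IsUnramifiedAt A q) :
    ¬ Disc.differentSet A B ⊆ q := by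
  intro hle
  obtain ⟨c, hc, hcq⟩ := SetLike.not_le_iff_exists.1 ((not_le_iff A B q).2 h)
  obtain ⟨x, hx, rfl⟩ := (mem_noetherDifferent A B).1 hc
  refine hcq ((Ideal.IsPrime.mem_or_mem ‹_› ?_).elim id id)
  have hx' : ∀ i ∈ I, x * Algebra.TensorProduct.comm A B B x * i = 0 := fun i hi => by
    rw [mul_right_comm, hx i hi, zero_mul]
  have hsym : Algebra.TensorProduct.comm A B B (x * Algebra.TensorProduct.comm A B B x) =
      x * Algebra.TensorProduct.comm A B B x := by
    have hcc : ∀ w : B ⊗[A] B, Algebra.TensorProduct.comm A B B (Algebra.TensorProduct.comm A B B w) = w := fun w => by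
      induction w with
      | zero => simp
      | add p q hp hq => rw [map_add, map_add, hp, hq]
      | tmul u v => rfl
    rw [map_mul, hcc, mul_comm]
  have hμ : ∀ w : B ⊗[A] B, μ (Algebra.TensorProduct.comm A B B w) = μ w := fun w => by
    induction w with
    | zero => simp
    | add p q hp hq => rw [map_add, map_add, map_add, hp, hq]
    | tmul u v => simp [mul_comm]
  have := hle (mu_mem_different hx' hsym)
  rwa [map_mul, hμ] at this

theorem sq_mem_noetherDifferent {x : B} (hx : x ∈ Disc.differentSet A B) :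
    x * x ∈ Disc.noetherDifferent A B := by
  classical
  set b := Module.Free.chooseBasis A B
  choose c hc using fun j => hx (b.coord j)
  have hkill : ∀ w : B, (∀ z, Algebra.trace A B (w * z) = 0) → x * w = 0 := fun w hw => by
    refine b.ext_elem fun j => ?_
    rw [map_zero, Finsupp.zero_apply, ← Module.Basis.coord_apply, hc, mul_comm]
    exact hw (c j)
  let e : B ⊗[A] B := ∑ j, b j ⊗ₜ[A] c j
  have he : ∀ y : B, ∑ j, Algebra.trace A B (c j * y) • b j = x * y := fun y => by
    conv_rhs => rw [← b.sum_repr (x * y)]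
    refine Finset.sum_congr rfl fun j _ => ?_
    rw [← hc, Module.Basis.coord_apply]
  let T : B → (B ⊗[A] B →ₗ[A] B) := fun y =>
    TensorProduct.lift ((LinearMap.lsmul A B).flip.compl₂ ((Algebra.trace A B).comp (LinearMap.mulRight A y)))
  have hT : ∀ (y u v : B), T y (u ⊗ₜ v) = Algebra.trace A B (v * y) • u := fun y u v => rfl
  have hker : ∀ w : B ⊗[A] B, (∀ y, T y w = 0) → ((1 : B) ⊗ₜ[A] x) * w = 0 := by
    intro w hw
    obtain ⟨v, rfl⟩ : ∃ v : Module.Free.ChooseBasisIndex A B → B, w = ∑ j, b j ⊗ₜ[A] v j := by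
      clear hw
      induction w with
      | zero => exact ⟨0, by simp⟩
      | add p q hp hq =>
        obtain ⟨v, rfl⟩ := hp
        obtain ⟨v', rfl⟩ := hq
        exact ⟨v + v', by simp [TensorProduct.tmul_add, Finset.sum_add_distrib]⟩
      | tmul u z =>
        refine ⟨fun j => b.repr u j • z, ?_⟩
        conv_lhs => rw [← b.sum_repr u, TensorProduct.sum_tmul]
        simp [TensorProduct.smul_tmul]
    rw [Finset.mul_sum]
    refine Finset.sum_eq_zero fun j _ => ?_
    rw [Algebra.TensorProduct.tmul_mul_tmul, hkill (v j) fun y => ?_, TensorProduct.tmul_zero]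
    have h1 := hw y
    simp only [map_sum, hT] at h1
    exact Fintype.linearIndependent_iff.1 b.linearIndependent (fun j => Algebra.trace A B (v j * y)) h1 j
  refine (mem_noetherDifferent A B).2 ⟨((1 : B) ⊗ₜ[A] x) * e, fun i hi => ?_, ?_⟩
  · rw [← KaehlerDifferential.span_range_eq_ideal] at hi
    induction hi using Submodule.span_induction with
    | mem g hg =>
      obtain ⟨z, rfl⟩ := hg
      rw [mul_assoc]
      refine hker _ fun y => ?_
      simp only [e, Finset.sum_mul, mul_sub, Algebra.TensorProduct.tmul_mul_tmul, mul_one, map_sum, map_sub, hT,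
        Finset.sum_sub_distrib]
      rw [sub_eq_zero, Finset.sum_congr rfl fun j _ => (smul_mul_assoc (Algebra.trace A B (c j * y)) (b j) z).symm,
        ← Finset.sum_mul, he, Finset.sum_congr rfl fun j _ => by rw [mul_assoc], he]
      ring
    | zero => rw [mul_zero]
    | add p q _ _ hp hq => rw [mul_add, hp, hq, add_zero]
    | smul r p _ hp => rw [smul_eq_mul, mul_left_comm, hp, mul_zero]
  · have hz : x * (μ e - x) = 0 := hkill _ fun z => by
      rw [sub_mul, map_sub, sub_eq_zero, map_sum, Finset.sum_mul, map_sum,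
        Algebra.trace_apply A (x * z), LinearMap.trace_eq_matrix_trace A b, Matrix.trace]
      refine Finset.sum_congr rfl fun j _ => ?_
      rw [Algebra.TensorProduct.lmul'_apply_tmul, Matrix.diag, LinearMap.toMatrix_apply, mul_comm (b j) (c j), mul_assoc,
        ← hc, Module.Basis.coord_apply]
      show b.repr (x * (b j * z)) j = b.repr ((x * z) * b j) j
      rw [mul_comm (b j) z, mul_assoc]
    rw [mul_sub, sub_eq_zero] at hz
    rw [map_mul, Algebra.TensorProduct.lmul'_apply_tmul, one_mul, hz]

theorem subset_iff [Algebra.FiniteType A B] (q : Ideal B) [q.IsPrime] :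
    Disc.differentSet A B ⊆ q ↔ ¬ Algebra.IsUnramifiedAt A q := by
  refine ⟨fun h hu => not_subset_of_unramified q hu h, fun h x hx => ?_⟩
  rw [← not_le_iff A B q, not_not] at h
  exact (Ideal.IsPrime.mem_or_mem ‹_› (h (sq_mem_noetherDifferent hx))).elim id id

end Groth.Agent.Easy3.DiffRam
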