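import Groth.Prelude.Def_Disc
import Mathlib

/-! Norm of the different and the discriminant. -/

set_option autoImplicit false

namespace Groth.Agent.Easy3.Different

universe u v

open Matrix

variable {A : Type u} {B : Type v} [CommRing A] [CommRing B] [Algebra A B] {ι : Type} [Fintype ι] [DecidableEq ι]

theorem norm_mem (b : Module.Basis ι A B) (x : B) (hx : x ∈ Disc.differentSet A B) :
    Algebra.norm A x ∈ Ideal.span {Algebra.discr A b} := by
  choose c hc using fun i => hx (b.coord i)
  let C : Matrix ι ι A := Matrix.of fun i k => b.repr (c i) k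
  have hL : Algebra.leftMulMatrix b x = C * Algebra.traceMatrix A b := by
    ext i j
    rw [Algebra.leftMulMatrix_eq_repr_mul, ← Module.Basis.coord_apply, hc i (b j), Matrix.mul_apply]
    conv_lhs => rw [← b.sum_repr (c i), Finset.sum_mul, map_sum]
    refine Finset.sum_congr rfl fun k _ => ?_
    rw [smul_mul_assoc, map_smul, Algebra.traceMatrix_apply, Algebra.traceForm_apply, smul_eq_mul]
    rfl
  rw [Algebra.norm_eq_matrix_det b, hL, Matrix.det_mul, ← Algebra.discr_def]
  exact Ideal.mul_mem_left _ _ (Ideal.mem_span_singleton_self _)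

theorem span_norm_eq {A B : Type u} [CommRing A] [CommRing B] [Algebra A B] (b : Module.Basis ι A B)
    [Module.Invertible B (Disc.Omega A B)] :
    Ideal.span (Algebra.norm A '' Disc.differentSet A B) = Ideal.span {Algebra.discr A b} := by
  haveI : Module.Free A B := Module.Free.of_basis b
  haveI : Module.Finite A B := Module.Finite.of_basis b
  refine le_antisymm (Ideal.span_le.2 ?_) ?_
  · rintro - ⟨x, hx, rfl⟩
    exact norm_mem b x hx
  rw [Ideal.span_singleton_le_iff_mem]
  set J := Ideal.span (Algebra.norm A '' Disc.differentSet A B)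
  let K : Ideal A := (⊥ : Submodule A (A ⧸ J)).colon {Ideal.Quotient.mk J (Algebra.discr A b)}
  have hK : ∀ a, a ∈ K ↔ a * Algebra.discr A b ∈ J := fun a => by
    rw [Submodule.mem_colon_singleton, Submodule.mem_bot, Algebra.smul_def, Ideal.Quotient.algebraMap_eq,
      ← map_mul, Ideal.Quotient.eq_zero_iff_mem]
  suffices K = ⊤ by simpa using (hK 1).1 (this ▸ Submodule.mem_top)
  by_contra hne
  obtain ⟨p, hp, hKp⟩ := Ideal.exists_le_maximal K hne
  let Bp := B ⧸ p.map (algebraMap A B)
  letI : Field (A ⧸ p) := Ideal.Quotient.field p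
  haveI : Module.Finite (A ⧸ p) Bp := Module.Finite.of_restrictScalars_finite A _ _
  haveI : IsArtinianRing Bp := IsArtinianRing.of_finite (A ⧸ p) Bp
  haveI : Subsingleton (CommRing.Pic Bp) := inferInstance
  haveI : Module.Free Bp (TensorProduct B Bp (Disc.Omega A B)) := inferInstance
  obtain ⟨e⟩ : Nonempty (TensorProduct B Bp (Disc.Omega A B) ≃ₗ[Bp] Bp) := Module.Invertible.free_iff_linearEquiv.1 ‹_›
  let q : Disc.Omega A B →ₗ[B] Bp := (e.restrictScalars B).toLinearMap ∘ₗ TensorProduct.mk B Bp (Disc.Omega A B) 1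
  have hq : Function.Surjective q :=
    e.surjective.comp (TensorProduct.mk_surjective B _ Bp Ideal.Quotient.mk_surjective)
  have hker : LinearMap.ker q = p.map (algebraMap A B) • (⊤ : Submodule B (Disc.Omega A B)) := by
    ext w
    rw [LinearMap.mem_ker, LinearMap.comp_apply, LinearEquiv.coe_coe, LinearEquiv.map_eq_zero_iff,
      ← (TensorProduct.quotTensorEquivQuotSMul (Disc.Omega A B) (p.map (algebraMap A B))).map_eq_zero_iff]
    simp [Bp]
  obtain ⟨θ, hθ⟩ := hq 1
  haveI : Module.Finite B (Disc.Omega A B) := inferInstance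
  let N := (⊤ : Submodule B (Disc.Omega A B))
  let S : Submodule B (Disc.Omega A B) := Submodule.span B {θ}
  have hcov : (⊤ : Submodule B (Disc.Omega A B ⧸ S)) ≤ p.map (algebraMap A B) • ⊤ := by
    intro w _
    obtain ⟨w, rfl⟩ := S.mkQ_surjective w
    obtain ⟨c, hc⟩ := Ideal.Quotient.mk_surjective (q w)
    have h1 : w - c • θ ∈ p.map (algebraMap A B) • (⊤ : Submodule B (Disc.Omega A B)) := by
      rw [← hker, LinearMap.mem_ker, map_sub, map_smul, hθ, ← hc, Algebra.smul_def, mul_one,
        Ideal.Quotient.algebraMap_eq, sub_self]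
    have h2 : S.mkQ (w - c • θ) ∈ p.map (algebraMap A B) • (⊤ : Submodule B (Disc.Omega A B ⧸ S)) := by
      have := Submodule.mem_map_of_mem (f := S.mkQ) h1
      rwa [Submodule.map_smul'', Submodule.map_top, S.range_mkQ] at this
    rwa [map_sub, show S.mkQ (c • θ) = 0 from (Submodule.Quotient.mk_eq_zero _).2
      (S.smul_mem c (Submodule.mem_span_singleton_self θ)), sub_zero] at h2
  obtain ⟨r, hr1, hr0⟩ := Submodule.exists_sub_one_mem_and_smul_eq_zero_of_fg_of_le_smul _ _ Module.Finite.fg_top hcov
  let L : Ideal B := Module.annihilator B (Disc.Omega A B ⧸ S)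
  have hrL : r ∈ L := Module.mem_annihilator.2 fun w => hr0 w Submodule.mem_top
  haveI : Algebra.IsIntegral A B := Algebra.IsIntegral.of_finite A B
  obtain ⟨s, hsL, hsp⟩ : ∃ s, algebraMap A B s ∈ L ∧ s ∉ p := by
    by_contra! hle
    obtain ⟨Q, hQL, hQp, hQc⟩ := Ideal.exists_ideal_over_prime_of_isIntegral p L hle
    have h1 : r - 1 ∈ Q := (Ideal.map_le_iff_le_comap.2 hQc.ge) hr1
    exact hQp.ne_top ((Ideal.eq_top_iff_one Q).2 (by simpa using Q.sub_mem (hQL hrL) h1))
  have hφ : ∀ φ : B →ₗ[A] A, ∃ c : B, ∀ z, s * φ z = θ.toLinearMap (c * z) := by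
    intro φ
    have := Module.mem_annihilator.1 hsL (S.mkQ ⟨φ⟩)
    rw [← map_smul, Submodule.mkQ_apply, Submodule.Quotient.mk_eq_zero, Submodule.mem_span_singleton] at this
    obtain ⟨c, hc⟩ := this
    refine ⟨c, fun z => ?_⟩
    have hz := congrArg (fun w : Disc.Omega A B => w.toLinearMap z) hc
    simp only [Disc.Omega.smul_toLinearMap_apply] at hz
    rw [hz, ← Algebra.smul_def, map_smul, smul_eq_mul]
  obtain ⟨c, hc⟩ := hφ (Algebra.trace A B)
  -- `s • trace = c • θ`
  by_cases hs : s ^ Fintype.card ι * (s ^ Fintype.card ι * Algebra.discr A b) ∈ J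
  · rw [← mul_assoc, ← hK] at hs
    rcases hp.isPrime.mem_or_mem (hKp hs) with h | h <;> exact hsp (hp.isPrime.mem_of_pow_mem _ h)
  · exact hs (by
      have hx : algebraMap A B s * c ∈ Disc.differentSet A B := by
        intro φ
        obtain ⟨d, hd⟩ := hφ φ
        refine ⟨algebraMap A B s * d, fun y => ?_⟩
        rw [mul_assoc, ← Algebra.smul_def, map_smul, smul_eq_mul, hd, mul_assoc (algebraMap A B s) d y,
          ← Algebra.smul_def, map_smul, smul_eq_mul, hc]
        ring_nf
      let D : Matrix ι ι A := Matrix.of fun k j => θ.toLinearMap (b k * b j)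
      have hT : s • Algebra.traceMatrix A b = (Algebra.leftMulMatrix b c)ᵀ * D := by
        ext i j
        rw [Matrix.smul_apply, smul_eq_mul, Algebra.traceMatrix_apply, Algebra.traceForm_apply, hc, ← mul_assoc,
          Matrix.mul_apply]
        conv_lhs => rw [← b.sum_repr (c * b i), Finset.sum_mul, map_sum]
        refine Finset.sum_congr rfl fun k _ => ?_
        rw [smul_mul_assoc, map_smul, Matrix.transpose_apply, Algebra.leftMulMatrix_eq_repr_mul, smul_eq_mul]
        rfl
      have hdet := congrArg Matrix.det hT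
      rw [Matrix.det_smul, ← Algebra.discr_def, Matrix.det_mul, Matrix.det_transpose,
        ← Algebra.norm_eq_matrix_det b] at hdet
      rw [hdet, ← mul_assoc, ← Algebra.norm_algebraMap_of_basis b s, ← map_mul]
      exact Ideal.mul_mem_right _ _ (Ideal.subset_span ⟨_, hx, rfl⟩))

end Groth.Agent.Easy3.Different
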