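import Mathlib

/-! Corepresentability of `Q ↦ Hom(R, Q[[z]])`. -/

set_option autoImplicit false

namespace Groth.Agent.Easy3.DiscSections

universe u

variable (k : Type u) [CommRing k] (σ : Type) [Finite σ] (R : Type u) [CommRing R] [Algebra (MvPowerSeries σ k) R]

/-- variables. -/
abbrev Poly := MvPolynomial (R × (σ →₀ ℕ)) k

/-- tautological power series. -/
noncomputable def taut (r : R) : MvPowerSeries σ (Poly k σ R) := fun d => MvPolynomial.X (r, d)

/-- defining relations. -/
def rels : Set (Poly k σ R) :=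
  {x | ∃ (r s : R) (d : σ →₀ ℕ), x = MvPowerSeries.coeff d (taut k σ R (r + s) - (taut k σ R r + taut k σ R s))} ∪
  {x | ∃ (r s : R) (d : σ →₀ ℕ), x = MvPowerSeries.coeff d (taut k σ R (r * s) - taut k σ R r * taut k σ R s)} ∪
  {x | ∃ (a : MvPowerSeries σ k) (d : σ →₀ ℕ), x = MvPowerSeries.coeff d
    (taut k σ R (algebraMap (MvPowerSeries σ k) R a) - MvPowerSeries.map (algebraMap k (Poly k σ R)) a)}

/-- the representing ring. -/
abbrev Sect : Type u := Poly k σ R ⧸ Ideal.span (rels k σ R)

theorem coeff_mem (x : MvPowerSeries σ (Poly k σ R)) (h : ∀ d, MvPowerSeries.coeff d x ∈ rels k σ R) :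
    MvPowerSeries.map (Ideal.Quotient.mk (Ideal.span (rels k σ R))) x = 0 := by
  ext d
  rw [MvPowerSeries.coeff_map, map_zero, Ideal.Quotient.eq_zero_iff_mem]
  exact Ideal.subset_span (h d)

/-- universal section. -/
noncomputable def univSec : R →ₐ[MvPowerSeries σ k] MvPowerSeries σ (Sect k σ R) where
  toFun r := MvPowerSeries.map (Ideal.Quotient.mk (Ideal.span (rels k σ R))) (taut k σ R r)
  map_add' r s := by
    rw [← map_add, ← sub_eq_zero, ← map_sub]
    exact coeff_mem k σ R _ fun d => Or.inl (Or.inl ⟨r, s, d, rfl⟩)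
  map_mul' r s := by
    rw [← map_mul, ← sub_eq_zero, ← map_sub]
    exact coeff_mem k σ R _ fun d => Or.inl (Or.inr ⟨r, s, d, rfl⟩)
  map_one' := by
    have h := coeff_mem k σ R _ fun d => Or.inr ⟨1, d, rfl⟩
    rw [map_sub, sub_eq_zero, map_one] at h
    rw [h, map_one, map_one]
  map_zero' := by
    have h := coeff_mem k σ R _ fun d => Or.inr ⟨0, d, rfl⟩
    rw [map_sub, sub_eq_zero, map_zero] at h
    rw [h, map_zero, map_zero]
  commutes' a := by
    have h := coeff_mem k σ R _ fun d => Or.inr ⟨a, d, rfl⟩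
    rw [map_sub, sub_eq_zero] at h
    rw [h, MvPowerSeries.algebraMap_apply'']
    ext d
    simp [MvPowerSeries.coeff_map]
    rfl

theorem coeff_univSec (r : R) (d : σ →₀ ℕ) :
    MvPowerSeries.coeff d (univSec k σ R r) = Ideal.Quotient.mk (Ideal.span (rels k σ R)) (MvPolynomial.X (r, d)) :=
  MvPowerSeries.coeff_map (Ideal.Quotient.mk (Ideal.span (rels k σ R))) d (taut k σ R r)

theorem existsUnique_lift (Q : Type u) [CommRing Q] [Algebra k Q] (f : R →ₐ[MvPowerSeries σ k] MvPowerSeries σ Q) :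
    ∃! g : Sect k σ R →ₐ[k] Q,
      (MvPowerSeries.map (σ := σ) (g : Sect k σ R →+* Q)).comp (univSec k σ R : R →+* MvPowerSeries σ (Sect k σ R)) =
        (f : R →+* MvPowerSeries σ Q) := by
  let g₀ : Poly k σ R →ₐ[k] Q := MvPolynomial.aeval fun rd => MvPowerSeries.coeff rd.2 (f rd.1)
  have htaut : ∀ r, MvPowerSeries.map (g₀ : Poly k σ R →+* Q) (taut k σ R r) = f r := fun r => by
    ext d
    rw [MvPowerSeries.coeff_map]
    exact MvPolynomial.aeval_X _ _
  have h0 : ∀ x ∈ Ideal.span (rels k σ R), g₀ x = 0 := by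
    intro x hx
    induction hx using Submodule.span_induction with
    | mem x hx =>
      have e : ∀ (X : MvPowerSeries σ (Poly k σ R)) (d : σ →₀ ℕ),
          MvPowerSeries.map (g₀ : Poly k σ R →+* Q) X = 0 → g₀ (MvPowerSeries.coeff d X) = 0 := fun X d hX => by
        have := congrArg (MvPowerSeries.coeff d) hX
        rwa [MvPowerSeries.coeff_map, map_zero] at this
      rcases hx with (⟨r, s, d, rfl⟩ | ⟨r, s, d, rfl⟩) | ⟨a, d, rfl⟩ <;> refine e _ _ ?_
      · rw [map_sub, map_add, htaut, htaut, htaut, map_add, sub_self]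
      · rw [map_sub, map_mul, htaut, htaut, htaut, map_mul, sub_self]
      · rw [map_sub, htaut, sub_eq_zero, AlgHom.commutes, MvPowerSeries.algebraMap_apply'']
        ext d
        simp [MvPowerSeries.coeff_map]
    | zero => exact map_zero g₀
    | add x y _ _ hx hy => rw [map_add, hx, hy, add_zero]
    | smul c x _ hx => rw [smul_eq_mul, map_mul, hx, mul_zero]
  refine ⟨Ideal.Quotient.liftₐ _ g₀ h0, ?_, fun g hg => ?_⟩
  · refine RingHom.ext fun r => ?_
    ext d
    rw [RingHom.comp_apply, MvPowerSeries.coeff_map]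
    show Ideal.Quotient.liftₐ _ g₀ h0 (MvPowerSeries.coeff d (univSec k σ R r)) = _
    rw [coeff_univSec]
    exact MvPolynomial.aeval_X _ _
  · refine Ideal.Quotient.algHom_ext k (MvPolynomial.algHom_ext fun rd => ?_)
    have h1 := congrArg (MvPowerSeries.coeff rd.2) (RingHom.congr_fun hg rd.1)
    rw [RingHom.comp_apply, MvPowerSeries.coeff_map] at h1
    change g (MvPowerSeries.coeff rd.2 (univSec k σ R rd.1)) = _ at h1
    rw [coeff_univSec] at h1
    rw [AlgHom.comp_apply, AlgHom.comp_apply, Ideal.Quotient.mkₐ_eq_mk, Ideal.Quotient.liftₐ_apply, Ideal.Quotient.lift_mk]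
    exact h1.trans (MvPolynomial.aeval_X (fun rd => MvPowerSeries.coeff rd.2 (f rd.1)) rd).symm

theorem countable_gen (s : Set R) (hs : s.Countable) (hgen : Algebra.adjoin (MvPowerSeries σ k) s = ⊤) :
    ∃ t : Set (Sect k σ R), t.Countable ∧ Algebra.adjoin k t = ⊤ := by
  classical
  refine ⟨(fun rd : R × (σ →₀ ℕ) => MvPowerSeries.coeff rd.2 (univSec k σ R rd.1)) '' (s ×ˢ Set.univ),
    (hs.prod Set.countable_univ).image _, ?_⟩
  set B := Algebra.adjoin k ((fun rd : R × (σ →₀ ℕ) => MvPowerSeries.coeff rd.2 (univSec k σ R rd.1)) '' (s ×ˢ Set.univ))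
  have hall : ∀ r : R, ∀ d, MvPowerSeries.coeff d (univSec k σ R r) ∈ B := by
    intro r
    have hr : r ∈ Algebra.adjoin (MvPowerSeries σ k) s := by rw [hgen]; trivial
    induction hr using Algebra.adjoin_induction with
    | mem r hr => exact fun d => Algebra.subset_adjoin ⟨(r, d), ⟨hr, trivial⟩, rfl⟩
    | algebraMap a =>
      intro d
      rw [AlgHom.commutes, MvPowerSeries.algebraMap_apply'']
      simp only [MvPowerSeries.coeff_map]
      exact B.algebraMap_mem _
    | add x y _ _ hx hy => exact fun d => by rw [map_add, map_add]; exact B.add_mem (hx d) (hy d)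
    | mul x y _ _ hx hy =>
      intro d
      rw [map_mul, MvPowerSeries.coeff_mul]
      exact Subalgebra.sum_mem _ fun p _ => B.mul_mem (hx _) (hy _)
  refine top_le_iff.1 fun x _ => ?_
  obtain ⟨x, rfl⟩ := Ideal.Quotient.mk_surjective x
  induction x using MvPolynomial.induction_on with
  | C a => exact B.algebraMap_mem a
  | add p q hp hq => rw [map_add]; exact B.add_mem (hp trivial) (hq trivial)
  | mul_X p rd hp =>
    rw [map_mul, ← coeff_univSec]
    exact B.mul_mem (hp trivial) (hall _ _)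

end Groth.Agent.Easy3.DiscSections
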