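import Mathlib.Algebra.BigOperators.Intervals
import Mathlib.Algebra.Module.BigOperators
import Mathlib.Algebra.Ring.Subring.Basic
import Mathlib.Logic.Function.Iterate
import Mathlib.Order.Interval.Finset.Nat

/-! Iterating a display in normal form. -/

universe u v

namespace Groth.Agent.Easy3

theorem display_iterate (W : Type u) [CommRing W] (σ : W →+* W) (p : ℕ) (M : Type v) [AddCommGroup M] [Module W M]
    (F : M →+ M) (hF : ∀ (w : W) (m : M), F (w • m) = σ w • F m) (d c : ℕ) (hd : 0 < d) (hc : 0 < c)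
    (a : ℕ → ℕ → W) (e : ℕ → M) (h1 : ∀ i : ℕ, 1 ≤ i → i < d → F (e i) = e (i + 1))
    (h2 : F (e d) = (∑ i ∈ Finset.Icc 1 d, a i d • e i) + e (d + 1))
    (h3 : ∀ j : ℕ, d < j → j < d + c →
      F (e j) = (∑ i ∈ Finset.Icc 1 d, ((p : W) * a i j) • e i) + (p : W) • e (j + 1))
    (h4 : F (e (d + c)) = ∑ i ∈ Finset.Icc 1 d, ((p : W) * a i (d + c)) • e i) :
    (⇑F)^[d + c] (e 1) = ∑ i ∈ Finset.Icc 1 d, ∑ j ∈ Finset.Icc d (d + c),
      ((p : W) ^ (j - d) * (⇑σ)^[d + c - j] (a i j)) • (⇑F)^[d + c + i - j - 1] (e 1) := by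
  have he : ∀ i, 1 ≤ i → i ≤ d → (⇑F)^[i - 1] (e 1) = e i := by
    intro i hi hid
    induction i with
    | zero => omega
    | succ i ih =>
      rcases Nat.eq_zero_or_pos i with rfl | hpos
      · rfl
      · rw [show i + 1 - 1 = (i - 1) + 1 by omega, Function.iterate_succ_apply', ih hpos (by omega),
          h1 i hpos (by omega)]
  let S : ℕ → M := fun h => ∑ i ∈ Finset.Icc 1 d, ∑ j ∈ Finset.Icc d h,
      ((p : W) ^ (j - d) * (⇑σ)^[h - j] (a i j)) • (⇑F)^[h + i - j - 1] (e 1)
  -- one step
  have hstep : ∀ h, d ≤ h → F (S h) + (p : W) ^ (h + 1 - d) •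
      (∑ i ∈ Finset.Icc 1 d, a i (h + 1) • e i) = S (h + 1) := by
    intro h hh
    simp only [S, map_sum, Finset.smul_sum, ← Finset.sum_add_distrib]
    refine Finset.sum_congr rfl fun i hi => ?_
    rw [Finset.mem_Icc] at hi
    rw [Finset.sum_Icc_succ_top (by omega : d ≤ h + 1)]
    refine congrArg₂ (· + ·) (Finset.sum_congr rfl fun j hj => ?_) ?_
    · rw [Finset.mem_Icc] at hj
      rw [hF, map_mul, map_pow, map_natCast, ← Function.iterate_succ_apply' (⇑F),
        ← Function.iterate_succ_apply' (⇑σ)]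
      congr 3 <;> omega
    · rw [Nat.sub_self, Function.iterate_zero_apply, smul_smul,
        show h + 1 + i - (h + 1) - 1 = i - 1 by omega, he i hi.1 hi.2]
  have main : ∀ k, k < c → (⇑F)^[d + k] (e 1) = S (d + k) + (p : W) ^ k • e (d + k + 1) := by
    intro k
    induction k with
    | zero =>
      intro _
      have hd1 : (⇑F)^[d] (e 1) = F (e d) := by
        conv_lhs => rw [show d = (d - 1) + 1 by omega]
        rw [Function.iterate_succ_apply', he d hd le_rfl]
      rw [Nat.add_zero, hd1, h2, pow_zero, one_smul]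
      congr 1
      refine Finset.sum_congr rfl fun i hi => ?_
      rw [Finset.mem_Icc] at hi
      rw [Finset.Icc_self, Finset.sum_singleton, Nat.sub_self, pow_zero, Function.iterate_zero_apply, one_mul,
        show d + i - d - 1 = i - 1 by omega, he i hi.1 hi.2]
    | succ k ih =>
      intro hk
      rw [show d + (k + 1) = d + k + 1 from rfl, Function.iterate_succ_apply', ih (by omega), map_add, hF, map_pow, map_natCast,
        h3 (d + k + 1) (by omega) (by omega), smul_add, ← hstep (d + k) (by omega),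
        show d + k + 1 - d = k + 1 by omega, smul_smul, ← pow_succ]
      simp only [add_assoc]
      congr 2
      rw [Finset.smul_sum, Finset.smul_sum]
      exact Finset.sum_congr rfl fun i _ => by rw [smul_smul, smul_smul, ← mul_assoc, ← pow_succ]
  obtain ⟨k, rfl⟩ : ∃ k, c = k + 1 := ⟨c - 1, by omega⟩
  show _ = S (d + (k + 1))
  rw [show d + (k + 1) = d + k + 1 from rfl] at h4 ⊢
  rw [Function.iterate_succ_apply', main k (by omega), map_add, hF, map_pow, map_natCast, h4,
    ← hstep (d + k) (by omega), show d + k + 1 - d = k + 1 by omega]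
  congr 1
  rw [Finset.smul_sum, Finset.smul_sum]
  exact Finset.sum_congr rfl fun i _ => by rw [smul_smul, smul_smul, ← mul_assoc, ← pow_succ]

end Groth.Agent.Easy3
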