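import Mathlib.RingTheory.Flat.Localization
import Mathlib.RingTheory.Flat.Stability
import Mathlib.RingTheory.Ideal.AssociatedPrime.Finiteness
import Mathlib.RingTheory.Localization.BaseChange
import Mathlib.RingTheory.Localization.FractionRing
import Mathlib.RingTheory.Localization.LocalizationLocalization
import Mathlib.RingTheory.Flat.TorsionFree

/-! Nonzerodivisors and flatness at associated primes. -/

universe u
open TensorProduct

namespace Groth.Agent.Easy3

theorem nonZeroDivisors_le_comap (A B : Type u) [CommRing A] [CommRing B] [IsNoetherianRing B] [Algebra A B]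
    (h3 : ∀ (q : Ideal B) [q.IsPrime], IsAssociatedPrime q B → Module.Flat A (Localization.AtPrime q)) :
    nonZeroDivisors A ≤ (nonZeroDivisors B).comap (algebraMap A B) := by
  intro a ha
  refine mem_nonZeroDivisors_iff_right.2 fun x hx => ?_
  by_contra hx0
  obtain ⟨q, hq, hle⟩ := exists_le_isAssociatedPrime_of_isNoetherianRing B x hx0
  haveI := hq.isPrime
  haveI := h3 q hq
  have hreg : IsSMulRegular (Localization.AtPrime q) a :=
    Module.Flat.isSMulRegular_of_nonZeroDivisors ha
  have h0 : algebraMap B (Localization.AtPrime q) x = 0 := by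
    refine hreg ?_
    show a • _ = a • (0 : Localization.AtPrime q)
    rw [smul_zero, Algebra.smul_def, IsScalarTower.algebraMap_apply A B (Localization.AtPrime q),
      ← map_mul, mul_comm, hx, map_zero]
  obtain ⟨⟨s, hs⟩, hsx⟩ := (IsLocalization.map_eq_zero_iff q.primeCompl _ _).1 h0
  exact hs (hle (Submodule.mem_colon_singleton.2 (by simpa using hsx)))

theorem flat_atPrime_of_disjoint (A B : Type u) [CommRing A] [CommRing B] [Algebra A B]
    (h2 : Module.Flat (FractionRing A) (FractionRing A ⊗[A] B))
    (q : Ideal B) [q.IsPrime] (hd : ∀ a ∈ nonZeroDivisors A, algebraMap A B a ∉ q) :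
    Module.Flat A (Localization.AtPrime q) := by
  haveI : Module.Flat A (FractionRing A) := IsLocalization.flat _ (nonZeroDivisors A)
  haveI : Module.Flat A (FractionRing A ⊗[A] B) := Module.Flat.trans A (FractionRing A) _
  haveI : Module.Flat A (B ⊗[A] FractionRing A) :=
    Module.Flat.of_linearEquiv (TensorProduct.comm A B (FractionRing A))
  let T := B ⊗[A] FractionRing A
  haveI : IsLocalization (Algebra.algebraMapSubmonoid B (nonZeroDivisors A)) T :=
    IsLocalization.tensor (FractionRing A) (nonZeroDivisors A)
  have hle : Algebra.algebraMapSubmonoid B (nonZeroDivisors A) ≤ q.primeCompl := by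
    rintro _ ⟨a, ha, rfl⟩
    exact hd a ha
  letI := IsLocalization.localizationAlgebraOfSubmonoidLe T (Localization.AtPrime q) _ q.primeCompl hle
  haveI := IsLocalization.localization_isScalarTower_of_submonoid_le T (Localization.AtPrime q) _ q.primeCompl hle
  haveI : IsScalarTower A T (Localization.AtPrime q) :=
    IsScalarTower.of_algebraMap_eq (R := A) (S := T) (A := Localization.AtPrime q) fun a => by
      rw [IsScalarTower.algebraMap_apply A B T,
        ← IsScalarTower.algebraMap_apply B T (Localization.AtPrime q),
        ← IsScalarTower.algebraMap_apply A B (Localization.AtPrime q)]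
  haveI := IsLocalization.isLocalization_of_submonoid_le T (Localization.AtPrime q) _ q.primeCompl hle
  haveI : Module.Flat T (Localization.AtPrime q) :=
    IsLocalization.flat _ (q.primeCompl.map (algebraMap B T))
  exact Module.Flat.trans A T _

theorem flat_atPrime_assoc (A B : Type u) [CommRing A] [CommRing B] [IsNoetherianRing A]
    [IsNoetherianRing B] [Algebra A B]
    (h1 : nonZeroDivisors A ≤ (nonZeroDivisors B).comap (algebraMap A B))
    (h2 : Module.Flat (FractionRing A) (FractionRing A ⊗[A] B)) :
    (∀ (q : Ideal B) [q.IsPrime], IsAssociatedPrime q B → Module.Flat A (Localization.AtPrime q)) ∧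
      (∀ (q : Ideal B) [q.IsPrime], IsAssociatedPrime (q.comap (algebraMap A B)) A →
        Module.Flat A (Localization.AtPrime q)) := by
  constructor
  · intro q _ hq
    refine flat_atPrime_of_disjoint A B h2 q fun a ha haq => ?_
    have hz : algebraMap A B a ∈ ⋃ p ∈ associatedPrimes B B, (p : Set B) :=
      Set.mem_iUnion₂.2 ⟨q, hq, haq⟩
    rw [biUnion_associatedPrimes_eq_compl_nonZeroDivisors] at hz
    exact hz (h1 ha)
  · intro q _ hq
    refine flat_atPrime_of_disjoint A B h2 q fun a ha haq => ?_
    have hz : a ∈ ⋃ p ∈ associatedPrimes A A, (p : Set A) := Set.mem_iUnion₂.2 ⟨_, hq, haq⟩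
    rw [biUnion_associatedPrimes_eq_compl_nonZeroDivisors] at hz
    exact hz ha

end Groth.Agent.Easy3
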