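import Mathlib.RingTheory.LocalRing.Module
import Mathlib.RingTheory.Flat.Basic
import Mathlib.RingTheory.Flat.Stability
import Mathlib.RingTheory.Nilpotent.Lemmas
import Mathlib.LinearAlgebra.TensorProduct.Prod
import Mathlib.RingTheory.Spectrum.Prime.RingHom

/-! Injections with flat cokernel stay injective after tensoring; reducedness via fibres;
base change of `I ⊓ J = ⊥`. -/

universe u v w u' v'
open TensorProduct

namespace Groth.Agent.Easy3

theorem lTensor_injective_of_flat_quot {R : Type u} [CommRing R]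
    {N₁ : Type v} {N₂ : Type w} {N₃ : Type u'} [AddCommGroup N₁] [Module R N₁]
    [AddCommGroup N₂] [Module R N₂] [AddCommGroup N₃] [Module R N₃] [Module.Flat R N₃]
    (g₁ : N₁ →ₗ[R] N₂) (g₂ : N₂ →ₗ[R] N₃) (hi : Function.Injective g₁)
    (he : Function.Exact g₁ g₂) (hs : Function.Surjective g₂)
    (M : Type v') [AddCommGroup M] [Module R M] : Function.Injective (g₁.lTensor M) := by
  have hsurj : Function.Surjective (Finsupp.linearCombination R (id : M → M)) :=
    Finsupp.linearCombination_id_surjective R M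
  exact lTensor_injective_of_exact_of_exact_of_rTensor_injective
    (LinearMap.exact_subtype_ker_map _) hsurj he hs
    (Module.Flat.rTensor_preserves_injective_linearMap _ (Submodule.subtype_injective _))
    (Module.Flat.lTensor_preserves_injective_linearMap _ hi)

theorem inf_map_eq_bot (R : Type u) (A : Type v) [CommRing R] [CommRing A] [Algebra R A]
    (I J : Ideal A) (hIJ : I ⊓ J = ⊥) [Module.Flat R (A ⧸ (I ⊔ J))] (R' : Type w) [CommRing R']
    [Algebra R R'] :
    I.map (Algebra.TensorProduct.includeRight : A →ₐ[R] R' ⊗[R] A) ⊓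
      J.map (Algebra.TensorProduct.includeRight : A →ₐ[R] R' ⊗[R] A) = ⊥ := by
  let f : A →ₐ[R] (A ⧸ I) × (A ⧸ J) := (Ideal.Quotient.mkₐ R I).prod (Ideal.Quotient.mkₐ R J)
  let g : ((A ⧸ I) × (A ⧸ J)) →ₗ[R] A ⧸ (I ⊔ J) :=
    ((Ideal.Quotient.factorₐ R (le_sup_left : I ≤ I ⊔ J)).toLinearMap.comp (LinearMap.fst R _ _)) -
    ((Ideal.Quotient.factorₐ R (le_sup_right : J ≤ I ⊔ J)).toLinearMap.comp (LinearMap.snd R _ _))
  have hi : Function.Injective f.toLinearMap := by
    refine (injective_iff_map_eq_zero _).2 fun a ha => ?_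
    have h1 : Ideal.Quotient.mk I a = 0 := congrArg Prod.fst ha
    have h2 : Ideal.Quotient.mk J a = 0 := congrArg Prod.snd ha
    have : a ∈ I ⊓ J :=
      ⟨Ideal.Quotient.eq_zero_iff_mem.1 h1, Ideal.Quotient.eq_zero_iff_mem.1 h2⟩
    rwa [hIJ] at this
  have he : Function.Exact f.toLinearMap g := by
    rintro ⟨x, y⟩
    obtain ⟨a, rfl⟩ := Ideal.Quotient.mk_surjective x
    obtain ⟨b, rfl⟩ := Ideal.Quotient.mk_surjective y
    constructor
    · intro h
      have h' : a - b ∈ I ⊔ J := Ideal.Quotient.eq.1 (sub_eq_zero.1 h)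
      obtain ⟨i, hi, j, hj, hij⟩ := Submodule.mem_sup.1 h'
      refine ⟨a - i, Prod.ext ?_ ?_⟩
      · exact Ideal.Quotient.eq.2 (by simpa using neg_mem hi)
      · refine Ideal.Quotient.eq.2 ?_
        rwa [show a - i - b = j by rw [sub_right_comm, ← hij]; ring]
    · rintro ⟨c, hc⟩
      rw [← hc]
      simp [g, f]
  have hs : Function.Surjective g := fun z => by
    obtain ⟨a, rfl⟩ := Ideal.Quotient.mk_surjective z
    exact ⟨(Ideal.Quotient.mk I a, 0), by simp [g]⟩
  have hinj := lTensor_injective_of_flat_quot f.toLinearMap g hi he hs R'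
  rw [eq_bot_iff]
  rintro x ⟨hx1, hx2⟩
  have hI : I.map (Algebra.TensorProduct.includeRight : A →ₐ[R] R' ⊗[R] A) ≤
      RingHom.ker (Algebra.TensorProduct.map (AlgHom.id R R') (Ideal.Quotient.mkₐ R I)) :=
    Ideal.map_le_iff_le_comap.2 fun a ha => by
      simp [Ideal.Quotient.eq_zero_iff_mem.2 ha]
  have hJ : J.map (Algebra.TensorProduct.includeRight : A →ₐ[R] R' ⊗[R] A) ≤
      RingHom.ker (Algebra.TensorProduct.map (AlgHom.id R R') (Ideal.Quotient.mkₐ R J)) :=
    Ideal.map_le_iff_le_comap.2 fun a ha => by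
      simp [Ideal.Quotient.eq_zero_iff_mem.2 ha]
  apply hinj
  rw [map_zero]
  apply (TensorProduct.prodRight R R R' (A ⧸ I) (A ⧸ J)).injective
  rw [map_zero]
  have h1 : (LinearMap.lTensor R' (Ideal.Quotient.mkₐ R I).toLinearMap) x = 0 := hI hx1
  have h2 : (LinearMap.lTensor R' (Ideal.Quotient.mkₐ R J).toLinearMap) x = 0 := hJ hx2
  have key : (TensorProduct.prodRight R R R' (A ⧸ I) (A ⧸ J)).toLinearMap ∘ₗ
      f.toLinearMap.lTensor R' = ((Ideal.Quotient.mkₐ R I).toLinearMap.lTensor R').prod
        ((Ideal.Quotient.mkₐ R J).toLinearMap.lTensor R') :=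
    TensorProduct.ext' fun r a => rfl
  exact (DFunLike.congr_fun key x).trans (Prod.ext h1 h2)

theorem isReduced_of_fibres (A : Type u) (B : Type v) [CommRing A] [CommRing B] [Algebra A B]
    [IsNoetherianRing B] [Module.Flat A (B ⧸ nilradical B)]
    (hfib : ∀ p : PrimeSpectrum A, IsReduced (p.asIdeal.ResidueField ⊗[A] B)) : IsReduced B := by
  suffices h : Module.support B (nilradical B) = ∅ by
    rw [Module.support_eq_empty_iff] at h
    exact nilradical_eq_bot_iff.1 (Submodule.subsingleton_iff_eq_bot.1 h)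
  ext q
  simp only [Set.mem_empty_iff_false, iff_false]
  intro hq
  have hnt := (Module.mem_support_iff_nontrivial_residueField_tensorProduct q).1 hq
  let p : PrimeSpectrum A := PrimeSpectrum.comap (algebraMap A B) q
  haveI := hfib p
  let i : (nilradical B) →ₗ[A] B := (Submodule.subtype (nilradical B)).restrictScalars A
  have hinj := lTensor_injective_of_flat_quot i
    (Ideal.Quotient.mkₐ A (nilradical B)).toLinearMap Subtype.coe_injective
    (fun y => by simp [i, Ideal.Quotient.eq_zero_iff_mem]) Ideal.Quotient.mk_surjective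
    p.asIdeal.ResidueField
  have hzero : ∀ x : nilradical B, ((1 : p.asIdeal.ResidueField) ⊗ₜ[A] x) = 0 := fun x => by
    apply hinj
    rw [map_zero, LinearMap.lTensor_tmul]
    exact ((mem_nilradical.1 x.2).map
      (Algebra.TensorProduct.includeRight : B →ₐ[A] p.asIdeal.ResidueField ⊗[A] B)).eq_zero
  have hall : ∀ z : q.asIdeal.ResidueField ⊗[B] (nilradical B), z = 0 := fun z => by
    induction z using TensorProduct.induction_on with
    | zero => rfl
    | add a b ha hb => rw [ha, hb, add_zero]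
    | tmul a x =>
      let φ : p.asIdeal.ResidueField ⊗[A] (nilradical B) →ₗ[A]
          q.asIdeal.ResidueField ⊗[B] (nilradical B) :=
        TensorProduct.lift (((((TensorProduct.mk B q.asIdeal.ResidueField
          (nilradical B)).restrictScalars₁₂ A A).comp
            (Ideal.ResidueField.mapₐ p.asIdeal q.asIdeal (Algebra.ofId A B) rfl).toLinearMap)))
      have h1 : φ ((1 : p.asIdeal.ResidueField) ⊗ₜ[A] x) =
          (1 : q.asIdeal.ResidueField) ⊗ₜ[B] x := by simp [φ]
      rw [hzero, map_zero] at h1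
      rw [← mul_one a, ← smul_eq_mul, ← TensorProduct.smul_tmul', ← h1, smul_zero]
  exact not_nontrivial_iff_subsingleton.2 ⟨fun a b => by rw [hall a, hall b]⟩ hnt

end Groth.Agent.Easy3
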