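import Mathlib.Algebra.Colimit.Ring
import Mathlib.Algebra.Module.FinitePresentation
import Mathlib.RingTheory.TensorProduct.Basic
import Mathlib.LinearAlgebra.Pi

/-! Descent of finitely presented modules to a stage of a directed colimit. -/

universe u
open TensorProduct

namespace Groth.Agent.Easy3

/-- If all relations come from `R`, the cokernel is a base change. -/
theorem nonempty_equiv_baseChange {R A M : Type u} [CommRing R] [CommRing A] [Algebra R A]
    [AddCommGroup M] [Module A M] {n : ℕ} {ι : Type*} (π : (Fin n → A) →ₗ[A] M) (hπ : Function.Surjective π)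
    (w : ι → (Fin n → R)) (hK : LinearMap.ker π = Submodule.span A (Set.range fun k => algebraMap R A ∘ w k)) :
    Nonempty (M ≃ₗ[A] A ⊗[R] ((Fin n → R) ⧸ Submodule.span R (Set.range w))) := by
  classical
  letI : Module R M := Module.compHom M (algebraMap R A)
  haveI : IsScalarTower R A M := IsScalarTower.of_compHom R A M
  set N := Submodule.span R (Set.range w) with hN
  let φ : (Fin n → R) →ₗ[R] M := (π.restrictScalars R) ∘ₗ (Algebra.linearMap R A).compLeft (Fin n)
  have hφ : N ≤ LinearMap.ker φ := by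
    rw [hN, Submodule.span_le]
    rintro _ ⟨k, rfl⟩
    show π (algebraMap R A ∘ w k) = 0
    rw [← LinearMap.mem_ker, hK]
    exact Submodule.subset_span ⟨k, rfl⟩
  let F : A ⊗[R] ((Fin n → R) ⧸ N) →ₗ[A] M := LinearMap.liftBaseChange A (N.liftQ φ hφ)
  let η : (Fin n → A) →ₗ[A] A ⊗[R] ((Fin n → R) ⧸ N) :=
    Fintype.linearCombination A fun i => (1 : A) ⊗ₜ[R] N.mkQ (Pi.single i 1)
  have hη : ∀ x : Fin n → R, η (algebraMap R A ∘ x) = (1 : A) ⊗ₜ[R] N.mkQ x := by
    intro x
    simp only [η, Fintype.linearCombination_apply, Function.comp_apply, algebraMap_smul,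
      ← TensorProduct.tmul_smul, ← TensorProduct.tmul_sum, ← map_smul, ← map_sum]
    congr 2
    rw [← pi_eq_sum_univ' x]
  have hηK : LinearMap.ker π ≤ LinearMap.ker η := by
    rw [hK, Submodule.span_le]
    rintro _ ⟨k, rfl⟩
    show η (algebraMap R A ∘ w k) = 0
    rw [hη, Submodule.mkQ_apply, (Submodule.Quotient.mk_eq_zero N).2 (Submodule.subset_span (Set.mem_range_self k)),
      TensorProduct.tmul_zero]
  let G : M →ₗ[A] A ⊗[R] ((Fin n → R) ⧸ N) :=
    (LinearMap.ker π).liftQ η hηK ∘ₗ (π.quotKerEquivOfSurjective hπ).symm.toLinearMap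
  have hG : ∀ v, G (π v) = η v := fun v => by
    simp only [G, LinearMap.comp_apply, LinearEquiv.coe_coe]
    rw [show (π.quotKerEquivOfSurjective hπ).symm (π v) = Submodule.Quotient.mk v from
      (LinearEquiv.symm_apply_eq _).2 rfl, Submodule.liftQ_apply]
  refine ⟨LinearEquiv.ofLinear G F ?_ ?_⟩
  · refine TensorProduct.AlgebraTensorModule.ext fun a q => ?_
    obtain ⟨x, rfl⟩ := N.mkQ_surjective q
    show G (F (a ⊗ₜ[R] N.mkQ x)) = a ⊗ₜ[R] N.mkQ x
    have hF : F (a ⊗ₜ[R] N.mkQ x) = π (a • (algebraMap R A ∘ x)) := by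
      rw [map_smul]
      rfl
    rw [hF, hG, map_smul, hη, TensorProduct.smul_tmul', smul_eq_mul, mul_one]
  · refine LinearMap.ext fun m => ?_
    obtain ⟨v, rfl⟩ := hπ m
    show F (G (π v)) = π v
    rw [hG]
    simp only [η, Fintype.linearCombination_apply, map_sum, map_smul]
    have h1 : ∀ i, F ((1 : A) ⊗ₜ[R] N.mkQ (Pi.single i 1)) = π (Pi.single i 1) := fun i => by
      simp only [F, LinearMap.liftBaseChange_tmul, one_smul, Submodule.mkQ_apply, Submodule.liftQ_apply, φ,
        LinearMap.comp_apply, LinearMap.restrictScalars_apply]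
      congr 1
      funext j
      simp only [LinearMap.compLeft_apply, Function.comp_apply, Algebra.linearMap_apply]
      by_cases h : j = i
      · subst h; simp
      · simp [h]
    simp only [h1, ← map_smul, ← map_sum]
    rw [← pi_eq_sum_univ' v]

theorem exists_stage_module (ι : Type u) [Preorder ι] [Nonempty ι] [IsDirectedOrder ι]
    (G : ι → Type u) [∀ i, CommRing (G i)] (f : ∀ i j, i ≤ j → G i →+* G j)
    [DirectedSystem G (fun i j h ↦ f i j h)] (M : Type u) [AddCommGroup M]
    [Module (Ring.DirectLimit G (fun i j h ↦ f i j h)) M]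
    [Module.FinitePresentation (Ring.DirectLimit G (fun i j h ↦ f i j h)) M] :
    ∃ (i : ι) (Mi : Type u) (_ : AddCommGroup Mi) (_ : Module (G i) Mi), Module.FinitePresentation (G i) Mi ∧
      letI : Algebra (G i) (Ring.DirectLimit G (fun i j h ↦ f i j h)) :=
        (Ring.DirectLimit.of G (fun i j h ↦ f i j h) i).toAlgebra
      Nonempty (M ≃ₗ[Ring.DirectLimit G (fun i j h ↦ f i j h)] (Ring.DirectLimit G (fun i j h ↦ f i j h)) ⊗[G i] Mi) := by
  classical
  obtain ⟨n, K, e, ⟨t, ht⟩⟩ :=
    Module.FinitePresentation.exists_fin (Ring.DirectLimit G (fun i j h ↦ f i j h)) M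
  choose ix gx hgx using fun p : {x // x ∈ t} × Fin n => Ring.DirectLimit.exists_of (p.1.1 p.2)
  obtain ⟨i₀, hi₀⟩ := (Finset.univ : Finset ({x // x ∈ t} × Fin n)).image ix |>.exists_le
  refine ⟨i₀, (Fin n → G i₀) ⧸ Submodule.span (G i₀) (Set.range fun (x : {x // x ∈ t}) (l : Fin n) =>
    f (ix (x, l)) i₀ (hi₀ _ (Finset.mem_image_of_mem ix (Finset.mem_univ (x, l)))) (gx (x, l))),
    inferInstance, inferInstance, ?_, ?_⟩
  · exact Module.finitePresentation_of_surjective _ (Submodule.mkQ_surjective _)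
      (by rw [Submodule.ker_mkQ]; exact Submodule.fg_span (Set.finite_range _))
  · letI : Algebra (G i₀) (Ring.DirectLimit G (fun i j h ↦ f i j h)) :=
      (Ring.DirectLimit.of G (fun i j h ↦ f i j h) i₀).toAlgebra
    refine nonempty_equiv_baseChange (e.symm.toLinearMap ∘ₗ K.mkQ)
      (e.symm.surjective.comp K.mkQ_surjective) _ ?_
    rw [LinearMap.ker_comp, LinearEquiv.ker, Submodule.comap_bot, Submodule.ker_mkQ, ← ht]
    congr 1
    ext v
    constructor
    · intro hv
      refine ⟨⟨v, hv⟩, funext fun l => ?_⟩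
      show Ring.DirectLimit.of G _ i₀ (f _ _ _ _) = v l
      rw [Ring.DirectLimit.of_f, hgx]
    · rintro ⟨x, rfl⟩
      have : (x : Fin n → _) = fun l => Ring.DirectLimit.of G (fun i j h ↦ f i j h) i₀
          (f (ix (x, l)) i₀ (hi₀ _ (Finset.mem_image_of_mem ix (Finset.mem_univ (x, l)))) (gx (x, l))) :=
        funext fun l => by rw [Ring.DirectLimit.of_f, hgx]
      exact (this ▸ x.2 : _)

end Groth.Agent.Easy3
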