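import Groth.Prelude.Def_W4c5stacksedinertiaGpd

/-! The inertia operator preserves the filtration by order. -/

namespace Groth.Agent.Easy3
open W4c5stacksedinertia

theorem card_idxOf (G : Type*) [Group G] [Finite G] : (Idx.of G).card = Nat.card G := by
  obtain ⟨e⟩ := Quotient.mk_out (s := FinGrp.setoid) (FinGrp.of G)
  show Nat.card (Quotient.out (s := FinGrp.setoid) (Idx.of G)).carrier = _
  exact (Nat.card_congr e.toEquiv).trans (Nat.card_fin (Nat.card G))

theorem inertia_mem_Kle (n : ℕ) (v : K) (hv : v ∈ Kle n) : inertia v ∈ Kle n := by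
  show Finsupp.linearCombination ℚ (fun i : Idx => inertiaROf 1 i.rep) v ∈ Kle n
  rw [Finsupp.linearCombination_apply, Finsupp.sum]
  refine Submodule.sum_mem _ fun i hi => Submodule.smul_mem _ _ ?_
  have hin : i.card ≤ n := (Finsupp.mem_supported ℚ v).1 hv (Finset.mem_coe.2 hi)
  rw [inertiaROf]
  haveI : Finite (CommTuple.Orbit i.rep 1) :=
    haveI : Finite (CommTuple i.rep 1) := Subtype.finite
    Quotient.finite _
  haveI : Fintype (CommTuple.Orbit i.rep 1) := Fintype.ofFinite _
  rw [finsum_eq_sum_of_fintype]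
  refine Submodule.sum_mem _ fun O _ => ?_
  refine Finsupp.single_mem_supported ℚ _ ?_
  show (Idx.of _).card ≤ n
  rw [card_idxOf]
  exact (Nat.card_le_card_of_injective _ Subtype.val_injective).trans hin

end Groth.Agent.Easy3
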