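import Groth.Prelude.Def_W4c5stacksedinertiaGpd
import Mathlib.Data.Fintype.CardEmbedding
import Mathlib.Data.Finite.Card
import Mathlib.Data.Nat.Choose.Basic
import Mathlib.GroupTheory.Subgroup.Center

/-! The graded action of the inertia operators for the filtration by the order of the centre. -/

namespace Groth.Agent.Easy3
open W4c5stacksedinertia

theorem nonempty_carrier_equiv (G : Type) [Group G] [Finite G] :
    Nonempty ((FinGrp.of G).carrier ≃* G) :=
  ⟨(Nat.equivFinOfCardPos (α := G) Nat.card_pos.ne').symm.mulEquiv⟩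

theorem nonempty_rep_equiv (G : Type) [Group G] [Finite G] : Nonempty ((Idx.of G).rep ≃* G) := by
  obtain ⟨e⟩ := Quotient.mk_out (s := FinGrp.setoid) (FinGrp.of G)
  obtain ⟨e'⟩ := nonempty_carrier_equiv G
  exact ⟨(show (Idx.of G).rep ≃* (FinGrp.of G).carrier from e).trans e'⟩

theorem of_rep (i : Idx) : Idx.of i.rep = i := by
  obtain ⟨e⟩ := nonempty_carrier_equiv i.rep
  exact (Quotient.sound (s := FinGrp.setoid) (a := FinGrp.of i.rep) (b := Quotient.out (s := FinGrp.setoid) i) ⟨e⟩).trans
    (Quotient.out_eq (s := FinGrp.setoid) i)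

theorem centerCard_of (G : Type) [Group G] [Finite G] :
    (Idx.of G).centerCard = Nat.card (Subgroup.center G) := by
  obtain ⟨e⟩ := nonempty_rep_equiv G
  exact Nat.card_congr (Subgroup.centerCongr e).toEquiv

/-- The centre of the centraliser contains the centre, and the elements being centralised. -/
theorem card_center_centralizer {G : Type} [Group G] [Finite G] {r : ℕ} (s : CommTuple G r) :
    Nat.card (Subgroup.center G) ≤ Nat.card (Subgroup.center (Subgroup.centralizer (Set.range s.1))) ∧
      ((∃ j, s.1 j ∉ Subgroup.center G) → Nat.card (Subgroup.center G) <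
        Nat.card (Subgroup.center (Subgroup.centralizer (Set.range s.1)))) := by
  classical
  set H := Subgroup.centralizer (Set.range s.1) with hH
  have hZ : ∀ z ∈ Subgroup.center G, z ∈ H := fun z hz => by
    rw [hH, Subgroup.mem_centralizer_iff]
    exact fun g _ => Subgroup.mem_center_iff.1 hz g
  let φ : Subgroup.center G → Subgroup.center H := fun z => ⟨⟨z.1, hZ z.1 z.2⟩,
    Subgroup.mem_center_iff.2 fun h => Subtype.ext (Subgroup.mem_center_iff.1 z.2 h.1)⟩
  have hφ : Function.Injective φ := fun a b hab => Subtype.ext (congrArg (fun x => x.1.1) hab)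
  refine ⟨Nat.card_le_card_of_injective φ hφ, ?_⟩
  rintro ⟨j, hj⟩
  have hjH : s.1 j ∈ H := by
    rw [hH, Subgroup.mem_centralizer_iff]
    rintro _ ⟨l, rfl⟩
    exact (s.2.2 l j).eq
  have hjZ : (⟨s.1 j, hjH⟩ : H) ∈ Subgroup.center H := Subgroup.mem_center_iff.2 fun h => Subtype.ext (by
    have := Subgroup.mem_centralizer_iff.1 h.2 (s.1 j) (Set.mem_range_self j)
    exact this.symm)
  let ψ : Option (Subgroup.center G) → Subgroup.center H := fun o => o.elim ⟨_, hjZ⟩ φ
  have hψ : Function.Injective ψ := by
    intro a b hab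
    rcases a with _ | a <;> rcases b with _ | b
    · rfl
    · refine (hj ?_).elim
      rw [show s.1 j = b.1 from congrArg (fun x => x.1.1) hab]; exact b.2
    · refine (hj ?_).elim
      rw [show s.1 j = a.1 from (congrArg (fun x => x.1.1) hab).symm]; exact a.2
    · exact congrArg some (hφ hab)
  have := Nat.card_le_card_of_injective ψ hψ
  rw [Finite.card_option] at this
  omega

theorem single_mem_Kge {G : Type} [Group G] [Finite G] {n : ℕ} (h : n ≤ Nat.card (Subgroup.center G)) :
    cl G ∈ Kge n := by
  refine Finsupp.single_mem_supported ℚ _ ?_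
  show n ≤ (Idx.of G).centerCard
  rwa [centerCard_of]

/-- The value on a basis vector. -/
theorem inertiaROf_sub_mem (r : ℕ) (G : Type) [Group G] [Finite G] :
    inertiaROf r G - (((Nat.card (Subgroup.center G)).descFactorial r : ℕ) : ℚ) • cl G ∈
      Kge (Nat.card (Subgroup.center G) + 1) := by
  classical
  haveI : Finite (CommTuple G r) := Subtype.finite
  haveI : Finite (CommTuple.Orbit G r) := Quotient.finite _
  haveI : Fintype (CommTuple.Orbit G r) := Fintype.ofFinite _
  let out : CommTuple.Orbit G r → CommTuple G r := fun O => Quotient.out (s := CommTuple.setoid G r) O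
  let C : CommTuple.Orbit G r → Prop := fun O => ∀ j, (out O).1 j ∈ Subgroup.center G
  rw [inertiaROf, finsum_eq_sum_of_fintype, ← Finset.sum_filter_add_sum_filter_not Finset.univ C]
  have hC : ∀ O, C O → cl (Subgroup.centralizer (Set.range (out O).1)) = cl G := by
    intro O hO
    have htop : Subgroup.centralizer (Set.range (out O).1) = ⊤ := by
      rw [eq_top_iff]
      intro g _
      rw [Subgroup.mem_centralizer_iff]
      rintro _ ⟨j, rfl⟩
      exact (Subgroup.mem_center_iff.1 (hO j) g).symm
    show Finsupp.single _ 1 = Finsupp.single _ 1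
    congr 1
    obtain ⟨e⟩ := nonempty_carrier_equiv (Subgroup.centralizer (Set.range (out O).1))
    obtain ⟨e'⟩ := nonempty_carrier_equiv G
    exact Quotient.sound ⟨(e.trans ((MulEquiv.subgroupCongr htop).trans Subgroup.topEquiv)).trans e'.symm⟩
  have hcount : (Finset.univ.filter C).card = (Nat.card (Subgroup.center G)).descFactorial r := by
    haveI : Fintype (Subgroup.center G) := Fintype.ofFinite _
    rw [Nat.card_eq_fintype_card]
    conv_rhs => rw [← Fintype.card_fin r, ← Fintype.card_embedding_eq]
    rw [← Fintype.card_subtype]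
    let mkT : (Fin r ↪ Subgroup.center G) → CommTuple G r := fun f =>
      ⟨fun j => (f j).1, fun a b hab => f.injective (Subtype.ext hab),
        fun a b => (Subgroup.mem_center_iff.1 (f b).2 (f a).1)⟩
    have hout : ∀ f, out (Quotient.mk (CommTuple.setoid G r) (mkT f)) = mkT f := by
      intro f
      obtain ⟨g, hg⟩ := Quotient.mk_out (s := CommTuple.setoid G r) (mkT f)
      refine Subtype.ext (funext fun j => ?_)
      have hc : g * (f j).1 = (f j).1 * g := Subgroup.mem_center_iff.1 (f j).2 g
      have h1 : (out (Quotient.mk (CommTuple.setoid G r) (mkT f))).1 j = g⁻¹ * (f j).1 * g := by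
        show _ = g⁻¹ * (mkT f).1 j * g
        rw [← hg j]; group
        rfl
      rw [h1, mul_assoc, ← hc, inv_mul_cancel_left]
    exact Fintype.card_congr
      { toFun := fun O => ⟨fun j => ⟨(out O.1).1 j, O.2 j⟩,
          fun a b hab => (out O.1).2.1 (congrArg Subtype.val hab)⟩
        invFun := fun f => ⟨Quotient.mk (CommTuple.setoid G r) (mkT f), fun j => by rw [hout]; exact (f j).2⟩
        left_inv := fun O => Subtype.ext (Quotient.out_eq (s := CommTuple.setoid G r) O.1)
        right_inv := fun f => Function.Embedding.ext fun j => Subtype.ext (by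
          show (out _).1 j = _
          rw [hout]) }
  rw [Finset.sum_congr rfl fun O hO => hC O (Finset.mem_filter.1 hO).2, Finset.sum_const, hcount,
    ← Nat.cast_smul_eq_nsmul ℚ, add_sub_cancel_left]
  refine Submodule.sum_mem _ fun O hO => single_mem_Kge ?_
  have hO' : ¬ C O := (Finset.mem_filter.1 hO).2
  simp only [C, not_forall] at hO'
  exact (card_center_centralizer (out O)).2 hO'

theorem inertiaR_sub_mem (r k : ℕ) (v : K) (hv : v ∈ Kge k) :
    inertiaR r v - ((Nat.factorial r * Nat.choose k r : ℕ) : ℚ) • v ∈ Kge (k + 1) := by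
  classical
  have hlin : inertiaR r v - ((Nat.factorial r * Nat.choose k r : ℕ) : ℚ) • v =
      ∑ i ∈ v.support, v i • (inertiaROf r i.rep - ((Nat.factorial r * Nat.choose k r : ℕ) : ℚ) • Finsupp.single i 1) := by
    have hv' : v = ∑ i ∈ v.support, v i • Finsupp.single i (1 : ℚ) := by
      conv_lhs => rw [← Finsupp.sum_single v]
      exact Finset.sum_congr rfl fun i _ => by rw [Finsupp.smul_single, smul_eq_mul, mul_one]
    simp only [smul_sub, Finset.sum_sub_distrib]
    congr 1
    conv_lhs => rw [hv']
    rw [Finset.smul_sum]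
    exact Finset.sum_congr rfl fun i _ => smul_comm _ _ _
  rw [hlin]
  refine Submodule.sum_mem _ fun i hi => Submodule.smul_mem _ _ ?_
  have hk : k ≤ i.centerCard := (Finsupp.mem_supported ℚ v).1 hv (Finset.mem_coe.2 hi)
  have hcl : Finsupp.single i (1 : ℚ) = cl i.rep := by rw [cl, of_rep]
  rw [hcl]
  have h0 := inertiaROf_sub_mem r i.rep
  have hc : Nat.card (Subgroup.center i.rep) = i.centerCard := rfl
  rcases Nat.lt_or_ge k i.centerCard with hlt | hge
  · have hbig : cl i.rep ∈ Kge (k + 1) := single_mem_Kge (by rw [hc]; omega)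
    have hle : Kge (Nat.card (Subgroup.center i.rep) + 1) ≤ Kge (k + 1) :=
      Finsupp.supported_mono fun j (hj : _ ≤ j.centerCard) => by
        show k + 1 ≤ j.centerCard
        omega
    have := add_mem (hle h0) ((Kge (k + 1)).smul_mem
      (((Nat.card (Subgroup.center i.rep)).descFactorial r : ℚ) - ((Nat.factorial r * Nat.choose k r : ℕ) : ℚ)) hbig)
    rwa [sub_smul, sub_add_sub_cancel] at this
  · have heq : Nat.card (Subgroup.center i.rep) = k := by omega
    rw [heq, Nat.descFactorial_eq_factorial_mul_choose] at h0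
    exact h0

end Groth.Agent.Easy3
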