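import Mathlib.RingTheory.OrderOfVanishing.Basic
import Mathlib.Algebra.Module.Lattice
import Mathlib.RingTheory.Length
import Mathlib.RingTheory.Ideal.AssociatedPrime.Localization

/-! Distance between lattices over a one-dimensional local domain; filtrations of modules
with a single associated prime. -/

universe u

namespace Groth.Agent.Easy3

section
variable (A : Type u) [CommRing A] [IsDomain A] [IsNoetherianRing A] [Ring.KrullDimLE 1 A]
  (K : Type u) [Field K] [Algebra A K] [IsFractionRing A K]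
  {V : Type u} [AddCommGroup V] [Module K V] [Module A V] [IsScalarTower A K V]

omit [IsNoetherianRing A] [Ring.KrullDimLE 1 A] in
theorem exists_smul_le {M N : Submodule A V} (hM : M.FG) (hN : Submodule.span K (N : Set V) = ⊤) :
    ∃ a : A, a ≠ 0 ∧ ∀ x ∈ M, a • x ∈ N := by
  have h1 : ∀ x : V, ∃ a : A, a ≠ 0 ∧ a • x ∈ N := by
    intro x
    have hx : x ∈ Submodule.span K (N : Set V) := hN ▸ Submodule.mem_top
    induction hx using Submodule.span_induction with
    | mem y hy => exact ⟨1, one_ne_zero, by simpa using hy⟩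
    | zero => exact ⟨1, one_ne_zero, by simp⟩
    | add y z _ _ hy hz =>
      obtain ⟨a, ha, hay⟩ := hy
      obtain ⟨b, hb, hbz⟩ := hz
      refine ⟨a * b, mul_ne_zero ha hb, ?_⟩
      rw [smul_add]
      refine add_mem ?_ ?_
      · rw [mul_comm, mul_smul]; exact N.smul_mem b hay
      · rw [mul_smul]; exact N.smul_mem a hbz
    | smul k y _ hy =>
      obtain ⟨a, ha, hay⟩ := hy
      obtain ⟨n, d, hd, rfl⟩ := IsFractionRing.div_surjective (A := A) k
      refine ⟨d * a, mul_ne_zero (nonZeroDivisors.ne_zero hd) ha, ?_⟩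
      rw [← IsScalarTower.algebraMap_smul K (d * a) ((algebraMap A K n / algebraMap A K d) • y),
        smul_smul, map_mul, mul_comm (algebraMap A K d), mul_assoc,
        mul_div_cancel₀ _ (IsFractionRing.to_map_ne_zero_of_mem_nonZeroDivisors hd), ← map_mul,
        IsScalarTower.algebraMap_smul, mul_comm, mul_smul]
      exact N.smul_mem n hay
  classical
  obtain ⟨s, hs⟩ := hM
  choose a ha haN using h1
  refine ⟨∏ x ∈ s, a x, Finset.prod_ne_zero_iff.2 fun x _ => ha x, fun x hx => ?_⟩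
  rw [← hs] at hx
  refine (Submodule.span_le (p := N.comap (LinearMap.lsmul A V (∏ x ∈ s, a x)))).2 (fun y hy => ?_) hx
  obtain ⟨c, hc⟩ := Finset.dvd_prod_of_mem a hy
  show (∏ x ∈ s, a x) • y ∈ N
  rw [hc, mul_comm, mul_smul]
  exact N.smul_mem c (haN y)

theorem length_quot_ne_top {M L : Submodule A V} (hM : M.FG) {a : A} (ha : a ≠ 0)
    (h : ∀ x ∈ M, a • x ∈ L) : Module.length A (↥M ⧸ L.submoduleOf M) ≠ ⊤ := by
  rw [Module.length_ne_top_iff]
  haveI : Module.Finite A M := Module.Finite.of_fg hM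
  obtain ⟨n, f, hf⟩ := Module.Finite.exists_fin' A M
  let g : (Fin n → A ⧸ Ideal.span {a}) →ₗ[A] ↥M ⧸ L.submoduleOf M :=
    (Submodule.liftQ (LinearMap.ker ((Ideal.span {a}).mkQ.compLeft (Fin n)))
      ((L.submoduleOf M).mkQ ∘ₗ f) (fun v hv => by
        have hva : ∀ i, ∃ w, v i = a * w := fun i =>
          Ideal.mem_span_singleton.1 ((Submodule.Quotient.mk_eq_zero _).1 (congrFun hv i))
        choose w hw using hva
        rw [LinearMap.mem_ker, LinearMap.comp_apply, Submodule.mkQ_apply,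
          Submodule.Quotient.mk_eq_zero, show v = a • w from funext hw, map_smul]
        exact h _ (f w).2)) ∘ₗ
      ((LinearMap.quotKerEquivOfSurjective _ (Function.Surjective.comp_left
        (Submodule.mkQ_surjective (Ideal.span {a})))).symm.toLinearMap)
  have hg : Function.Surjective g := by
    intro y
    obtain ⟨m, rfl⟩ := Submodule.mkQ_surjective _ y
    obtain ⟨v, rfl⟩ := hf m
    exact ⟨(Ideal.span {a}).mkQ.compLeft (Fin n) v, by simp [g]⟩
  have h1 := isFiniteLength_quotient_span_singleton A (mem_nonZeroDivisors_of_ne_zero ha)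
  rw [isFiniteLength_iff_isNoetherian_isArtinian] at h1 ⊢
  obtain ⟨_, _⟩ := h1
  exact ⟨isNoetherian_of_surjective g (LinearMap.range_eq_top.2 hg), isArtinian_of_surjective _ g hg⟩

omit [IsNoetherianRing A] [Ring.KrullDimLE 1 A] [IsDomain A] in
theorem length_quot_add {M N L : Submodule A V} (hLN : L ≤ N) (hNM : N ≤ M) :
    Module.length A (↥M ⧸ L.submoduleOf M) =
      Module.length A (↥N ⧸ L.submoduleOf N) + Module.length A (↥M ⧸ N.submoduleOf M) := by
  refine Module.length_eq_add_of_exact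
    (Submodule.mapQ _ _ (Submodule.inclusion hNM) fun x hx => hx)
    (Submodule.mapQ _ _ LinearMap.id fun x hx => hLN hx) ?_ ?_ ?_
  · refine (injective_iff_map_eq_zero _).2 fun x hx => ?_
    obtain ⟨x, rfl⟩ := Submodule.Quotient.mk_surjective _ x
    exact (Submodule.Quotient.mk_eq_zero _).2 ((Submodule.Quotient.mk_eq_zero _).1 hx : _)
  · intro x
    obtain ⟨y, rfl⟩ := Submodule.Quotient.mk_surjective _ x
    exact ⟨Submodule.Quotient.mk y, rfl⟩
  · intro y
    obtain ⟨y, rfl⟩ := Submodule.Quotient.mk_surjective _ y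
    constructor
    · intro hy
      have hy' : (y : V) ∈ N := (Submodule.Quotient.mk_eq_zero (N.submoduleOf M)).1 hy
      exact ⟨Submodule.Quotient.mk ⟨y, hy'⟩, rfl⟩
    · rintro ⟨x, hx⟩
      obtain ⟨x, rfl⟩ := Submodule.Quotient.mk_surjective _ x
      rw [← hx]
      exact (Submodule.Quotient.mk_eq_zero _).2 x.2

theorem distance_add (M₁ M₂ M₃ : Submodule A V) [Submodule.IsLattice K M₁]
    [Submodule.IsLattice K M₂] [Submodule.IsLattice K M₃] :
    ((Module.length A (↥M₁ ⧸ (M₁ ⊓ M₃).submoduleOf M₁)).toNat : ℤ) -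
        ((Module.length A (↥M₃ ⧸ (M₁ ⊓ M₃).submoduleOf M₃)).toNat : ℤ) =
      (((Module.length A (↥M₁ ⧸ (M₁ ⊓ M₂).submoduleOf M₁)).toNat : ℤ) -
          ((Module.length A (↥M₂ ⧸ (M₁ ⊓ M₂).submoduleOf M₂)).toNat : ℤ)) +
        (((Module.length A (↥M₂ ⧸ (M₂ ⊓ M₃).submoduleOf M₂)).toNat : ℤ) -
          ((Module.length A (↥M₃ ⧸ (M₂ ⊓ M₃).submoduleOf M₃)).toNat : ℤ)) := by
  let d : Submodule A V → Submodule A V → ℤ := fun M L =>
    ((Module.length A (↥M ⧸ L.submoduleOf M)).toNat : ℤ)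
  show d M₁ (M₁ ⊓ M₃) - d M₃ (M₁ ⊓ M₃) =
    (d M₁ (M₁ ⊓ M₂) - d M₂ (M₁ ⊓ M₂)) + (d M₂ (M₂ ⊓ M₃) - d M₃ (M₂ ⊓ M₃))
  have hfg := fun (M : Submodule A V) [Submodule.IsLattice K M] => (Submodule.IsLattice.fg (A := K) (M := M))
  have hsp := fun (M : Submodule A V) [Submodule.IsLattice K M] =>
    (Submodule.IsLattice.span_eq_top (A := K) (M := M))
  have hex : ∀ (M : Submodule A V) [Submodule.IsLattice K M],
      ∃ a : A, a ≠ 0 ∧ ∀ x ∈ M, a • x ∈ M₁ ⊓ M₂ ⊓ M₃ := by
    intro M _
    obtain ⟨a, ha, h₁⟩ := exists_smul_le A K (hfg M) (hsp M₁)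
    obtain ⟨b, hb, h₂⟩ := exists_smul_le A K (hfg M) (hsp M₂)
    obtain ⟨c, hc, h₃⟩ := exists_smul_le A K (hfg M) (hsp M₃)
    refine ⟨a * b * c, mul_ne_zero (mul_ne_zero ha hb) hc, fun x hx => ⟨⟨?_, ?_⟩, ?_⟩⟩
    · rw [mul_assoc, mul_comm, mul_smul]; exact M₁.smul_mem _ (h₁ x hx)
    · rw [mul_right_comm, mul_smul]; exact M₂.smul_mem _ (h₂ x hx)
    · rw [mul_smul]; exact M₃.smul_mem _ (h₃ x hx)
  have key : ∀ (M : Submodule A V) [Submodule.IsLattice K M] (N : Submodule A V),
      M₁ ⊓ M₂ ⊓ M₃ ≤ N → N ≤ M → d M (M₁ ⊓ M₂ ⊓ M₃) = d N (M₁ ⊓ M₂ ⊓ M₃) + d M N := by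
    intro M _ N hLN hNM
    obtain ⟨a, ha, h⟩ := hex M
    have htop := length_quot_ne_top A (hfg M) ha h
    have e := length_quot_add A hLN hNM
    rw [e] at htop
    simp only [d, e, ne_eq, ENat.add_eq_top, not_or] at htop ⊢
    rw [ENat.toNat_add htop.1 htop.2]
    push_cast
    rfl
  have a1 := key M₁ (M₁ ⊓ M₃) (le_inf (inf_le_left.trans inf_le_left) inf_le_right) inf_le_left
  have a2 := key M₃ (M₁ ⊓ M₃) (le_inf (inf_le_left.trans inf_le_left) inf_le_right) inf_le_right
  have b1 := key M₁ (M₁ ⊓ M₂) inf_le_left inf_le_left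
  have b2 := key M₂ (M₁ ⊓ M₂) inf_le_left inf_le_right
  have c1 := key M₂ (M₂ ⊓ M₃) (le_inf (inf_le_left.trans inf_le_right) inf_le_right) inf_le_left
  have c2 := key M₃ (M₂ ⊓ M₃) (le_inf (inf_le_left.trans inf_le_right) inf_le_right) inf_le_right
  linarith

end

section
variable {A : Type u} [CommRing A] [IsNoetherianRing A] {M : Type u} [AddCommGroup M] [Module A M]
  [Module.Finite A M] {p : Ideal A}

theorem exists_filtration_single_prime (hp : associatedPrimes A M = {p}) :
    ∃ (m : ℕ) (F : Fin (m + 1) → Submodule A M), Antitone F ∧ F 0 = ⊤ ∧ F (Fin.last m) = ⊥ ∧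
      ∀ i : Fin m, ∃ g : (↥(F i.castSucc) ⧸ Submodule.comap (F i.castSucc).subtype (F i.succ)) →ₗ[A]
        (A ⧸ p), Function.Injective g := by
  have hpmem : p ∈ associatedPrimes A M := hp ▸ rfl
  haveI : p.IsPrime := hpmem.isPrime
  have hreg : ∀ s, s ∉ p → ∀ m : M, s • m = 0 → m = 0 := by
    intro s hs m hm
    by_contra h0
    obtain ⟨q, hq, hle⟩ := exists_le_isAssociatedPrime_of_isNoetherianRing A m h0
    have hq' : q ∈ associatedPrimes A M := hq
    rw [hp, Set.mem_singleton_iff] at hq'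
    exact hs (hq' ▸ hle (Submodule.mem_colon_singleton.2 (by simpa using hm)))
  have hrad : p ≤ (Module.annihilator A M).radical := by
    rw [← Ideal.sInf_minimalPrimes]
    refine le_sInf fun q hq => ?_
    have := Module.associatedPrimes.minimalPrimes_annihilator_subset_associatedPrimes A M hq
    rw [hp, Set.mem_singleton_iff] at this
    exact this.ge
  suffices H : ∀ N : Submodule A M, (∀ s, s ∉ p → ∀ m, s • m ∈ N → m ∈ N) →
      ∃ (m : ℕ) (F : Fin (m + 1) → Submodule A M), (∀ i : Fin m, F i.succ ≤ F i.castSucc) ∧ F 0 = ⊤ ∧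
        F (Fin.last m) = N ∧ ∀ i : Fin m,
          ∃ g : (↥(F i.castSucc) ⧸ Submodule.comap (F i.castSucc).subtype (F i.succ)) →ₗ[A] (A ⧸ p),
            Function.Injective g by
    obtain ⟨m, F, h1, h2, h3, h4⟩ := H ⊥ fun s hs m hm => hreg s hs m hm
    exact ⟨m, F, Fin.antitone_iff_succ_le.2 h1, h2, h3, h4⟩
  intro N
  induction N using WellFoundedGT.induction with
  | ind N ih =>
    intro hsat
    rcases eq_or_ne N ⊤ with rfl | hN
    · exact ⟨0, fun _ => ⊤, fun i => i.elim0, rfl, rfl, fun i => i.elim0⟩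
    obtain ⟨x₀, hx₀⟩ : ∃ x, x ∉ N := by
      by_contra! h
      exact hN (eq_top_iff.2 fun x _ => h x)
    obtain ⟨q, hq, hle⟩ := exists_le_isAssociatedPrime_of_isNoetherianRing A (Submodule.Quotient.mk x₀ : M ⧸ N)
      (fun h => hx₀ ((Submodule.Quotient.mk_eq_zero N).1 h))
    obtain ⟨hqprime, f, hf⟩ := (isAssociatedPrime_iff_exists_injective_linearMap q _).1 hq
    obtain ⟨x, hx⟩ := Submodule.Quotient.mk_surjective _ (f (Submodule.Quotient.mk 1))
    have hann : ∀ r : A, r • x ∈ N ↔ r ∈ q := fun r => by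
      rw [← Submodule.Quotient.mk_eq_zero, Submodule.Quotient.mk_smul, hx, ← map_smul,
        map_eq_zero_iff _ hf, ← Submodule.Quotient.mk_smul, Submodule.Quotient.mk_eq_zero, smul_eq_mul, mul_one]
    have hqp : q ≤ p := fun r hr => by
      by_contra h
      exact hqprime.ne_top ((Ideal.eq_top_iff_one q).2 ((hann 1).1 (by
        rw [one_smul]; exact hsat r h x ((hann r).2 hr))))
    have hpq : p ≤ q := hrad.trans ((hqprime.radical_le_iff).2 fun r hr => (hann r).1 (by
      rw [Module.mem_annihilator.1 hr x]; exact N.zero_mem))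
    obtain rfl : q = p := le_antisymm hqp hpq
    -- the saturation of `N + A x`
    let N' : Submodule A M :=
      { carrier := {y | ∃ s, s ∉ q ∧ s • y ∈ N ⊔ Submodule.span A {x}}
        add_mem' := by
          rintro y z ⟨s, hs, hy⟩ ⟨t, ht, hz⟩
          refine ⟨s * t, fun h => (hqprime.mem_or_mem h).elim hs ht, ?_⟩
          rw [smul_add]
          refine add_mem ?_ ?_
          · rw [mul_comm, mul_smul]; exact Submodule.smul_mem _ t hy
          · rw [mul_smul]; exact Submodule.smul_mem _ s hz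
        zero_mem' := ⟨1, fun h => hqprime.ne_top ((Ideal.eq_top_iff_one q).2 h), by simp⟩
        smul_mem' := by
          rintro a y ⟨s, hs, hy⟩
          exact ⟨s, hs, by rw [smul_comm]; exact Submodule.smul_mem _ a hy⟩ }
    have h1 : (1 : A) ∉ q := fun h => hqprime.ne_top ((Ideal.eq_top_iff_one q).2 h)
    have hNN' : N ≤ N' := fun y hy => ⟨1, h1, by rw [one_smul]; exact Submodule.mem_sup_left hy⟩
    have hxN' : x ∈ N' := ⟨1, h1, by
      rw [one_smul]; exact Submodule.mem_sup_right (Submodule.mem_span_singleton_self x)⟩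
    have hlt : N < N' := lt_of_le_of_ne hNN' fun h => by
      have : (1 : A) • x ∈ N := by rw [one_smul, h]; exact hxN'
      exact h1 ((hann 1).1 this)
    have hsat' : ∀ s, s ∉ q → ∀ m, s • m ∈ N' → m ∈ N' := fun s hs m ⟨t, ht, hm⟩ =>
      ⟨t * s, fun h => (hqprime.mem_or_mem h).elim ht hs, by rw [mul_smul]; exact hm⟩
    obtain ⟨m, F, hF1, hF2, hF3, hF4⟩ := ih N' hlt hsat'
    obtain ⟨t, htq, ht⟩ : ∃ t, t ∉ q ∧ ∀ y ∈ N', t • y ∈ N ⊔ Submodule.span A {x} := by
      obtain ⟨T, hT⟩ := IsNoetherian.noetherian N'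
      have hTN : ∀ y : {y // y ∈ T}, (y : M) ∈ N' := fun y => hT ▸ Submodule.subset_span y.2
      choose s hs hsy using hTN
      refine ⟨∏ y, s y, fun h => ?_, fun y hy => ?_⟩
      · obtain ⟨y, -, hy⟩ := (Ideal.IsPrime.prod_mem_iff (p := q)).1 h
        exact hs y hy
      · rw [← hT] at hy
        refine (Submodule.span_le (p := (N ⊔ Submodule.span A {x}).comap
          (LinearMap.lsmul A M (∏ y, s y)))).2 (fun z hz => ?_) hy
        obtain ⟨c, hc⟩ := Finset.dvd_prod_of_mem s (Finset.mem_univ (⟨z, hz⟩ : {y // y ∈ T}))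
        show (∏ y, s y) • z ∈ N ⊔ Submodule.span A {x}
        rw [hc, mul_comm, mul_smul]
        exact Submodule.smul_mem _ c (hsy ⟨z, hz⟩)
    -- the injection `N'/N → A/q`
    let ι : (A ⧸ q) →ₗ[A] M ⧸ N := Submodule.liftQ q (LinearMap.toSpanSingleton A _ (Submodule.Quotient.mk x))
      fun r hr => by
        rw [LinearMap.mem_ker, LinearMap.toSpanSingleton_apply, ← Submodule.Quotient.mk_smul,
          Submodule.Quotient.mk_eq_zero]
        exact (hann r).2 hr
    have hι : Function.Injective ι := (injective_iff_map_eq_zero ι).2 fun r hr => by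
      obtain ⟨r, rfl⟩ := Submodule.Quotient.mk_surjective _ r
      rw [Submodule.liftQ_apply, LinearMap.toSpanSingleton_apply, ← Submodule.Quotient.mk_smul,
        Submodule.Quotient.mk_eq_zero] at hr
      exact (Submodule.Quotient.mk_eq_zero _).2 ((hann r).1 hr)
    have hmem : ∀ y : N', N.mkQ (t • (y : M)) ∈ LinearMap.range ι := fun y => by
      obtain ⟨n, hn, z, hz, hyz⟩ := Submodule.mem_sup.1 (ht y y.2)
      obtain ⟨r, rfl⟩ := Submodule.mem_span_singleton.1 hz
      refine ⟨Submodule.Quotient.mk r, ?_⟩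
      rw [← hyz, map_add, Submodule.mkQ_apply N n, (Submodule.Quotient.mk_eq_zero N).2 hn, zero_add]
      rfl
    let φ : N' →ₗ[A] A ⧸ q := (LinearEquiv.ofInjective ι hι).symm.toLinearMap ∘ₗ
      LinearMap.codRestrict _ (N.mkQ ∘ₗ LinearMap.lsmul A M t ∘ₗ N'.subtype) hmem
    refine ⟨m + 1, Fin.snoc F N, fun i => ?_, ?_, Fin.snoc_last _ _, fun i => ?_⟩
    · refine Fin.lastCases ?_ (fun j => ?_) i
      · rw [Fin.succ_last, Fin.snoc_last, Fin.snoc_castSucc, hF3]; exact hNN'
      · rw [Fin.succ_castSucc, Fin.snoc_castSucc, Fin.snoc_castSucc]; exact hF1 j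
    · rw [← Fin.castSucc_zero, Fin.snoc_castSucc, hF2]
    · refine Fin.lastCases ?_ (fun j => ?_) i
      · rw [Fin.succ_last, Fin.snoc_last, Fin.snoc_castSucc, hF3]
        have hker : LinearMap.ker φ = Submodule.comap N'.subtype N := by
          ext y
          simp only [φ, LinearMap.mem_ker, LinearMap.comp_apply, LinearEquiv.coe_coe,
            LinearEquiv.map_eq_zero_iff, Submodule.mem_comap, Submodule.coe_subtype,
            ← Subtype.val_inj, LinearMap.codRestrict_apply, ZeroMemClass.coe_zero,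
            Submodule.mkQ_apply, Submodule.Quotient.mk_eq_zero, LinearMap.lsmul_apply]
          exact ⟨fun h => hsat t htq _ h, fun h => N.smul_mem t h⟩
        exact ⟨(Submodule.comap N'.subtype N).liftQ φ hker.ge, LinearMap.ker_eq_bot.1
          (Submodule.ker_liftQ_eq_bot _ _ _ hker.le)⟩
      · rw [Fin.succ_castSucc, Fin.snoc_castSucc, Fin.snoc_castSucc]; exact hF4 j

end

end Groth.Agent.Easy3
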