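import Mathlib.RingTheory.IntegralClosure.IntegrallyClosed
import Mathlib.RingTheory.Localization.Integral
import Mathlib.RingTheory.Valuation.ValuationRing
import Mathlib.RingTheory.Ideal.AssociatedPrime.Finiteness
import Mathlib.RingTheory.Nakayama
import Mathlib.Algebra.Module.Torsion.Basic
import Mathlib.Algebra.DirectSum.Module
import Mathlib.LinearAlgebra.Dimension.Finite
import Mathlib.RingTheory.Polynomial.ScaleRoots

/-! Localisations of products of domains; boundedness of direct sum decompositions;
open neighbourhoods inside `V(I)`. -/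

universe u v w
open Polynomial

namespace Groth.Agent.Easy3

variable {ι : Type u} (R : ι → Type v) [∀ i, CommRing (R i)] [∀ i, IsDomain (R i)]
  (P : Ideal (∀ i, R i)) [P.IsPrime]

open Classical in
theorem isDomain_atPrime_pi : IsDomain (Localization.AtPrime P) := by
  haveI : NoZeroDivisors (Localization.AtPrime P) := ⟨by
    intro x y hxy
    obtain ⟨a, s, rfl⟩ := IsLocalization.exists_mk'_eq P.primeCompl x
    obtain ⟨b, t, rfl⟩ := IsLocalization.exists_mk'_eq P.primeCompl y
    rw [← IsLocalization.mk'_mul, IsLocalization.mk'_eq_zero_iff] at hxy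
    obtain ⟨⟨u, hu⟩, hu0⟩ := hxy
    let e : ∀ i, R i := fun i => if a i = 0 then 1 else 0
    have hee : e * (1 - e) = 0 := funext fun i => by by_cases h : a i = 0 <;> simp [e, h]
    by_cases he : e ∈ P
    · right
      have he' : 1 - e ∉ P := fun h => P.ne_top_iff_one.1 (Ideal.IsPrime.ne_top inferInstance)
        (by simpa using P.add_mem he h)
      refine (IsLocalization.mk'_eq_zero_iff _ _).2
        ⟨⟨(1 - e) * u, P.primeCompl.mul_mem he' hu⟩, funext fun i => ?_⟩
      have hi : u i * (a i * b i) = 0 := congrFun hu0 i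
      by_cases h : a i = 0
      · simp [e, h]
      · have : u i * b i = 0 := by
          rcases mul_eq_zero.1 hi with h' | h'
          · simp [h']
          · simp [(mul_eq_zero.1 h').resolve_left h]
        simp [e, h, this]
    · left
      refine (IsLocalization.mk'_eq_zero_iff _ _).2 ⟨⟨e, he⟩, funext fun i => ?_⟩
      by_cases h : a i = 0 <;> simp [e, h]⟩
  exact NoZeroDivisors.to_isDomain _

open Classical in
theorem preValuationRing_atPrime_pi [∀ i, ValuationRing (R i)] :
    PreValuationRing (Localization.AtPrime P) := by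
  refine ⟨fun x y => ?_⟩
  obtain ⟨a, s, rfl⟩ := IsLocalization.exists_mk'_eq P.primeCompl x
  obtain ⟨b, t, rfl⟩ := IsLocalization.exists_mk'_eq P.primeCompl y
  let L := Localization.AtPrime P
  let f := algebraMap (∀ i, R i) L
  suffices h : f a ∣ f b ∨ f b ∣ f a by
    have ha : Associated (f a) (IsLocalization.mk' L a s) :=
      ((IsLocalization.map_units L s).unit.isUnit).unit |> fun _ =>
        Associated.symm ⟨(IsLocalization.map_units L s).unit, IsLocalization.mk'_spec L a s⟩
    have hb : Associated (f b) (IsLocalization.mk' L b t) :=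
      Associated.symm ⟨(IsLocalization.map_units L t).unit, IsLocalization.mk'_spec L b t⟩
    rcases h with h | h
    · obtain ⟨c, hc⟩ := ha.dvd_iff_dvd_left.1 (hb.dvd_iff_dvd_right.1 h)
      exact ⟨c, Or.inl hc.symm⟩
    · obtain ⟨c, hc⟩ := hb.dvd_iff_dvd_left.1 (ha.dvd_iff_dvd_right.1 h)
      exact ⟨c, Or.inr hc.symm⟩
  have hq : ∀ i, ∃ q, a i = b i * q ∨ b i = a i * q := fun i => by
    obtain ⟨c, hc | hc⟩ := PreValuationRing.cond (a i) (b i)
    · exact ⟨c, Or.inr hc.symm⟩
    · exact ⟨c, Or.inl hc.symm⟩
  choose q hq using hq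
  let e : ∀ i, R i := fun i => if a i = b i * q i then 1 else 0
  by_cases he : e ∈ P
  · have he' : 1 - e ∉ P := fun h => P.ne_top_iff_one.1 (Ideal.IsPrime.ne_top inferInstance)
      (by simpa using P.add_mem he h)
    left
    refine (IsUnit.dvd_mul_left (IsLocalization.map_units L (⟨1 - e, he'⟩ : P.primeCompl))).1 ?_
    refine ⟨f ((1 - e) * q), ?_⟩
    show f (1 - e) * f b = f a * _
    rw [← map_mul, ← map_mul]
    congr 1
    funext i
    by_cases h : a i = b i * q i
    · simp [e, h]
    · simp only [Pi.mul_apply, Pi.sub_apply, Pi.one_apply, e, if_neg h]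
      rw [(hq i).resolve_left h]
      ring
  · right
    refine (IsUnit.dvd_mul_left (IsLocalization.map_units L (⟨e, he⟩ : P.primeCompl))).1 ?_
    refine ⟨f (e * q), ?_⟩
    show f e * f a = f b * _
    rw [← map_mul, ← map_mul]
    congr 1
    funext i
    by_cases h : a i = b i * q i
    · simp [e, h]
    · simp [e, h]

open Classical in
theorem isIntegrallyClosed_atPrime_pi [∀ i, IsIntegrallyClosed (R i)] :
    IsIntegrallyClosed (Localization.AtPrime P) := by
  haveI := isDomain_atPrime_pi R P
  let A := ∀ i, R i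
  let D := Localization.AtPrime P
  let K := FractionRing D
  refine (isIntegrallyClosed_iff K).2 fun {x} hx => ?_
  obtain ⟨m, hm⟩ := hx.exists_multiple_integral_of_isLocalization P.primeCompl x
  obtain ⟨a', b', hb', hab⟩ := IsFractionRing.div_surjective (A := D) (m • x)
  obtain ⟨a, sa, rfl⟩ := IsLocalization.exists_mk'_eq P.primeCompl a'
  obtain ⟨b, sb, rfl⟩ := IsLocalization.exists_mk'_eq P.primeCompl b'
  let f : A →+* K := algebraMap A K
  have hKA : algebraMap A K = f := rfl
  have hf : ∀ z : A, f z = algebraMap D K (algebraMap A D z) :=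
    IsScalarTower.algebraMap_apply A D K
  have h1 : algebraMap D K (IsLocalization.mk' D a sa) * f sa = f a := by
    rw [hf, hf, ← map_mul, IsLocalization.mk'_spec]
  have h2 : algebraMap D K (IsLocalization.mk' D b sb) * f sb = f b := by
    rw [hf, hf, ← map_mul, IsLocalization.mk'_spec]
  have hunit : ∀ s : P.primeCompl, IsUnit (f s) := fun s =>
    (hf s).symm ▸ (IsLocalization.map_units D s).map (algebraMap D K)
  -- rewrite `m • x` as a quotient of images of elements of `A`
  have hb0 : f (b * sa) ≠ 0 := by
    rw [map_mul, ← h2]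
    refine mul_ne_zero (mul_ne_zero ?_ (hunit sb).ne_zero) (hunit sa).ne_zero
    exact IsFractionRing.to_map_ne_zero_of_mem_nonZeroDivisors hb'
  have hq : m • x = f (a * sb) / f (b * sa) := by
    have hb1 : algebraMap D K (IsLocalization.mk' D b sb) ≠ 0 :=
      IsFractionRing.to_map_ne_zero_of_mem_nonZeroDivisors hb'
    rw [← hab, eq_div_iff hb0, map_mul, map_mul, ← h1, ← h2, div_mul_eq_mul_div, div_eq_iff hb1]
    ring
  obtain ⟨p, hmon, hp⟩ := hm
  rw [hq, hKA] at hp
  generalize a * (sb : A) = α at hp hb0 hq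
  generalize b * (sa : A) = β at hp hb0 hq
  have hev : f ((p.scaleRoots β).eval α) = 0 := by
    rw [← eval₂_at_apply]
    have h := scaleRoots_eval₂_eq_zero (s := β) f hp
    rwa [mul_div_cancel₀ _ hb0] at h
  obtain ⟨u, hu⟩ := (IsLocalization.map_eq_zero_iff P.primeCompl D _).1
    (IsFractionRing.injective D K (hev.trans (map_zero _).symm))
  have hev' : (p.scaleRoots (β * u)).eval (u * α) = 0 := by
    rw [scaleRoots_mul, scaleRoots_eval_mul]
    have hdeg : (p.scaleRoots β).natDegree ≠ 0 ∨ (p.scaleRoots β).natDegree = 0 := by tauto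
    rcases hdeg with hd | hd
    · obtain ⟨d, hd'⟩ := Nat.exists_eq_succ_of_ne_zero hd
      have hu' : (u : A) * (p.scaleRoots β).eval α = 0 := hu
      rw [hd', pow_succ, mul_assoc, hu', mul_zero]
    · exfalso
      rw [natDegree_scaleRoots] at hd
      rw [hmon.natDegree_eq_zero.1 hd, eval₂_one] at hp
      exact one_ne_zero hp
  have hq : ∀ i, ∃ q : R i, (u : A) i * α i = q * (β i * (u : A) i) := fun i => by
    have hi : ((p.scaleRoots (β * u)).map (Pi.evalRingHom R i)).eval ((u : A) i * α i) = 0 := by
      have := congrArg (Pi.evalRingHom R i) hev'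
      rw [← eval_map_apply, map_zero] at this
      exact this
    rw [map_scaleRoots _ _ _ (by simp [hmon.leadingCoeff])] at hi
    by_cases hc : β i * (u : A) i = 0
    · refine ⟨0, ?_⟩
      rw [show Pi.evalRingHom R i (β * (u : A)) = 0 from hc, scaleRoots_zero,
        (hmon.map _).leadingCoeff, one_smul, eval_pow, eval_X] at hi
      simpa [hc] using pow_eq_zero_iff' |>.1 hi |>.1
    · let F := FractionRing (R i)
      have hint : IsIntegral (R i)
          (algebraMap (R i) F ((u : A) i * α i) / algebraMap (R i) F (β i * (u : A) i)) := by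
        refine ⟨p.map (Pi.evalRingHom R i), hmon.map _, ?_⟩
        have h0 := congrArg (algebraMap (R i) F) hi
        rw [map_zero, ← eval₂_at_apply] at h0
        have hne : algebraMap (R i) F (β i * (u : A) i) ≠ 0 := by
          simpa [map_eq_zero_iff _ (IsFractionRing.injective (R i) F)] using hc
        have h := scaleRoots_eval₂_mul (p := p.map (Pi.evalRingHom R i)) (algebraMap (R i) F)
          (algebraMap (R i) F ((u : A) i * α i) / algebraMap (R i) F (β i * (u : A) i))
          (β i * (u : A) i)
        rw [mul_div_cancel₀ _ hne] at h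
        exact (mul_eq_zero.1 (h.symm.trans h0)).resolve_left (pow_ne_zero _ hne)
      obtain ⟨q, hq⟩ := IsIntegrallyClosed.isIntegral_iff.1 hint
      refine ⟨q, IsFractionRing.injective (R i) F ?_⟩
      rw [map_mul (algebraMap (R i) F) q, hq, div_mul_cancel₀]
      simpa [map_eq_zero_iff _ (IsFractionRing.injective (R i) F)] using hc
  choose q hq using hq
  have hfun : (u : A) * α = q * (β * u) := funext hq
  have hmx : m • x = f q := by
    rename_i hq' 
    rw [hq', eq_comm, eq_div_iff hb0]
    refine mul_left_cancel₀ (hunit u).ne_zero ?_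
    rw [← map_mul, ← map_mul, ← map_mul, hfun]
    exact congrArg f (mul_rotate' _ _ _)
  refine ⟨IsLocalization.mk' D q m, ?_⟩
  refine mul_left_cancel₀ (hunit m).ne_zero ?_
  rw [show f m * x = m • x by rw [Submonoid.smul_def, Algebra.smul_def, hKA], hmx]
  rw [hf, hf, ← map_mul, IsLocalization.mk'_spec']

omit [P.IsPrime] in
theorem exists_bound_summands (A : Type u) [CommRing A] [IsNoetherianRing A] (M : Type v)
    [AddCommGroup M] [Module A M] [Module.Finite A M] :
    ∃ n : ℕ, ∀ (κ : Type w) [DecidableEq κ] (N : κ → Submodule A M), DirectSum.IsInternal N →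
      ∃ s : Finset κ, s.card ≤ n ∧ ∀ i, N i ≠ ⊥ → i ∈ s := by
  classical
  let hS := associatedPrimes.finite A M
  let T : Ideal A → Submodule A M := fun p => Submodule.torsionBySet A M (p : Set A)
  let k : Ideal A → ℕ := fun p => Module.finrank (A ⧸ p) (Submodule.torsionBySet A M (p : Set A))
  refine ⟨∑ p ∈ hS.toFinset, k p, fun κ _ N hN => ?_⟩
  have hind : iSupIndep N := hN.submodule_iSupIndep
  have key : ∀ t : Finset κ, (∀ i ∈ t, N i ≠ ⊥) → t.card ≤ ∑ p ∈ hS.toFinset, k p := by
    intro t ht
    have hsub : ∀ i ∈ t, ∃ p, ∃ x : M, x ∈ N i ∧ p ∈ associatedPrimes A M ∧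
        (∀ r : A, r • x = 0 ↔ r ∈ p) := by
      intro i hi
      haveI : Nontrivial (N i) := Submodule.nontrivial_iff_ne_bot.2 (ht i hi)
      obtain ⟨p, hp⟩ := associatedPrimes.nonempty A (N i)
      have hpM : p ∈ associatedPrimes A M :=
        associatedPrimes.subset_of_injective (N i).injective_subtype hp
      obtain ⟨hprime, x, hx⟩ := (isAssociatedPrime_iff_exists_injective_linearMap p _).1 hp
      refine ⟨p, (x (Submodule.Quotient.mk 1) : M), Subtype.mem _, hpM, fun r => ?_⟩
      rw [← Submodule.coe_smul, ← map_smul, ZeroMemClass.coe_eq_zero, map_eq_zero_iff _ hx,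
        ← Submodule.Quotient.mk_smul, Submodule.Quotient.mk_eq_zero, smul_eq_mul, mul_one]
    choose p x hxN hpM hann using hsub
    calc t.card = ∑ b ∈ hS.toFinset, (t.attach.filter fun i => p i.1 i.2 = b).card := by
          rw [← Finset.card_attach]
          exact Finset.card_eq_sum_card_fiberwise fun i _ => hS.mem_toFinset.2 (hpM i.1 i.2)
      _ ≤ ∑ b ∈ hS.toFinset, k b := Finset.sum_le_sum fun b hb => by
          haveI : b.IsPrime := (hS.mem_toFinset.1 hb).isPrime
          let F := t.attach.filter fun i => p i.1 i.2 = b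
          haveI : Module.Finite A (Submodule.torsionBySet A M (b : Set A)) := inferInstance
          haveI : Module.Finite (A ⧸ b) (Submodule.torsionBySet A M (b : Set A)) := Module.Finite.of_restrictScalars_finite A _ _
          have hpi : ∀ i : F, p i.1.1 i.1.2 = b := fun i => (Finset.mem_filter.1 i.2).2
          have hmem : ∀ i : F, x i.1.1 i.1.2 ∈ T b := fun i =>
            (Submodule.mem_torsionBySet_iff _ _).2 fun r => (hann _ _ _).2 (by rw [hpi]; exact r.2)
          let v : F → Submodule.torsionBySet A M (b : Set A) := fun i => ⟨_, hmem i⟩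
          have hli : LinearIndependent (A ⧸ b) v := by
            rw [Fintype.linearIndependent_iff]
            intro g hg i
            obtain ⟨g', rfl⟩ : ∃ g' : F → A, g = fun j => Ideal.Quotient.mk b (g' j) :=
              ⟨fun j => (g j).out, funext fun j => (Ideal.Quotient.mk_out (g j)).symm⟩
            have hgM : ∑ j : F, g' j • x j.1.1 j.1.2 = 0 := by
              have := congrArg (Subtype.val : Submodule.torsionBySet A M (b : Set A) → M) hg
              simpa [v] using this
            have hz : g' i • x i.1.1 i.1.2 = 0 := by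
              have hdis := hind.dfinsupp_lsum_injective
              rw [← Finset.add_sum_erase _ _ (Finset.mem_univ i)] at hgM
              refine Submodule.disjoint_def.1 (hind i.1.1) _ ((N _).smul_mem _ (hxN _ _)) ?_
              rw [eq_neg_of_add_eq_zero_left hgM]
              refine neg_mem (Submodule.sum_mem _ fun j hj => ?_)
              refine Submodule.mem_iSup_of_mem j.1.1 (Submodule.mem_iSup_of_mem ?_
                ((N _).smul_mem _ (hxN _ _)))
              exact fun h => Finset.ne_of_mem_erase hj (Subtype.ext (Subtype.ext h))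
            exact Ideal.Quotient.eq_zero_iff_mem.2 (by rw [← hpi i]; exact (hann _ _ _).1 hz)
          have := hli.fintype_card_le_finrank
          rwa [Fintype.card_coe] at this
  have hfin : {i | N i ≠ ⊥}.Finite := by
    by_contra hinf
    obtain ⟨t, hts, htc⟩ := Set.Infinite.exists_subset_card_eq hinf ((∑ p ∈ hS.toFinset, k p) + 1)
    have := key t fun i hi => hts hi
    omega
  exact ⟨hfin.toFinset, key _ fun i hi => hfin.mem_toFinset.1 hi, fun i hi => hfin.mem_toFinset.2 hi⟩

omit [P.IsPrime] in
theorem nbhd_iff_pow_eq (A : Type u) [CommRing A] (I : Ideal A) (hI : I.FG) (p : Ideal A)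
    [p.IsPrime] (hp : I ≤ p) :
    (∃ f : A, f ∉ p ∧ ∀ q : Ideal A, q.IsPrime → f ∉ q → I ≤ q) ↔
      ∃ n : ℕ, 0 < n ∧ (I ^ n).map (algebraMap A (Localization.AtPrime p)) =
        (I ^ (n + 1)).map (algebraMap A (Localization.AtPrime p)) := by
  let L := Localization.AtPrime p
  constructor
  · rintro ⟨f, hf, h⟩
    have hrad : Ideal.span {f} * I ≤ nilradical A := by
      rw [nilradical_eq_sInf]
      refine le_sInf fun q hq => ?_
      by_cases hfq : f ∈ q
      · exact Ideal.mul_le_left.trans ((Ideal.span_singleton_le_iff_mem _).2 hfq)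
      · exact Ideal.mul_le_right.trans (h q hq hfq)
    obtain ⟨n, hn⟩ := Ideal.exists_pow_le_of_le_radical_of_fg hrad ((Submodule.fg_span_singleton f).mul hI)
    refine ⟨n + 1, n.succ_pos, ?_⟩
    have hz : ∀ m, n ≤ m → (I ^ m).map (algebraMap A L) = ⊥ := fun m hm => by
      rw [Ideal.map_eq_bot_iff_le_ker]
      intro z hz
      rw [RingHom.mem_ker, IsLocalization.map_eq_zero_iff p.primeCompl]
      refine ⟨⟨f ^ n, fun h' => hf (Ideal.IsPrime.mem_of_pow_mem inferInstance _ h')⟩, ?_⟩
      have : f ^ n * z ∈ (Ideal.span {f} * I) ^ n := by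
        rw [mul_pow]
        exact Ideal.mul_mem_mul (Ideal.pow_mem_pow (Ideal.mem_span_singleton_self f) _)
          (Ideal.pow_le_pow_right hm hz)
      exact (Ideal.mem_bot).1 (hn this)
    rw [hz _ (by omega), hz _ (by omega)]
  · rintro ⟨n, -, hn⟩
    have hfg : (I ^ n).FG := Submodule.FG.pow hI n
    have hJ : (I ^ n).map (algebraMap A L) = ⊥ := by
      refine Submodule.eq_bot_of_le_smul_of_le_jacobson_bot (I.map (algebraMap A L)) _ (hfg.map _) ?_ ?_
      · rw [smul_eq_mul, ← Ideal.map_mul, ← pow_succ']; exact hn.le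
      · rw [IsLocalRing.jacobson_eq_maximalIdeal ⊥ bot_ne_top, ← Localization.AtPrime.map_eq_maximalIdeal]
        exact Ideal.map_mono hp
    obtain ⟨t, ht⟩ := hfg
    have hs : ∀ z : A, ∃ s, s ∉ p ∧ (z ∈ I ^ n → s * z = 0) := fun z => by
      by_cases hz : z ∈ I ^ n
      · have : algebraMap A L z = 0 := by
          have := Ideal.mem_map_of_mem (algebraMap A L) hz
          rwa [hJ] at this
        obtain ⟨s, hs⟩ := (IsLocalization.map_eq_zero_iff p.primeCompl L z).1 this
        exact ⟨s, s.2, fun _ => hs⟩
      · exact ⟨1, p.primeCompl.one_mem, fun h => absurd h hz⟩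
    choose s hsp hs using hs
    refine ⟨∏ z ∈ t, s z, (fun h => ?_), fun q hq hfq => hq.le_of_pow_le (n := n) ?_⟩
    · obtain ⟨z, _, hz⟩ := (Ideal.IsPrime.prod_mem_iff).1 h
      exact hsp z hz
    · rw [← ht, Submodule.span_le]
      intro z hz
      have hzI : z ∈ I ^ n := by rw [← ht]; exact Submodule.subset_span hz
      have : s z ∉ q := fun h => hfq (Ideal.mem_of_dvd q (Finset.dvd_prod_of_mem s hz) h)
      exact (hq.mem_or_mem (by rw [hs z hzI]; exact q.zero_mem)).resolve_left this

end Groth.Agent.Easy3
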