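import Groth.Prelude.Def_W4c1frobunstivaNR
import Mathlib.Algebra.DualNumber
import Mathlib.Algebra.TrivSqZeroExt.Basic
import Mathlib.LinearAlgebra.TensorProduct.RightExactness
import Mathlib.LinearAlgebra.TensorProduct.Quotient
import Mathlib.LinearAlgebra.Matrix.NonsingularInverse
import Mathlib.RingTheory.OrzechProperty
import Mathlib.RingTheory.Noetherian.Nilpotent
import Mathlib.LinearAlgebra.Basis.Basic
import Mathlib.RingTheory.Nilpotent.Lemmas
import Mathlib.RingTheory.Nilpotent.Basic
import Mathlib.RingTheory.Ideal.Quotient.Operations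
import Mathlib.RingTheory.FiniteType

/-! NR-free modules and modules over dual numbers. -/

universe u v
open TensorProduct W4c1frobunstiva

namespace Groth.Agent.Easy3

variable {R : Type u} [CommRing R] {M : Type v} [AddCommGroup M] [Module R M] {r : ℕ}

theorem exists_coeff_of_mem_smul_span {I : Ideal R} {m : Fin r → M} {x : M}
    (hx : x ∈ I • Submodule.span R (Set.range m)) :
    ∃ c : Fin r → R, (∀ i, c i ∈ I) ∧ x = ∑ i, c i • m i := by
  obtain ⟨a, ha, hax⟩ := (Submodule.mem_ideal_smul_span_iff_exists_sum I m x).1 hx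
  refine ⟨a, ha, ?_⟩
  rw [← hax]
  exact Finsupp.sum_fintype _ _ fun i => zero_smul R _

/-- The class map `M → (R⧸I) ⊗ M` has kernel `I • M`. -/
theorem one_tmul_eq_zero_iff (I : Ideal R) (x : M) :
    (1 : R ⧸ I) ⊗ₜ[R] x = 0 ↔ x ∈ I • (⊤ : Submodule R M) := by
  rw [← (TensorProduct.quotTensorEquivQuotSMul M I).map_eq_zero_iff]
  rw [show TensorProduct.quotTensorEquivQuotSMul M I ((1 : R ⧸ I) ⊗ₜ[R] x) =
    Submodule.Quotient.mk x from TensorProduct.quotTensorEquivQuotSMul_mk_tmul I 1 x |>.trans
      (by rw [one_smul]), Submodule.Quotient.mk_eq_zero]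

theorem one_tmul_surjective (I : Ideal R) :
    Function.Surjective fun x : M => (1 : R ⧸ I) ⊗ₜ[R] x :=
  TensorProduct.mk_surjective R M (R ⧸ I) Ideal.Quotient.mk_surjective

theorem sum_mk_smul (I : Ideal R) (m : Fin r → M) (a : Fin r → R) :
    ∑ i, Ideal.Quotient.mk I (a i) • ((1 : R ⧸ I) ⊗ₜ[R] m i) = (1 : R ⧸ I) ⊗ₜ[R] ∑ i, a i • m i := by
  rw [TensorProduct.tmul_sum]
  refine Finset.sum_congr rfl fun i _ => ?_
  rw [TensorProduct.tmul_smul, TensorProduct.smul_tmul', TensorProduct.smul_tmul',
    smul_eq_mul, mul_one, Algebra.smul_def, mul_one]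
  rfl

theorem isNRBasis_iff_basis [IsNoetherianRing R] :
    IsNRFree R M r ↔
      Nonempty (Module.Basis (Fin r) (R ⧸ nilradical R) ((R ⧸ nilradical R) ⊗[R] M)) := by
  constructor
  · rintro ⟨m, hspan, hrel⟩
    refine ⟨Module.Basis.mk (v := fun i => (1 : R ⧸ nilradical R) ⊗ₜ[R] m i) ?_ ?_⟩
    · rw [Fintype.linearIndependent_iff]
      intro g hg i
      obtain ⟨a, rfl⟩ : ∃ a : Fin r → R, g = fun i => Ideal.Quotient.mk _ (a i) :=
        ⟨fun i => (g i).out, funext fun i => (Ideal.Quotient.mk_out (g i)).symm⟩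
      rw [sum_mk_smul, one_tmul_eq_zero_iff, ← hspan] at hg
      obtain ⟨c, hc, hac⟩ := exists_coeff_of_mem_smul_span hg
      have := hrel (a - c) (by simp [sub_smul, Finset.sum_sub_distrib, hac]) i
      refine Ideal.Quotient.eq_zero_iff_mem.2 ?_
      simpa using (nilradical R).add_mem (mem_nilradical.2 this) (hc i)
    · intro z _
      obtain ⟨x, rfl⟩ := one_tmul_surjective (nilradical R) z
      obtain ⟨a, ha⟩ := (Submodule.mem_span_range_iff_exists_fun R).1 (hspan ▸ Submodule.mem_top (x := x))
      show (1 : R ⧸ nilradical R) ⊗ₜ[R] x ∈ _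
      rw [← ha, ← sum_mk_smul]
      exact Submodule.sum_mem _ fun i _ => Submodule.smul_mem _ _ (Submodule.subset_span ⟨i, rfl⟩)
  · rintro ⟨b⟩
    choose m hm using fun i => one_tmul_surjective (nilradical R) (b i)
    have hspan : Submodule.span R (Set.range m) = ⊤ := by
      obtain ⟨k, hk⟩ := IsNoetherianRing.isNilpotent_nilradical R
      have h1 : ∀ x : M, ∃ a : Fin r → R, x - ∑ i, a i • m i ∈ nilradical R • (⊤ : Submodule R M) := fun x => by
        obtain ⟨g, hg⟩ := (Submodule.mem_span_range_iff_exists_fun _).1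
          (b.span_eq ▸ Submodule.mem_top (x := (1 : R ⧸ nilradical R) ⊗ₜ[R] x))
        refine ⟨fun i => (g i).out, (one_tmul_eq_zero_iff _ _).1 ?_⟩
        rw [TensorProduct.tmul_sub, ← sum_mk_smul, sub_eq_zero, ← hg]
        exact Finset.sum_congr rfl fun i _ => by rw [Ideal.Quotient.mk_out, ← hm]
      have h2 : (⊤ : Submodule R M) ≤ Submodule.span R (Set.range m) ⊔ nilradical R • ⊤ := fun x _ => by
        obtain ⟨a, ha⟩ := h1 x
        rw [Submodule.mem_sup]
        exact ⟨_, Submodule.sum_mem _ fun i _ => Submodule.smul_mem _ _ (Submodule.subset_span ⟨i, rfl⟩),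
          _, ha, add_sub_cancel _ _⟩
      have h3 : ∀ n, (⊤ : Submodule R M) ≤ Submodule.span R (Set.range m) ⊔ nilradical R ^ n • ⊤ := by
        intro n
        induction n with
        | zero => simp
        | succ n ih =>
          refine ih.trans (sup_le le_sup_left ?_)
          calc nilradical R ^ n • (⊤ : Submodule R M)
              ≤ nilradical R ^ n • (Submodule.span R (Set.range m) ⊔ nilradical R • ⊤) :=
                smul_mono_right _ h2
            _ ≤ _ := by
              rw [Submodule.smul_sup, pow_succ, Submodule.mul_smul]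
              exact sup_le_sup_right Submodule.smul_le_right _
      exact eq_top_iff.2 ((h3 k).trans (by simp [hk]))
    refine ⟨m, hspan, fun a ha i => mem_nilradical.1 (Ideal.Quotient.eq_zero_iff_mem.1 ?_)⟩
    have := Fintype.linearIndependent_iff.1 b.linearIndependent (fun i => Ideal.Quotient.mk _ (a i)) ?_ i
    · exact this
    · have h := sum_mk_smul (nilradical R) m a
      simp only [hm] at h
      rw [h, ha, TensorProduct.tmul_zero]

theorem exists_isUnit_matrix [IsNoetherianRing R] (hM : IsNRFree R M r) (m m' : Fin r → M)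
    (hm : Submodule.span R (Set.range m) = ⊤) (hm' : Submodule.span R (Set.range m') = ⊤) :
    ∃ T : Matrix (Fin r) (Fin r) R, IsUnit T ∧ ∀ j, m' j = ∑ i, T j i • m i := by
  obtain ⟨b⟩ := isNRBasis_iff_basis.1 hM
  choose T hT using fun j => (Submodule.mem_span_range_iff_exists_fun R).1 (hm ▸ Submodule.mem_top (x := m' j))
  choose U hU using fun j => (Submodule.mem_span_range_iff_exists_fun R).1 (hm' ▸ Submodule.mem_top (x := m j))
  refine ⟨Matrix.of T, ?_, fun j => (hT j).symm⟩
  have hgen : Submodule.span (R ⧸ nilradical R)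
      (Set.range fun i => (1 : R ⧸ nilradical R) ⊗ₜ[R] m i) = ⊤ := by
    rw [eq_top_iff]
    intro z _
    obtain ⟨x, rfl⟩ := one_tmul_surjective (nilradical R) z
    obtain ⟨a, ha⟩ := (Submodule.mem_span_range_iff_exists_fun R).1 (hm ▸ Submodule.mem_top (x := x))
    show (1 : R ⧸ nilradical R) ⊗ₜ[R] x ∈ _
    rw [← ha, ← sum_mk_smul]
    exact Submodule.sum_mem _ fun i _ => Submodule.smul_mem _ _ (Submodule.subset_span ⟨i, rfl⟩)
  have hli : LinearIndependent (R ⧸ nilradical R) fun i => (1 : R ⧸ nilradical R) ⊗ₜ[R] m i := by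
    haveI : Module.Finite (R ⧸ nilradical R) ((R ⧸ nilradical R) ⊗[R] M) := Module.Finite.of_basis b
    have hsurj : Function.Surjective
        (b.constr (R ⧸ nilradical R) fun i => (1 : R ⧸ nilradical R) ⊗ₜ[R] m i) := by
      rw [← LinearMap.range_eq_top, Module.Basis.constr_range, hgen]
    have hinj := OrzechProperty.injective_of_surjective_endomorphism _ hsurj
    have := b.linearIndependent.map' _ (LinearMap.ker_eq_bot.2 hinj)
    simpa [Function.comp_def] using this
  have hUT : ∀ j k, Ideal.Quotient.mk (nilradical R) ((Matrix.of U * Matrix.of T) j k) =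
      if j = k then 1 else 0 := by
    intro j k
    have key : ∑ i, ((Matrix.of U * Matrix.of T) j i - if j = i then 1 else 0) • m i = 0 := by
      simp only [sub_smul, Finset.sum_sub_distrib, ite_smul, one_smul, zero_smul, Finset.sum_ite_eq,
        Finset.mem_univ, if_true, sub_eq_zero]
      simp only [Matrix.mul_apply, Matrix.of_apply, Finset.sum_smul, ← smul_smul]
      rw [Finset.sum_comm]
      simp only [← Finset.smul_sum, hT, hU]
    have h := sum_mk_smul (nilradical R) m fun i => (Matrix.of U * Matrix.of T) j i - if j = i then 1 else 0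
    rw [key, TensorProduct.tmul_zero] at h
    have := Fintype.linearIndependent_iff.1 hli _ h k
    rw [map_sub, sub_eq_zero] at this
    rw [this]
    split_ifs <;> simp
  have hdet : Ideal.Quotient.mk (nilradical R) (Matrix.of U).det *
      Ideal.Quotient.mk (nilradical R) (Matrix.of T).det = 1 := by
    rw [← map_mul, ← Matrix.det_mul, RingHom.map_det]
    have : (Ideal.Quotient.mk (nilradical R)).mapMatrix (Matrix.of U * Matrix.of T) = 1 :=
      Matrix.ext fun j k => by rw [RingHom.mapMatrix_apply, Matrix.map_apply, hUT, Matrix.one_apply]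
    rw [this, Matrix.det_one]
  rw [Matrix.isUnit_iff_isUnit_det]
  rw [← map_mul, ← (Ideal.Quotient.mk (nilradical R)).map_one, Ideal.Quotient.eq, mem_nilradical] at hdet
  have := IsNilpotent.isUnit_add_left_of_commute hdet isUnit_one (Commute.one_right _)
  rw [add_sub_cancel] at this
  exact isUnit_of_mul_isUnit_right this

open DualNumber Pointwise TrivSqZeroExt in
theorem basis_dualNumber_iff (R : Type u) [CommRing R] (M : Type v)
    [AddCommGroup M] [Module R[ε] M] [Module R M] [IsScalarTower R R[ε] M] (r : ℕ) :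
    Nonempty (Module.Basis (Fin r) R[ε] M) ↔
      (Nonempty (Module.Basis (Fin r) R (M ⧸ ((ε : R[ε]) • (⊤ : Submodule R[ε] M)))) ∧
        Nonempty (Module.Basis (Fin r) R (((ε : R[ε]) • (⊤ : Submodule R[ε] M)).restrictScalars R))) := by
  set E := ((ε : R[ε]) • (⊤ : Submodule R[ε] M)) with hE
  have hmemE : ∀ y : M, y ∈ E ↔ ∃ z, (ε : R[ε]) • z = y := fun y => by
    simp [hE, Submodule.mem_smul_pointwise_iff_exists]
  have hdec : ∀ (a : R[ε]) (x : M), a • x = fst a • x + snd a • ((ε : R[ε]) • x) := fun a x => by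
    conv_lhs => rw [← inl_fst_add_inr_snd_eq a]
    rw [inr_eq_smul_eps, add_smul, smul_assoc]
    congr 1
    exact algebraMap_smul R[ε] (fst a) x
  have heps : ∀ (a : R) (x : M), a • ((ε : R[ε]) • x) = (ε : R[ε]) • (a • x) := fun a x =>
    smul_comm _ _ _
  have hsurjq : ∀ (y : M ⧸ E), ∃ x, E.mkQ x = y := E.mkQ_surjective
  constructor
  · rintro ⟨b⟩
    constructor
    · refine ⟨Module.Basis.mk (v := fun i => E.mkQ (b i)) ?_ ?_⟩
      · rw [Fintype.linearIndependent_iff]
        intro g hg i
        have h' : ∑ i, (inl (g i) : R[ε]) • b i ∈ E := by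
          rw [← Submodule.Quotient.mk_eq_zero, ← hg, ← Submodule.mkQ_apply, map_sum]
          refine Finset.sum_congr rfl fun j _ => ?_
          rw [hdec, fst_inl, snd_inl, zero_smul, add_zero, LinearMap.map_smul_of_tower]
        obtain ⟨z, hz⟩ := (hmemE _).1 h'
        have := congrArg (fun v => b.repr v i) hz
        simp only [map_smul, map_sum, Finsupp.smul_apply, smul_eq_mul, Finsupp.coe_finsetSum,
          Finset.sum_apply, Module.Basis.repr_self, Finsupp.single_apply, mul_ite, mul_one,
          mul_zero, Finset.sum_ite_eq', Finset.mem_univ, if_true] at this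
        have := congrArg fst this
        simpa [fst_mul] using this.symm
      · intro y _
        obtain ⟨x, rfl⟩ := hsurjq y
        rw [← b.sum_repr x, map_sum]
        refine Submodule.sum_mem _ fun i _ => ?_
        rw [hdec, map_add, LinearMap.map_smul_of_tower]
        refine add_mem (Submodule.smul_mem _ _ (Submodule.subset_span ⟨i, rfl⟩)) ?_
        have : snd (b.repr x i) • (ε : R[ε]) • b i ∈ E := by
          rw [heps]; exact (hmemE _).2 ⟨_, rfl⟩
        rw [Submodule.mkQ_apply, (Submodule.Quotient.mk_eq_zero E).2 this]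
        exact zero_mem _
    · refine ⟨Module.Basis.mk (v := fun i =>
        (⟨(ε : R[ε]) • b i, (hmemE _).2 ⟨_, rfl⟩⟩ : E.restrictScalars R)) ?_ ?_⟩
      · rw [Fintype.linearIndependent_iff]
        intro g hg i
        have h' : ∑ i, (inr (g i) : R[ε]) • b i = 0 := by
          have := congrArg Subtype.val hg
          simp only [Submodule.coe_sum, Submodule.coe_smul, ZeroMemClass.coe_zero] at this
          refine Eq.trans (Finset.sum_congr rfl fun j _ => ?_) this
          rw [inr_eq_smul_eps, smul_assoc]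
        have := congrArg snd (Fintype.linearIndependent_iff.1 b.linearIndependent _ h' i)
        simpa using this
      · rintro ⟨y, hy⟩ _
        obtain ⟨z, rfl⟩ := (hmemE y).1 hy
        rw [Submodule.mem_span_range_iff_exists_fun]
        refine ⟨fun i => fst (b.repr z i), Subtype.ext ?_⟩
        simp only [Submodule.coe_sum, Submodule.coe_smul]
        conv_rhs => rw [← b.sum_repr z, Finset.smul_sum]
        refine Finset.sum_congr rfl fun j _ => ?_
        rw [heps, hdec (b.repr z j), smul_add, heps (snd _), ← smul_assoc (ε : R[ε]) (ε : R[ε]),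
          smul_eq_mul, eps_mul_eps, zero_smul, add_zero]
  · rintro ⟨⟨c⟩, ⟨d⟩⟩
    choose x hx using fun i => hsurjq (c i)
    have hx' : ∀ y : M, ∃ (a : Fin r → R) (z : M), y = ∑ i, a i • x i + (ε : R[ε]) • z := fun y => by
      obtain ⟨a, ha⟩ := (Submodule.mem_span_range_iff_exists_fun R).1
        (c.span_eq ▸ Submodule.mem_top (x := E.mkQ y))
      have : y - ∑ i, a i • x i ∈ E := by
        rw [← Submodule.Quotient.mk_eq_zero, ← Submodule.mkQ_apply, map_sub, sub_eq_zero, ← ha, map_sum]
        simp [LinearMap.map_smul_of_tower, hx]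
      obtain ⟨z, hz⟩ := (hmemE _).1 this
      exact ⟨a, z, by rw [hz, add_sub_cancel]⟩
    let φ : E.restrictScalars R →ₗ[R] E.restrictScalars R := d.constr R fun i =>
      (⟨(ε : R[ε]) • x i, (hmemE _).2 ⟨_, rfl⟩⟩ : E.restrictScalars R)
    have hφ : Function.Surjective φ := by
      rw [← LinearMap.range_eq_top, Module.Basis.constr_range, eq_top_iff]
      rintro ⟨y, hy⟩ _
      obtain ⟨z, rfl⟩ := (hmemE y).1 hy
      obtain ⟨a, w, rfl⟩ := hx' z
      rw [Submodule.mem_span_range_iff_exists_fun]
      refine ⟨a, Subtype.ext ?_⟩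
      simp only [Submodule.coe_sum, Submodule.coe_smul]
      rw [smul_add, ← smul_assoc (ε : R[ε]) (ε : R[ε]), smul_eq_mul, eps_mul_eps, zero_smul, add_zero,
        Finset.smul_sum]
      exact Finset.sum_congr rfl fun i _ => heps _ _
    haveI : Module.Finite R (E.restrictScalars R) := Module.Finite.of_basis d
    have hinj := OrzechProperty.injective_of_surjective_endomorphism φ hφ
    refine ⟨Module.Basis.mk (v := x) ?_ ?_⟩
    · rw [Fintype.linearIndependent_iff]
      intro g hg i
      have h0 : ∀ i, fst (g i) = 0 := by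
        have := congrArg E.mkQ hg
        rw [map_sum, map_zero] at this
        refine Fintype.linearIndependent_iff.1 c.linearIndependent _ (Eq.trans ?_ this)
        refine Finset.sum_congr rfl fun j _ => ?_
        rw [hdec, map_add, LinearMap.map_smul_of_tower, hx, Submodule.mkQ_apply E (snd _ • _),
          (Submodule.Quotient.mk_eq_zero E).2 (by rw [heps]; exact (hmemE _).2 ⟨_, rfl⟩), add_zero]
      have h1 : ∑ i, snd (g i) • (ε : R[ε]) • x i = 0 := by
        refine Eq.trans (Finset.sum_congr rfl fun j _ => ?_) hg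
        rw [hdec (g j), h0, zero_smul, zero_add]
      have h2 : φ (∑ i, snd (g i) • d i) = φ 0 := by
        rw [map_zero, map_sum]
        refine Subtype.ext ?_
        simp only [map_smul, φ, Module.Basis.constr_basis, Submodule.coe_sum, Submodule.coe_smul]
        exact h1
      have h3 := Fintype.linearIndependent_iff.1 d.linearIndependent _ (hinj h2) i
      exact TrivSqZeroExt.ext (by simpa using h0 i) (by simpa using h3)
    · intro y _
      obtain ⟨a, z, rfl⟩ := hx' y
      have hsub : ∀ (a : Fin r → R), ∑ i, a i • x i ∈ Submodule.span R[ε] (Set.range x) := fun a =>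
        Submodule.sum_mem _ fun i _ => Submodule.smul_of_tower_mem _ _ (Submodule.subset_span ⟨i, rfl⟩)
      refine add_mem (hsub a) ?_
      obtain ⟨a', z', rfl⟩ := hx' z
      rw [smul_add, ← smul_assoc (ε : R[ε]) (ε : R[ε]), smul_eq_mul, eps_mul_eps, zero_smul, add_zero]
      exact Submodule.smul_mem _ _ (hsub a')

end Groth.Agent.Easy3
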