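import Groth.Prelude.Def_Disc
import Mathlib

/-! The Noether different cuts out the ramification locus. -/

set_option autoImplicit false

namespace Groth.Agent.Easy3.NoetherDiff

universe u v

open TensorProduct

variable (A : Type u) (B : Type v) [CommRing A] [CommRing B] [Algebra A B]

local notation "μ" => Algebra.TensorProduct.lmul' (S := B) A
local notation "I" => KaehlerDifferential.ideal A B

theorem mu_surjective : Function.Surjective (μ : B ⊗[A] B →ₐ[A] B) := fun b => ⟨b ⊗ₜ 1, by simp⟩

theorem mem_noetherDifferent {b : B} : b ∈ Disc.noetherDifferent A B ↔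
    ∃ x : B ⊗[A] B, (∀ i ∈ I, x * i = 0) ∧ μ x = b := by
  rw [Disc.noetherDifferent, Ideal.mem_map_iff_of_surjective _ (mu_surjective A B)]
  simp only [Submodule.mem_annihilator, smul_eq_mul]

theorem toCotangent_mul (x : B ⊗[A] B) (i : I) (h : x * (i : B ⊗[A] B) ∈ I) :
    Ideal.toCotangent I ⟨x * i, h⟩ = μ x • Ideal.toCotangent I i := by
  rw [← algebraMap_smul (B ⊗[A] B) (μ x) (Ideal.toCotangent I i), ← map_smul, Ideal.toCotangent_eq]
  show x * (i : B ⊗[A] B) - algebraMap B (B ⊗[A] B) (μ x) * (i : B ⊗[A] B) ∈ I ^ 2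
  rw [← sub_mul, sq]
  refine Ideal.mul_mem_mul ?_ i.2
  rw [RingHom.mem_ker, map_sub]
  simp [Algebra.TensorProduct.algebraMap_apply]

theorem not_le_iff [Algebra.FiniteType A B] (q : Ideal B) [q.IsPrime] :
    ¬ Disc.noetherDifferent A B ≤ q ↔ Algebra.IsUnramifiedAt A q := by
  have hloc : Algebra.IsUnramifiedAt A q ↔ (⟨q, ‹_›⟩ : PrimeSpectrum B) ∉ Module.support B (KaehlerDifferential A B) := by
    rw [← Set.mem_compl_iff, ← Algebra.unramifiedLocus_eq_compl_support]
    rfl
  rw [hloc, Module.mem_support_iff_of_finite, SetLike.not_le_iff_exists, SetLike.not_le_iff_exists]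
  constructor
  · rintro ⟨b, hb, hbq⟩
    obtain ⟨x, hx, rfl⟩ := (mem_noetherDifferent A B).1 hb
    refine ⟨μ x, Module.mem_annihilator.2 fun w => ?_, hbq⟩
    obtain ⟨i, rfl⟩ := Ideal.toCotangent_surjective I w
    have h : x * (i : B ⊗[A] B) ∈ I := Ideal.mul_mem_left I x i.2
    refine (toCotangent_mul A B x i h).symm.trans ?_
    rw [show (⟨x * (i : B ⊗[A] B), h⟩ : I) = 0 from Subtype.ext (hx _ i.2)]
    exact map_zero _
  · rintro ⟨b, hb, hbq⟩
    rw [Module.mem_annihilator] at hb
    haveI : Module.Finite (B ⊗[A] B) I := Module.Finite.iff_fg.2 (KaehlerDifferential.ideal_fg A B)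
    obtain ⟨p, hp, -, hp2, hp3⟩ :=
      LinearMap.exists_monic_and_natDegree_eq_and_coeff_mem_pow_and_aeval_eq_zero (B ⊗[A] B)
        (algebraMap (B ⊗[A] B) (Module.End (B ⊗[A] B) I) (b ⊗ₜ[A] (1 : B))) I (by
          rintro _ ⟨i, rfl⟩
          rw [Module.algebraMap_end_apply]
          have h0 : Ideal.toCotangent I ((b ⊗ₜ[A] (1 : B)) • i) = 0 := by
            have := toCotangent_mul A B (b ⊗ₜ[A] (1 : B)) i (Ideal.mul_mem_left I _ i.2)
            rw [Algebra.TensorProduct.lmul'_apply_tmul, mul_one] at this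
            exact this.trans (hb _)
          rw [Ideal.toCotangent_eq_zero] at h0
          rw [Submodule.mem_smul_top_iff]
          simpa [sq] using h0)
    refine ⟨μ (p.eval (b ⊗ₜ[A] (1 : B))), (mem_noetherDifferent A B).2 ⟨_, fun i hi => ?_, rfl⟩, ?_⟩
    · rw [Polynomial.aeval_algebraMap_apply_eq_algebraMap_eval] at hp3
      exact congrArg Subtype.val (LinearMap.congr_fun hp3 ⟨i, hi⟩)
    · rw [Polynomial.eval_eq_sum_range, map_sum, Finset.sum_range_succ, Polynomial.Monic.coeff_natDegree hp,
        Finset.sum_eq_zero (fun k hk => ?_), zero_add, one_mul, map_pow, Algebra.TensorProduct.lmul'_apply_tmul, mul_one]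
      · exact fun h => hbq (Ideal.IsPrime.mem_of_pow_mem ‹_› _ h)
      · rw [map_mul]
        have hk' : 0 < p.natDegree - k := by rw [Finset.mem_range] at hk; omega
        have : p.coeff k ∈ I := by
          refine Ideal.pow_le_self ?_ (hp2 k)
          omega
        rw [show μ (p.coeff k) = 0 from RingHom.mem_ker.1 this, zero_mul]

end Groth.Agent.Easy3.NoetherDiff

namespace Groth.Agent.Easy3.NoetherDiffBC

open TensorProduct Groth.Agent.Easy3.NoetherDiff

universe u

variable {A B A' B' : Type u} [CommRing A] [CommRing B] [CommRing A'] [CommRing B'] [Algebra A B] [Algebra A A']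
  [Algebra A B'] [Algebra B B'] [Algebra A' B'] [IsScalarTower A B B'] [IsScalarTower A A' B']

variable (A B A' B') in
/-- the comparison of the self tensor products. -/
noncomputable def psi : B ⊗[A] B →ₐ[A] B' ⊗[A'] B' :=
  Algebra.TensorProduct.lift
    (((Algebra.TensorProduct.includeLeft : B' →ₐ[A'] B' ⊗[A'] B').restrictScalars A).comp (IsScalarTower.toAlgHom A B B'))
    (((Algebra.TensorProduct.includeRight : B' →ₐ[A'] B' ⊗[A'] B').restrictScalars A).comp (IsScalarTower.toAlgHom A B B'))
    fun _ _ => Commute.all _ _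

theorem psi_tmul (x y : B) : psi A B A' B' (x ⊗ₜ y) = algebraMap B B' x ⊗ₜ algebraMap B B' y := by
  simp [psi]

theorem mu_psi (x : B ⊗[A] B) :
    Algebra.TensorProduct.lmul' (S := B') A' (psi A B A' B' x) = algebraMap B B' (Algebra.TensorProduct.lmul' (S := B) A x) := by
  induction x with
  | zero => simp
  | tmul x y => simp [psi_tmul]
  | add x y hx hy => simp [hx, hy]

variable [Algebra.IsPushout A B A' B']

theorem adjoin_range_eq_top (hP : Algebra.IsPushout A B A' B') : Algebra.adjoin A' (Set.range (algebraMap B B')) = ⊤ := by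
  have hbc : IsBaseChange A' (IsScalarTower.toAlgHom A B B').toLinearMap :=
    (Algebra.IsPushout.symm hP).out
  refine top_le_iff.1 fun y hy0 => ?_
  clear hy0
  induction y using hbc.inductionOn with
  | zero => exact zero_mem _
  | tmul b => exact Algebra.subset_adjoin ⟨b, rfl⟩
  | smul a y hy => exact Subalgebra.smul_mem _ hy a
  | add y z hy hz => exact add_mem hy hz

theorem exists_equiv : ∃ Φ : A' ⊗[A] (B ⊗[A] B) ≃ₗ[A'] B' ⊗[A'] B', ∀ a x, Φ (a ⊗ₜ x) = a • psi A B A' B' x := by
  have hbc : IsBaseChange A' (IsScalarTower.toAlgHom A B B').toLinearMap :=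
    (Algebra.IsPushout.symm ‹Algebra.IsPushout A B A' B'›).out
  refine ⟨(TensorProduct.AlgebraTensorModule.distribBaseChange A A' B B).trans
    (TensorProduct.congr hbc.equiv hbc.equiv), fun a x => ?_⟩
  induction x with
  | zero => rw [TensorProduct.tmul_zero, map_zero, map_zero, smul_zero]
  | add x y hx hy => rw [TensorProduct.tmul_add, map_add, map_add, hx, hy, smul_add]
  | tmul x y =>
    rw [psi_tmul]
    simp [IsBaseChange.equiv_tmul, TensorProduct.smul_tmul']

theorem main [Algebra.FiniteType A B] [Module.Flat A A'] :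
    Disc.noetherDifferent A' B' = (Disc.noetherDifferent A B).map (algebraMap B B') := by
  refine le_antisymm (fun b' hb' => ?_) (Ideal.map_le_iff_le_comap.2 fun b hb => ?_)
  · obtain ⟨x', hx', rfl⟩ := (mem_noetherDifferent A' B').1 hb'
    obtain ⟨G, hG⟩ := KaehlerDifferential.ideal_fg A B
    obtain ⟨Φ, hΦ⟩ := exists_equiv (A := A) (B := B) (A' := A') (B' := B')
    obtain ⟨z, rfl⟩ := Φ.surjective x'
    classical
    let f : B ⊗[A] B →ₗ[A] (G → B ⊗[A] B) := LinearMap.pi fun g => LinearMap.mulRight A (g : B ⊗[A] B)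
    have hcomp : ∀ (g : G) (w : A' ⊗[A] (B ⊗[A] B)),
        Φ (TensorProduct.piRight A A' A' _ (f.baseChange A' w) g) = Φ w * psi A B A' B' g := by
      intro g w
      induction w with
      | zero => simp
      | add p q hp hq => simp only [map_add, Pi.add_apply, hp, hq, add_mul]
      | tmul a x =>
        rw [LinearMap.baseChange_tmul, TensorProduct.piRight_apply, TensorProduct.piRightHom_tmul, hΦ, hΦ]
        simp [f]
    have hgI : ∀ g : G, psi A B A' B' g ∈ KaehlerDifferential.ideal A' B' := fun g => by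
      have hg : (g : B ⊗[A] B) ∈ KaehlerDifferential.ideal A B := hG ▸ Ideal.subset_span g.2
      rw [RingHom.mem_ker] at hg ⊢
      rw [mu_psi, hg, map_zero]
    have hz0 : f.baseChange A' z = 0 := by
      refine (TensorProduct.piRight A A' A' _).injective (funext fun g => Φ.injective ?_)
      rw [hcomp, hx' _ (hgI g), map_zero, Pi.zero_apply, map_zero]
    have hex : Function.Exact ((LinearMap.ker f).subtype.lTensor A') (f.lTensor A') :=
      Module.Flat.lTensor_exact A' (LinearMap.exact_subtype_ker_map f)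
    obtain ⟨w, rfl⟩ := (hex z).1 (by rw [← LinearMap.baseChange_eq_ltensor (A := A')]; exact hz0)
    clear hz0 hx' hb'
    induction w with
    | zero => simp
    | add p q hp hq => rw [map_add, map_add, map_add]; exact add_mem hp hq
    | tmul a k =>
      rw [LinearMap.lTensor_tmul, Submodule.subtype_apply, hΦ, map_smul, mu_psi, ← algebraMap_smul B' a, smul_eq_mul]
      refine Ideal.mul_mem_left _ _ (Ideal.mem_map_of_mem _ ((mem_noetherDifferent A B).2 ⟨k, fun i hi => ?_, rfl⟩))
      rw [← hG] at hi
      induction hi using Submodule.span_induction with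
      | mem g hg =>
        have := congrFun (LinearMap.mem_ker.1 k.2) ⟨g, hg⟩
        simpa [f] using this
      | zero => rw [mul_zero]
      | add p q _ _ hp hq => rw [mul_add, hp, hq, add_zero]
      | smul c p _ hp => rw [smul_eq_mul, mul_left_comm, hp, mul_zero]
  · rw [Ideal.mem_comap]
    obtain ⟨x, hx, rfl⟩ := (mem_noetherDifferent A B).1 hb
    refine (mem_noetherDifferent A' B').2 ⟨psi A B A' B' x, fun i hi => ?_, mu_psi x⟩
    have hmem : ∀ y : B', psi A B A' B' x * ((1 : B') ⊗ₜ[A'] y - y ⊗ₜ[A'] (1 : B')) = 0 := by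
      intro y
      have hy : y ∈ Algebra.adjoin A' (Set.range (algebraMap B B')) := by rw [adjoin_range_eq_top (inferInstance : Algebra.IsPushout A B A' B')]; trivial
      induction hy using Algebra.adjoin_induction with
      | mem y hy =>
        obtain ⟨c, rfl⟩ := hy
        have h := hx ((1 : B) ⊗ₜ[A] c - c ⊗ₜ[A] (1 : B)) (KaehlerDifferential.one_smul_sub_smul_one_mem_ideal A c)
        have h' := congrArg (psi A B A' B') h
        rw [map_mul, map_sub, psi_tmul, psi_tmul, map_one, map_zero] at h'
        exact h'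
      | algebraMap a =>
        rw [Algebra.algebraMap_eq_smul_one, ← TensorProduct.smul_tmul, sub_self, mul_zero]
      | add p q _ _ hp hq =>
        rw [TensorProduct.tmul_add, TensorProduct.add_tmul, add_sub_add_comm, mul_add, hp, hq, add_zero]
      | mul p q _ _ hp hq =>
        have e : (1 : B') ⊗ₜ[A'] (p * q) - (p * q) ⊗ₜ[A'] (1 : B') =
            ((1 : B') ⊗ₜ[A'] p) * ((1 : B') ⊗ₜ[A'] q - q ⊗ₜ[A'] (1 : B')) +
              (q ⊗ₜ[A'] (1 : B')) * ((1 : B') ⊗ₜ[A'] p - p ⊗ₜ[A'] (1 : B')) := by
          simp only [mul_sub, Algebra.TensorProduct.tmul_mul_tmul, one_mul, mul_one, mul_comm q p]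
          abel
        rw [e, mul_add, mul_left_comm, hq, mul_left_comm, hp, mul_zero, mul_zero, add_zero]
    rw [← KaehlerDifferential.span_range_eq_ideal] at hi
    induction hi using Submodule.span_induction with
    | mem g hg => obtain ⟨y, rfl⟩ := hg; exact hmem y
    | zero => rw [mul_zero]
    | add p q _ _ hp hq => rw [mul_add, hp, hq, add_zero]
    | smul c p _ hp => rw [smul_eq_mul, mul_left_comm, hp, mul_zero]

end Groth.Agent.Easy3.NoetherDiffBC
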