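import Groth.Agent.FlatDepth.Basic
import Groth.Prelude.Def_EGA4b
import Mathlib

/-! Dimension and depth of a module normally flat along a nilpotent ideal. -/

set_option autoImplicit false

namespace Groth.Agent.Easy3.NormFlat

universe u

open CategoryTheory IsLocalRing
open scoped Pointwise

variable {A : Type u} [CommRing A]

theorem subsingleton_congr {J : Ideal A} (i : ℕ) {X Y : Type u} [AddCommGroup X] [Module A X] [AddCommGroup Y] [Module A Y]
    (e : X ≃ₗ[A] Y) (h : Subsingleton (LocCoh.H J i X)) : Subsingleton (LocCoh.H J i Y) :=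
  ((localCohomology J i).mapIso e.toModuleIso).toLinearEquiv.symm.toEquiv.subsingleton

theorem subsingleton_of_retract {J : Ideal A} (i : ℕ) {X Y : Type u} [AddCommGroup X] [Module A X] [AddCommGroup Y] [Module A Y]
    (s : X →ₗ[A] Y) (r : Y →ₗ[A] X) (hrs : r ∘ₗ s = LinearMap.id) (h : Subsingleton (LocCoh.H J i Y)) :
    Subsingleton (LocCoh.H J i X) := by
  refine subsingleton_of_forall_eq 0 fun x => ?_
  have h1 := congrArg (fun φ => φ.hom x) ((localCohomology J i).map_id (ModuleCat.of A X))
  have h2 : 𝟙 (ModuleCat.of A X) = ModuleCat.ofHom s ≫ ModuleCat.ofHom r :=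
    ModuleCat.hom_ext hrs.symm
  rw [h2, Functor.map_comp] at h1
  refine h1.symm.trans ?_
  show (localCohomology J i).map (ModuleCat.ofHom r) ((localCohomology J i).map (ModuleCat.ofHom s) x) = 0
  rw [h.elim ((localCohomology J i).map (ModuleCat.ofHom s) x) 0, map_zero]

theorem subsingleton_H_pi {J : Ideal A} (i : ℕ) {X : Type u} [AddCommGroup X] [Module A X]
    (h : Subsingleton (LocCoh.H J i X)) (t : ℕ) : Subsingleton (LocCoh.H J i (Fin t → X)) := by
  let p : Fin t → (ModuleCat.of A (Fin t → X) ⟶ ModuleCat.of A X) := fun j =>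
    ModuleCat.ofHom (LinearMap.proj j)
  let e : Fin t → (ModuleCat.of A X ⟶ ModuleCat.of A (Fin t → X)) := fun j =>
    ModuleCat.ofHom (LinearMap.single A (fun _ => X) j)
  have hid : 𝟙 (ModuleCat.of A (Fin t → X)) = ∑ j, p j ≫ e j := by
    refine ModuleCat.hom_ext (LinearMap.ext fun f => ?_)
    rw [ModuleCat.hom_sum, LinearMap.sum_apply]
    exact (Finset.univ_sum_single f).symm
  refine subsingleton_of_forall_eq 0 fun x => ?_
  have h1 := congrArg (fun φ => φ.hom x) ((localCohomology J i).map_id (ModuleCat.of A (Fin t → X)))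
  rw [hid, Functor.map_sum, ModuleCat.hom_sum, LinearMap.sum_apply] at h1
  refine h1.symm.trans (Finset.sum_eq_zero fun j _ => ?_)
  rw [Functor.map_comp]
  show (localCohomology J i).map (e j) ((localCohomology J i).map (p j) x) = 0
  rw [h.elim ((localCohomology J i).map (p j) x) 0, map_zero]

variable [IsNoetherianRing A]

/-- the submodule of a short exact sequence inherits vanishing. -/
theorem subsingleton_sub {J : Ideal A} {X : Type u} [AddCommGroup X] [Module A X] (S : Submodule A X)
    (i : ℕ) (hX : Subsingleton (LocCoh.H J i X)) (hQ : ∀ j, j < i → Subsingleton (LocCoh.H J j (X ⧸ S))) :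
    Subsingleton (LocCoh.H J i S) := by
  match i with
  | 0 =>
    have hb := LocH.torsionSub_eq_bot_of_subsingleton hX
    have e := ((LocH.zeroIso J).app (ModuleCat.of A S)).toLinearEquiv
    haveI : Subsingleton ↑((DRing.gammaI J).obj (ModuleCat.of A S)) := by
      refine subsingleton_of_forall_eq 0 fun z => Subtype.ext ?_
      obtain ⟨z, n, hn⟩ := z
      apply Subtype.ext
      refine (Submodule.mem_bot A).1 (hb.le (?_ : (z : X) ∈ DRing.torsionSub J X))
      exact ⟨n, fun a ha => congrArg Subtype.val (hn a ha)⟩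
    exact e.toEquiv.subsingleton
  | i + 1 =>
    let SC : ShortComplex (ModuleCat.{u} A) := ShortComplex.mk (ModuleCat.ofHom S.subtype) (ModuleCat.ofHom S.mkQ)
      (by ext x; exact (Submodule.Quotient.mk_eq_zero _).2 x.2)
    have hSC : SC.ShortExact :=
      { exact := (ShortComplex.moduleCat_exact_iff _).2 fun x hx => ⟨⟨x, (Submodule.Quotient.mk_eq_zero _).1 hx⟩, rfl⟩
        mono_f := (ModuleCat.mono_iff_injective _).2 S.subtype_injective
        epi_g := (ModuleCat.epi_iff_surjective _).2 S.mkQ_surjective }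
    exact LocH.subsingleton_X₁ hSC i hX (hQ i i.lt_succ_self)

theorem subsingleton_total {J : Ideal A} {X : Type u} [AddCommGroup X] [Module A X] (S : Submodule A X)
    (i : ℕ) (hS : Subsingleton (LocCoh.H J i S)) (hQ : Subsingleton (LocCoh.H J i (X ⧸ S))) :
    Subsingleton (LocCoh.H J i X) := by
  let SC : ShortComplex (ModuleCat.{u} A) := ShortComplex.mk (ModuleCat.ofHom S.subtype) (ModuleCat.ofHom S.mkQ)
    (by ext x; exact (Submodule.Quotient.mk_eq_zero _).2 x.2)
  have hSC : SC.ShortExact :=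
    { exact := (ShortComplex.moduleCat_exact_iff _).2 fun x hx => ⟨⟨x, (Submodule.Quotient.mk_eq_zero _).1 hx⟩, rfl⟩
      mono_f := (ModuleCat.mono_iff_injective _).2 S.subtype_injective
      epi_g := (ModuleCat.epi_iff_surjective _).2 S.mkQ_surjective }
  exact LocH.subsingleton_X₂ hSC i hS hQ

variable [IsLocalRing A] (I : Ideal A) (M : Type u) [AddCommGroup M] [Module A M]

/-- graded piece. -/
abbrev piece (k : ℕ) : Type u :=
  ↥(I ^ k • (⊤ : Submodule A M)) ⧸ (I • (⊤ : Submodule A ↥(I ^ k • (⊤ : Submodule A M))))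

theorem exists_equiv_pi [Module.Finite A M] (hI : I ≠ ⊤) (hM : EGA4.IsNormallyFlat I M) (k : ℕ) :
    ∃ t, Nonempty (piece I M k ≃ₗ[A] (Fin t → A ⧸ I)) := by
  haveI : Nontrivial (A ⧸ I) := Ideal.Quotient.nontrivial_iff.2 hI
  haveI : IsLocalRing (A ⧸ I) := .of_surjective' (Ideal.Quotient.mk I) Ideal.Quotient.mk_surjective
  haveI := hM k
  haveI : Module.Finite A ↥(I ^ k • (⊤ : Submodule A M)) :=
    Module.Finite.iff_fg.2 (IsNoetherian.noetherian _)
  haveI : Module.Finite (A ⧸ I) (piece I M k) := Module.Finite.of_restrictScalars_finite A _ _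
  haveI : Module.Free (A ⧸ I) (piece I M k) := Module.free_of_flat_of_isLocalRing
  exact ⟨Module.finrank (A ⧸ I) (piece I M k),
    ⟨((Module.finBasis (A ⧸ I) (piece I M k)).equivFun).restrictScalars A⟩⟩

/-- the subsequent step of the filtration inside the previous one. -/
theorem pieceEquiv (k : ℕ) :
    Nonempty ((↥(I • (⊤ : Submodule A ↥(I ^ k • (⊤ : Submodule A M))))) ≃ₗ[A] ↥(I ^ (k + 1) • (⊤ : Submodule A M))) := by
  refine ⟨(Submodule.equivMapOfInjective _ (I ^ k • (⊤ : Submodule A M)).subtype_injective _).trans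
    (LinearEquiv.ofEq _ _ ?_)⟩
  rw [Submodule.map_smul'', Submodule.map_top, Submodule.range_subtype, pow_succ', ← smul_eq_mul, Submodule.smul_assoc]

theorem main [Module.Finite A M] [Nontrivial M] (hI : IsNilpotent I) (hM : EGA4.IsNormallyFlat I M) :
    Module.supportDim A M = ringKrullDim (A ⧸ I) ∧ LocCoh.depth A M = LocCoh.depth A (A ⧸ I) := by
  obtain ⟨N, hN⟩ := hI
  have hIne : I ≠ ⊤ := by
    rintro rfl
    rw [← Ideal.one_eq_top, one_pow, Ideal.one_eq_top, Submodule.zero_eq_bot] at hN
    exact top_ne_bot hN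
  haveI : Nontrivial (A ⧸ I) := Ideal.Quotient.nontrivial_iff.2 hIne
  have hNbot : I ^ N • (⊤ : Submodule A M) = ⊥ := by rw [hN, Submodule.zero_eq_bot, Submodule.bot_smul]
  -- last nonzero step
  classical
  have hex : ∃ k, I ^ k • (⊤ : Submodule A M) = ⊥ := ⟨N, hNbot⟩
  obtain ⟨L, hL⟩ : ∃ L, Nat.find hex = L + 1 := Nat.exists_eq_succ_of_ne_zero fun h0 => by
    have h1 := Nat.find_spec hex
    rw [h0, pow_zero, Ideal.one_eq_top, Submodule.top_smul] at h1
    exact top_ne_bot h1
  have hLbot : I ^ (L + 1) • (⊤ : Submodule A M) = ⊥ := hL ▸ Nat.find_spec hex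
  have hLne : I ^ L • (⊤ : Submodule A M) ≠ ⊥ := Nat.find_min hex (by lia)
  have hlast : I • (⊤ : Submodule A ↥(I ^ L • (⊤ : Submodule A M))) = ⊥ := by
    obtain ⟨e⟩ := pieceEquiv I M L
    haveI : Subsingleton ↥(I ^ (L + 1) • (⊤ : Submodule A M)) := Submodule.subsingleton_iff_eq_bot.2 hLbot
    exact Submodule.subsingleton_iff_eq_bot.1 e.toEquiv.subsingleton
  obtain ⟨t, ⟨et⟩⟩ := exists_equiv_pi I M hIne hM L
  let eL : ↥(I ^ L • (⊤ : Submodule A M)) ≃ₗ[A] (Fin t → A ⧸ I) :=
    (Submodule.quotEquivOfEqBot _ hlast).symm.trans et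
  have ht : 0 < t := by
    rcases Nat.eq_zero_or_pos t with rfl | h
    · exact absurd (Submodule.subsingleton_iff_eq_bot.1 eL.toEquiv.subsingleton) hLne
    · exact h
  let j0 : Fin t := ⟨0, ht⟩
  constructor
  · refine le_antisymm ((Module.supportDim_le_ringKrullDim A M).trans (le_of_eq ?_)) ?_
    · rw [ringKrullDim_quotient]
      have : PrimeSpectrum.zeroLocus (I : Set A) = Set.univ := by
        rw [Set.eq_univ_iff_forall]
        intro p
        have h : I ^ N ≤ p.asIdeal := by rw [hN, Submodule.zero_eq_bot]; exact bot_le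
        exact Ideal.IsPrime.le_of_pow_le h
      rw [this]
      exact (Order.krullDim_eq_of_orderIso OrderIso.Set.univ).symm
    · rw [Module.supportDim_eq_ringKrullDim_quotient_annihilator]
      refine ringKrullDim_le_of_surjective _ (Ideal.Quotient.factor_surjective (?_ : Module.annihilator A M ≤ I))
      intro a ha
      have h1 : a • (Pi.single j0 (1 : A ⧸ I) : Fin t → A ⧸ I) = 0 := by
        obtain ⟨x, hx⟩ := eL.surjective (Pi.single j0 (1 : A ⧸ I))
        rw [← hx, ← map_smul, show a • x = 0 from Subtype.ext (Module.mem_annihilator.1 ha _), map_zero]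
      have h2 := congrFun h1 j0
      rw [Pi.smul_apply, Pi.single_eq_same, Pi.zero_apply, Algebra.smul_def, mul_one] at h2
      exact Ideal.Quotient.eq_zero_iff_mem.1 h2
  · have hIM : maximalIdeal A • (⊤ : Submodule A (A ⧸ I)) ≠ ⊤ := fun h =>
      (top_ne_bot : (⊤ : Submodule A (A ⧸ I)) ≠ ⊥) (Submodule.eq_bot_of_le_smul_of_le_jacobson_bot (maximalIdeal A) _
        Module.Finite.fg_top h.ge (IsLocalRing.jacobson_eq_maximalIdeal ⊥ bot_ne_top).ge)
    obtain ⟨n, hn⟩ := ENat.ne_top_iff_exists.1 (LocH.idealDepth_ne_top hIM)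
    obtain ⟨hlow, hnt⟩ := (LocH.idealDepth_eq_iff n).1 hn.symm
    have hpiece : ∀ k i, i < n → Subsingleton (LocCoh.H (maximalIdeal A) i (piece I M k)) := by
      intro k i hi
      obtain ⟨t, ⟨e⟩⟩ := exists_equiv_pi I M hIne hM k
      exact subsingleton_congr i e.symm (subsingleton_H_pi i (hlow i hi) t)
    -- vanishing below n, descending induction
    have hvan : ∀ j, j ≤ L → ∀ i, i < n →
        Subsingleton (LocCoh.H (maximalIdeal A) i ↥(I ^ (L - j) • (⊤ : Submodule A M))) := by
      intro j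
      induction j with
      | zero => exact fun _ i hi => subsingleton_congr i eL.symm (subsingleton_H_pi i (hlow i hi) t)
      | succ j ih =>
        intro hj i hi
        refine subsingleton_total (I • ⊤) i ?_ (hpiece _ i hi)
        obtain ⟨e⟩ := pieceEquiv I M (L - (j + 1))
        refine subsingleton_congr i e.symm ?_
        rw [show L - (j + 1) + 1 = L - j by lia]
        exact ih (by lia) i hi
    have hne : ∀ k, k ≤ L → Subsingleton (LocCoh.H (maximalIdeal A) n ↥(I ^ 0 • (⊤ : Submodule A M))) →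
        Subsingleton (LocCoh.H (maximalIdeal A) n ↥(I ^ k • (⊤ : Submodule A M))) := by
      intro k
      induction k with
      | zero => exact fun _ h => h
      | succ k ih =>
        intro hk h
        obtain ⟨e⟩ := pieceEquiv I M k
        exact subsingleton_congr n e (subsingleton_sub _ n (ih (by lia) h) (hpiece k))
    have e0 : ↥(I ^ 0 • (⊤ : Submodule A M)) ≃ₗ[A] M :=
      (LinearEquiv.ofEq _ _ (by rw [pow_zero, Ideal.one_eq_top, Submodule.top_smul])).trans Submodule.topEquiv
    rw [LocCoh.depth, LocCoh.depth, ← hn, LocH.idealDepth_eq_iff]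
    refine ⟨fun i hi => subsingleton_congr i e0 (by have := hvan L le_rfl i hi; rwa [Nat.sub_self] at this), ?_⟩
    rw [← not_subsingleton_iff_nontrivial]
    intro hs
    refine not_subsingleton_iff_nontrivial.2 hnt (subsingleton_of_retract n
      (eL.symm.toLinearMap ∘ₗ LinearMap.single A (fun _ => A ⧸ I) j0)
      (LinearMap.proj j0 ∘ₗ eL.toLinearMap) ?_ (hne L le_rfl (subsingleton_congr n e0.symm hs)))
    ext
    simp

end Groth.Agent.Easy3.NormFlat
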