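import Groth.Agent.Easy3.DiffRam

/-! The pairing `B ⊗ B × ω → B` of the Noether different, finite free case. -/

set_option autoImplicit false

namespace Groth.Agent.Easy3.OmegaPairing

universe u v

open TensorProduct Groth.Agent.Easy3.NoetherDiff

variable {A : Type u} {B : Type v} [CommRing A] [CommRing B] [Algebra A B]

local notation "μ" => Algebra.TensorProduct.lmul' (S := B) A
local notation "I" => KaehlerDifferential.ideal A B

/-- the pairing. -/
noncomputable def P (ξ : B ⊗[A] B) (l : Disc.Omega A B) : B :=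
  TensorProduct.lift ((LinearMap.lsmul A B).comp l.toLinearMap) ξ

theorem P_tmul (l : Disc.Omega A B) (b c : B) : P (b ⊗ₜ[A] c) l = l.toLinearMap b • c := rfl

theorem P_zero_left (l : Disc.Omega A B) : P 0 l = 0 := map_zero _

theorem P_add_left (ξ η : B ⊗[A] B) (l : Disc.Omega A B) : P (ξ + η) l = P ξ l + P η l := map_add _ _ _

theorem P_sub_left (ξ η : B ⊗[A] B) (l : Disc.Omega A B) : P (ξ - η) l = P ξ l - P η l := map_sub _ _ _

theorem P_add (ξ : B ⊗[A] B) (l m : Disc.Omega A B) : P ξ (l + m) = P ξ l + P ξ m := by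
  induction ξ with
  | zero => simp [P_zero_left]
  | tmul b c => simp [P_tmul, add_smul]
  | add p q hp hq => rw [P_add_left, P_add_left, P_add_left, hp, hq]; abel

theorem P_smul (ξ : B ⊗[A] B) (z : B) (l : Disc.Omega A B) : P ξ (z • l) = P ((z ⊗ₜ[A] (1 : B)) * ξ) l := by
  induction ξ with
  | zero => simp [P_zero_left]
  | tmul b c => simp [P_tmul]
  | add p q hp hq => rw [P_add_left, mul_add, P_add_left, hp, hq]

theorem mul_P (ξ : B ⊗[A] B) (z : B) (l : Disc.Omega A B) : z * P ξ l = P (((1 : B) ⊗ₜ[A] z) * ξ) l := by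
  induction ξ with
  | zero => simp [P_zero_left]
  | tmul b c => simp [P_tmul]
  | add p q hp hq => rw [P_add_left, mul_add, mul_add, P_add_left, hp, hq]

/-- elements of the annihilator give linear maps. -/
noncomputable def lin {ξ : B ⊗[A] B} (h : ξ ∈ Submodule.annihilator (RingHom.ker μ)) :
    Disc.Omega A B →ₗ[B] B where
  toFun := P ξ
  map_add' := P_add ξ
  map_smul' z l := by
    rw [RingHom.id_apply, smul_eq_mul, P_smul, mul_P]
    congr 1
    rw [← sub_eq_zero, ← sub_mul, mul_comm]
    refine Submodule.mem_annihilator.1 h _ ?_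
    simp [RingHom.mem_ker]

variable [Module.Free A B] [Module.Finite A B]

theorem expand (ξ : B ⊗[A] B) :
    ξ = ∑ j, Module.Free.chooseBasis A B j ⊗ₜ[A] P ξ ⟨(Module.Free.chooseBasis A B).coord j⟩ := by
  induction ξ with
  | zero => simp [P_zero_left]
  | tmul b c =>
    conv_lhs => rw [← (Module.Free.chooseBasis A B).sum_repr b, TensorProduct.sum_tmul]
    exact Finset.sum_congr rfl fun j _ => by rw [TensorProduct.smul_tmul]; rfl
  | add p q hp hq =>
    conv_lhs => rw [hp, hq, ← Finset.sum_add_distrib]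
    exact Finset.sum_congr rfl fun j _ => by rw [P_add_left, TensorProduct.tmul_add]

theorem existsUnique (Φ : Disc.Omega A B →ₗ[B] B) :
    ∃! ξ : B ⊗[A] B, ξ ∈ Submodule.annihilator (RingHom.ker μ) ∧ ∀ l, Φ l = P ξ l := by
  set b := Module.Free.chooseBasis A B
  have hP : ∀ l : Disc.Omega A B, Φ l = P (∑ j, b j ⊗ₜ[A] Φ ⟨b.coord j⟩) l := by
    intro l
    have hl : l = ∑ j, algebraMap A B (l.toLinearMap (b j)) • (⟨b.coord j⟩ : Disc.Omega A B) := by
      refine Disc.Omega.toLinearMap_injective (b.ext fun i => ?_)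
      let ev : Disc.Omega A B →+ A := AddMonoidHom.mk' (fun m => m.toLinearMap (b i)) fun _ _ => rfl
      show ev l = ev _
      rw [map_sum]
      simp only [ev, AddMonoidHom.mk'_apply, Disc.Omega.smul_toLinearMap_apply, ← Algebra.smul_def, map_smul,
        Module.Basis.coord_apply, Module.Basis.repr_self, smul_eq_mul]
      simp [Finsupp.single_apply]
    conv_lhs => rw [hl, map_sum]
    unfold P
    rw [map_sum]
    exact Finset.sum_congr rfl fun j _ => by rw [map_smul, smul_eq_mul, ← Algebra.smul_def]; rfl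
  refine ⟨_, ⟨Submodule.mem_annihilator.2 fun i hi => ?_, hP⟩, fun η hη => ?_⟩
  · change i ∈ I at hi
    rw [← KaehlerDifferential.span_range_eq_ideal] at hi
    rw [smul_eq_mul]
    induction hi using Submodule.span_induction with
    | mem g hg =>
      obtain ⟨z, rfl⟩ := hg
      rw [expand (_ * _)]
      refine Finset.sum_eq_zero fun k _ => ?_
      rw [mul_comm, sub_mul, P_sub_left, ← P_smul, ← mul_P, ← hP, ← hP, map_smul, smul_eq_mul, sub_self,
        TensorProduct.tmul_zero]
    | zero => rw [mul_zero]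
    | add p q _ _ hp hq => rw [mul_add, hp, hq, add_zero]
    | smul c p _ hp => rw [smul_eq_mul, mul_left_comm, hp, mul_zero]
  · rw [expand η]
    exact Finset.sum_congr rfl fun j _ => by rw [← hη.2]

theorem P_trace {ξ : B ⊗[A] B} (h : ξ ∈ Submodule.annihilator (RingHom.ker μ)) :
    P ξ (Disc.Omega.trace A B) = μ ξ := by
  have h1 : ∀ w : B ⊗[A] B, P w (Disc.Omega.trace A B) =
      Algebra.trace B (B ⊗[A] B) (Algebra.TensorProduct.comm A B B w) := fun w => by
    induction w with
    | zero => rw [P_zero_left, map_zero, map_zero]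
    | add p q hp hq => rw [P_add_left, map_add, map_add, hp, hq]
    | tmul u v => rw [Algebra.TensorProduct.comm_tmul, DiffRam.trace_tmul, P_tmul, Algebra.smul_def, mul_comm]; rfl
  have h2 : ∀ w : B ⊗[A] B, μ (Algebra.TensorProduct.comm A B B w) = μ w := fun w => by
    induction w with
    | zero => simp
    | add p q hp hq => rw [map_add, map_add, map_add, hp, hq]
    | tmul u v => simp [mul_comm]
  rw [h1, DiffRam.trace_of_ann (fun i hi => ?_), h2]
  have hi' : Algebra.TensorProduct.comm A B B i ∈ RingHom.ker μ := by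
    rw [RingHom.mem_ker, h2]; exact hi
  have h3 := Submodule.mem_annihilator.1 h _ hi'
  rw [smul_eq_mul] at h3
  apply (Algebra.TensorProduct.comm A B B).injective
  rw [map_zero, map_mul, show Algebra.TensorProduct.comm A B B (Algebra.TensorProduct.comm A B B ξ) = ξ from ?_, h3]
  clear h3 hi' h
  induction ξ with
  | zero => simp
  | add p q hp hq => rw [map_add, map_add, hp, hq]
  | tmul u v => rfl

theorem noetherDifferent_eq :
    (Disc.noetherDifferent A B : Set B) =
      Set.range (fun φ : Disc.Omega A B →ₗ[B] B => φ (Disc.Omega.trace A B)) := by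
  ext b
  rw [SetLike.mem_coe, Disc.noetherDifferent, Ideal.mem_map_iff_of_surjective _ (mu_surjective A B), Set.mem_range]
  constructor
  · rintro ⟨ξ, hξ, rfl⟩
    exact ⟨lin hξ, P_trace hξ⟩
  · rintro ⟨Φ, rfl⟩
    obtain ⟨ξ, ⟨hξ, hP⟩, -⟩ := existsUnique Φ
    exact ⟨ξ, hξ, by rw [hP, P_trace hξ]⟩

end Groth.Agent.Easy3.OmegaPairing
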