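import Mathlib.LinearAlgebra.Eigenspace.Basic
import Mathlib.RingTheory.Noetherian.Basic
import Mathlib.Order.Atoms

/-! Simultaneous diagonalisation of commuting families stabilising finitely generated submodules
over a Noetherian ring. -/

universe u v w x

namespace Groth.Agent.Easy3

theorem mem_of_sum_eigen {k : Type u} [Field k] {V : Type w} [AddCommGroup V] [Module k V]
    (g : Module.End k V) (U : Submodule k V) (hU : ∀ z ∈ U, g z ∈ U) (s : Finset k) (z : k → V)
    (hz : ∀ μ ∈ s, g (z μ) = μ • z μ) (hsum : ∑ μ ∈ s, z μ ∈ U) : ∀ μ ∈ s, z μ ∈ U := by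
  classical
  induction s using Finset.induction_on generalizing z with
  | empty => simp
  | @insert a s ha ih =>
    rw [Finset.sum_insert ha] at hsum
    have h1 : ∑ μ ∈ s, (μ - a) • z μ ∈ U := by
      have := sub_mem (hU _ hsum) (U.smul_mem a hsum)
      rw [map_add, map_sum, smul_add, Finset.smul_sum, hz a (Finset.mem_insert_self _ _),
        add_sub_add_left_eq_sub, ← Finset.sum_sub_distrib] at this
      convert this using 1
      exact Finset.sum_congr rfl fun μ hμ => by rw [hz μ (Finset.mem_insert_of_mem hμ), sub_smul]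
    have h2 := ih (fun μ => (μ - a) • z μ) (fun μ hμ => by
      rw [map_smul, hz μ (Finset.mem_insert_of_mem hμ), smul_comm]) h1
    have h3 : ∀ μ ∈ s, z μ ∈ U := fun μ hμ => by
      have hne : μ - a ≠ 0 := sub_ne_zero.2 fun h => ha (h ▸ hμ)
      have := U.smul_mem (μ - a)⁻¹ (h2 μ hμ)
      rwa [smul_smul, inv_mul_cancel₀ hne, one_smul] at this
    intro μ hμ
    rcases Finset.mem_insert.1 hμ with rfl | hμ
    · simpa using sub_mem hsum (U.sum_mem h3)
    · exact h3 μ hμ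

theorem iSup_common_eigen_eq_top (k : Type u) [Field k] (R : Type v) [CommRing R] [Algebra k R]
    [IsNoetherianRing R] (V : Type w) [AddCommGroup V] [Module R V] [Module k V] [IsScalarTower k R V]
    (ι : Type x) (f : ι → Module.End R V) (hcomm : ∀ i j, Commute (f i) (f j))
    (hdiag : ∀ i, ⨆ μ : k, Module.End.eigenspace ((f i).restrictScalars k) μ = ⊤)
    (hfin : ∀ v : V, ∃ W : Submodule R V, v ∈ W ∧ W.FG ∧ ∀ i, ∀ w ∈ W, f i w ∈ W) :
    ⨆ χ : ι → k, ⨅ i, Module.End.eigenspace ((f i).restrictScalars k) (χ i) = ⊤ := by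
  classical
  set S := ⨆ χ : ι → k, ⨅ i, Module.End.eigenspace ((f i).restrictScalars k) (χ i)
  let E : ι → k → Submodule R V := fun i μ =>
    LinearMap.ker (f i - (algebraMap k R μ) • LinearMap.id)
  have hE : ∀ i μ z, z ∈ E i μ ↔ f i z = μ • z := fun i μ z => by
    simp [E, sub_eq_zero]
  have hcomm' : ∀ i j z, f i (f j z) = f j (f i z) := fun i j z =>
    LinearMap.congr_fun (hcomm i j).eq z
  rw [eq_top_iff]
  intro v _
  obtain ⟨W, hvW, hWfg, hWst⟩ := hfin v
  by_contra hvS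
  let stab : Submodule R V → Prop := fun U => ∀ i, ∀ z ∈ U, f i z ∈ U
  let 𝒞 : Set (Submodule R W) := {U | ∃ U' : Submodule R V, U' ≤ W ∧ stab U' ∧
    U.map W.subtype ⊔ U' = W ∧ Disjoint (U.map W.subtype) U' ∧ ¬ (U' : Set V) ⊆ S}
  haveI : IsNoetherian R W := isNoetherian_of_fg_of_noetherian W hWfg
  obtain ⟨U, ⟨U', hU'W, hU'st, hsup, hdis, hnot⟩, hmax⟩ := wellFounded_gt.has_min 𝒞
    ⟨⊥, W, le_rfl, hWst, by simp, by simp, fun h => hvS (h hvW)⟩
  have hdec : ∀ i, ∀ z ∈ U', ∃ (s : Finset k) (g : k → V), (∀ μ ∈ s, g μ ∈ U' ∧ g μ ∈ E i μ) ∧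
      ∑ μ ∈ s, g μ = z := by
    intro i z hz
    obtain ⟨g, hg, hgz⟩ := (Submodule.mem_iSup_iff_exists_finsupp _ z).1 (hdiag i ▸ Submodule.mem_top)
    refine ⟨g.support, g, fun μ hμ => ⟨?_, (hE i μ _).2 (Module.End.mem_eigenspace_iff.1 (hg μ))⟩, hgz⟩
    exact mem_of_sum_eigen ((f i).restrictScalars k) (U'.restrictScalars k) (fun z hz => hU'st i z hz)
      g.support g (fun μ _ => Module.End.mem_eigenspace_iff.1 (hg μ))
      (show g.sum (fun _ x => x) ∈ U'.restrictScalars k by rw [hgz]; exact hz) μ hμ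
  by_cases hscal : ∀ i, ∃ μ, U' ≤ E i μ
  · choose χ hχ using hscal
    refine hnot fun z hz => Submodule.mem_iSup_of_mem χ ?_
    rw [Submodule.mem_iInf]
    exact fun i => Module.End.mem_eigenspace_iff.2 ((hE i _ z).1 (hχ i hz))
  push_neg at hscal
  obtain ⟨i, hi⟩ := hscal
  obtain ⟨z, hzU, hzS⟩ := Set.not_subset.1 hnot
  obtain ⟨s, g, hg, hgz⟩ := hdec i z hzU
  obtain ⟨μ₀, hμ₀, hgS⟩ : ∃ μ ∈ s, g μ ∉ S := by
    by_contra! h
    exact hzS (hgz ▸ S.sum_mem h)
  let A : Submodule R V := U' ⊓ E i μ₀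
  let B : Submodule R V := U' ⊓ ⨆ μ ∈ ({μ₀}ᶜ : Set k), E i μ
  have hAst : stab A := fun j y hy => ⟨hU'st j y hy.1, (hE i _ _).2 (by
    rw [hcomm', (hE i _ _).1 hy.2, ← IsScalarTower.algebraMap_smul R μ₀, map_smul,
      IsScalarTower.algebraMap_smul])⟩
  have hAB : U' ≤ A ⊔ B := by
    intro y hy
    obtain ⟨t, g', hg', hy'⟩ := hdec i y hy
    rw [← hy']
    refine Submodule.sum_mem _ fun μ hμ => ?_
    by_cases h : μ = μ₀
    · exact Submodule.mem_sup_left ⟨(hg' μ hμ).1, h ▸ (hg' μ hμ).2⟩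
    · exact Submodule.mem_sup_right ⟨(hg' μ hμ).1,
        Submodule.mem_iSup_of_mem μ (Submodule.mem_iSup_of_mem h (hg' μ hμ).2)⟩
  have hdAB : Disjoint A B := by
    rw [Submodule.disjoint_def]
    rintro y ⟨-, hyA⟩ ⟨-, hyB⟩
    have h1 := Module.End.eigenspaces_iSupIndep ((f i).restrictScalars k) μ₀
    refine Submodule.disjoint_def.1 h1 y (Module.End.mem_eigenspace_iff.2 ((hE i _ _).1 hyA)) ?_
    have hle : ∀ μ, μ ≠ μ₀ → ∀ y ∈ E i μ, y ∈ Module.End.eigenspace ((f i).restrictScalars k) μ :=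
      fun μ _ y hy => Module.End.mem_eigenspace_iff.2 ((hE i _ _).1 hy)
    refine Submodule.iSup_induction _ (motive := fun y => y ∈ ⨆ (μ) (_ : μ ≠ μ₀),
      Module.End.eigenspace ((f i).restrictScalars k) μ) hyB (fun μ y hy => ?_) (zero_mem _)
      (fun _ _ => add_mem)
    by_cases hμ : μ ∈ ({μ₀}ᶜ : Set k)
    · rw [iSup_pos hμ] at hy
      exact Submodule.mem_iSup_of_mem μ (Submodule.mem_iSup_of_mem hμ (hle μ hμ y hy))
    · rw [iSup_neg hμ, Submodule.mem_bot] at hy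
      subst hy
      exact zero_mem _
  have hBW : B ≤ W := fun y hy => hU'W hy.1
  let U₁ : Submodule R W := U ⊔ B.comap W.subtype
  have hmap : U₁.map W.subtype = U.map W.subtype ⊔ B := by
    rw [Submodule.map_sup, Submodule.map_comap_subtype, inf_eq_right.2 hBW]
  have hU₁ : U₁ ∈ 𝒞 := by
    refine ⟨A, fun y hy => hU'W hy.1, hAst, ?_, ?_, fun h => hgS (h ⟨(hg μ₀ hμ₀).1, (hg μ₀ hμ₀).2⟩)⟩
    · rw [hmap]
      refine le_antisymm (sup_le (sup_le (Submodule.map_subtype_le _ _) hBW) fun y hy => hU'W hy.1) ?_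
      conv_lhs => rw [← hsup]
      exact sup_le (le_sup_left.trans le_sup_left) (hAB.trans (sup_le le_sup_right
        (le_sup_right.trans le_sup_left)))
    · rw [hmap, disjoint_comm, sup_comm]
      exact hdAB.disjoint_sup_right_of_disjoint_sup_left
        (hdis.symm.mono_left (sup_le inf_le_left inf_le_left))
  refine hmax U₁ hU₁ (lt_of_le_of_ne le_sup_left fun h => ?_)
  have hB0 : B = ⊥ := by
    have : B ≤ U.map W.subtype := by
      rw [h, hmap]; exact le_sup_right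
    exact le_bot_iff.1 ((le_inf this (inf_le_left : B ≤ U')).trans hdis.le_bot)
  rw [hB0, sup_bot_eq] at hAB
  exact hi μ₀ (hAB.trans inf_le_right)

end Groth.Agent.Easy3
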