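import Mathlib

/-! Exactness of the canonical two-step presentation of an abelian group. -/

set_option autoImplicit false

namespace Groth.Agent.Easy3.SymCocycle

universe u v

/-- abelian extension attached to a symmetric cocycle. -/
structure Ext' {P : Type u} {Q : Type v} [AddCommGroup P] [AddCommGroup Q] (f : P → P → Q)
    (hf : ∀ p q r, f (p + q) r + f p q = f p (q + r) + f q r) (hs : ∀ p q, f p q = f q p) where
  p : P
  a : Q

namespace Ext'

variable {P : Type u} {Q : Type v} [AddCommGroup P] [AddCommGroup Q] {f : P → P → Q}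
  {hf : ∀ p q r, f (p + q) r + f p q = f p (q + r) + f q r} {hs : ∀ p q, f p q = f q p}

theorem ext {x y : Ext' f hf hs} (h1 : x.p = y.p) (h2 : x.a = y.a) : x = y := by
  cases x; cases y; cases h1; cases h2; rfl

instance : Add (Ext' f hf hs) := ⟨fun x y => ⟨x.p + y.p, x.a + y.a + f x.p y.p⟩⟩
instance : Zero (Ext' f hf hs) := ⟨⟨0, -f 0 0⟩⟩
instance : Neg (Ext' f hf hs) := ⟨fun x => ⟨-x.p, -x.a - f (-x.p) x.p - f 0 0⟩⟩

include hf in
theorem zero_left (r : P) : f 0 r = f 0 0 := by
  have h := hf 0 0 r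
  simp only [add_zero, zero_add] at h
  exact add_left_cancel (a := f 0 r) (by rw [h]) |>.symm

instance : AddCommGroup (Ext' f hf hs) where
  add_assoc x y z := ext (add_assoc _ _ _) (by
    show x.a + y.a + f x.p y.p + z.a + f (x.p + y.p) z.p = x.a + (y.a + z.a + f y.p z.p) + f x.p (y.p + z.p)
    have h := hf x.p y.p z.p
    rw [← sub_eq_zero] at h ⊢
    rw [← h]; abel)
  zero_add x := ext (zero_add _) (by
    show -f 0 0 + x.a + f 0 x.p = x.a
    rw [zero_left (hf := hf) x.p]; abel)
  add_zero x := ext (add_zero _) (by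
    show x.a + -f 0 0 + f x.p 0 = x.a
    rw [hs x.p 0, zero_left (hf := hf) x.p]; abel)
  nsmul := nsmulRec
  zsmul := zsmulRec
  neg_add_cancel x := ext (neg_add_cancel _) (by
    show -x.a - f (-x.p) x.p - f 0 0 + x.a + f (-x.p) x.p = -f 0 0
    abel)
  add_comm x y := ext (add_comm _ _) (by
    show x.a + y.a + f x.p y.p = y.a + x.a + f y.p x.p
    rw [hs x.p y.p]; abel)

/-- the kernel of the projection. -/
def incl : Q →+ Ext' f hf hs where
  toFun a := ⟨0, a - f 0 0⟩
  map_zero' := ext rfl (zero_sub _)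
  map_add' a b := ext (add_zero _).symm (by
    show a + b - f 0 0 = a - f 0 0 + (b - f 0 0) + f 0 0
    abel)

theorem incl_injective : Function.Injective (incl : Q →+ Ext' f hf hs) := fun a b h =>
  sub_left_injective (congrArg Ext'.a h)

theorem defect (p q : P) :
    (⟨p + q, 0⟩ : Ext' f hf hs) - ⟨p, 0⟩ - ⟨q, 0⟩ = incl (- f p q) := by
  rw [sub_sub, sub_eq_iff_eq_add]
  refine ext ?_ ?_
  · exact (zero_add _).symm
  · show 0 = (-f p q - f 0 0) + (0 + 0 + f p q) + f 0 (p + q)
    rw [zero_left (hf := hf) (p + q)]; abel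

end Ext'

theorem main (P : Type u) [AddCommGroup P] :
    letI ε : (P →₀ ℤ) →ₗ[ℤ] P := Finsupp.linearCombination ℤ (fun p : P => p)
    letI d₀ : (P × P →₀ ℤ) →ₗ[ℤ] (P →₀ ℤ) := Finsupp.linearCombination ℤ
      (fun pq : P × P => Finsupp.single (pq.1 + pq.2) 1 - Finsupp.single pq.1 1 - Finsupp.single pq.2 1)
    letI d₁ : (P × P × P →₀ ℤ) →ₗ[ℤ] (P × P →₀ ℤ) := Finsupp.linearCombination ℤ
      (fun t : P × P × P => Finsupp.single (t.1 + t.2.1, t.2.2) 1 - Finsupp.single (t.1, t.2.1 + t.2.2) 1
        + Finsupp.single (t.1, t.2.1) 1 - Finsupp.single (t.2.1, t.2.2) 1)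
    letI d₁' : (P × P →₀ ℤ) →ₗ[ℤ] (P × P →₀ ℤ) := Finsupp.linearCombination ℤ
      (fun pq : P × P => Finsupp.single pq 1 - Finsupp.single (pq.2, pq.1) 1)
    Function.Surjective ε ∧ LinearMap.ker ε = LinearMap.range d₀ ∧
      LinearMap.ker d₀ = LinearMap.range d₁ ⊔ LinearMap.range d₁' := by
  set ε : (P →₀ ℤ) →ₗ[ℤ] P := Finsupp.linearCombination ℤ (fun p : P => p)
  set d₀ : (P × P →₀ ℤ) →ₗ[ℤ] (P →₀ ℤ) := Finsupp.linearCombination ℤ
    (fun pq : P × P => Finsupp.single (pq.1 + pq.2) 1 - Finsupp.single pq.1 1 - Finsupp.single pq.2 1) with hd₀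
  set d₁ : (P × P × P →₀ ℤ) →ₗ[ℤ] (P × P →₀ ℤ) := Finsupp.linearCombination ℤ
    (fun t : P × P × P => Finsupp.single (t.1 + t.2.1, t.2.2) 1 - Finsupp.single (t.1, t.2.1 + t.2.2) 1
      + Finsupp.single (t.1, t.2.1) 1 - Finsupp.single (t.2.1, t.2.2) 1)
  set d₁' : (P × P →₀ ℤ) →ₗ[ℤ] (P × P →₀ ℤ) := Finsupp.linearCombination ℤ
    (fun pq : P × P => Finsupp.single pq 1 - Finsupp.single (pq.2, pq.1) 1)
  have hε : ∀ p, ε (Finsupp.single p 1) = p := fun p => by simp [ε]
  refine ⟨fun p => ⟨_, hε p⟩, le_antisymm ?_ ?_, le_antisymm ?_ ?_⟩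
  · intro x hx
    have key : ∀ y : P →₀ ℤ, y - Finsupp.single (ε y) 1 ∈ LinearMap.range d₀ := by
      intro y
      induction y using Finsupp.induction_linear with
      | zero => exact ⟨Finsupp.single (0, 0) 1, by simp [d₀]⟩
      | add y z hy hz =>
        have h : d₀ (Finsupp.single (ε y, ε z) 1) ∈ LinearMap.range d₀ := ⟨_, rfl⟩
        have h' := Submodule.sub_mem _ (Submodule.add_mem _ hy hz) h
        convert h' using 1
        simp [d₀]
        abel
      | single p n =>
        induction n using Int.induction_on with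
        | zero => exact ⟨Finsupp.single (0, 0) 1, by simp [d₀]⟩
        | succ n ih =>
          refine ?_
          have h : d₀ (Finsupp.single (ε (Finsupp.single p (n : ℤ)), p) 1) ∈ LinearMap.range d₀ := ⟨_, rfl⟩
          have h' := Submodule.sub_mem _ ih h
          convert h' using 1
          simp [d₀, ε, Finsupp.single_add, add_smul]
          abel
        | pred n ih =>
          have h : d₀ (Finsupp.single (ε (Finsupp.single p (-(n : ℤ) - 1)), p) 1) ∈ LinearMap.range d₀ := ⟨_, rfl⟩
          have h' := Submodule.add_mem _ ih h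
          convert h' using 1
          simp [d₀, ε, sub_smul]
          abel
    have h := key x
    rw [LinearMap.mem_ker.1 hx] at h
    have h0 : Finsupp.single (0 : P) (1 : ℤ) ∈ LinearMap.range d₀ :=
      ⟨-Finsupp.single (0, 0) 1, by simp [d₀]⟩
    simpa using Submodule.add_mem _ h h0
  · rintro _ ⟨y, rfl⟩
    rw [LinearMap.mem_ker]
    induction y using Finsupp.induction_linear with
    | zero => simp
    | add y z hy hz => rw [map_add, map_add, hy, hz, add_zero]
    | single pq n => simp [d₀, ε]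
  · intro x hx
    set S := LinearMap.range d₁ ⊔ LinearMap.range d₁'
    let f : P → P → (P × P →₀ ℤ) ⧸ S := fun p q => Submodule.Quotient.mk (Finsupp.single (p, q) 1)
    have hf : ∀ p q r, f (p + q) r + f p q = f p (q + r) + f q r := fun p q r => by
      simp only [f, ← Submodule.Quotient.mk_add, Submodule.Quotient.eq]
      exact Submodule.mem_sup_left ⟨Finsupp.single (p, q, r) 1, by simp [d₁]; abel⟩
    have hs : ∀ p q, f p q = f q p := fun p q => by
      simp only [f, Submodule.Quotient.eq]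
      exact Submodule.mem_sup_right ⟨Finsupp.single (p, q) 1, by simp [d₁']⟩
    let φ : (P →₀ ℤ) →ₗ[ℤ] Ext' f hf hs := Finsupp.linearCombination ℤ (fun p => (⟨p, 0⟩ : Ext' f hf hs))
    have key : φ.comp d₀ = (Ext'.incl (f := f) (hf := hf) (hs := hs)).toIntLinearMap.comp (-S.mkQ) := by
      refine Finsupp.lhom_ext' fun pq => LinearMap.ext_ring ?_
      simp only [LinearMap.coe_comp, Function.comp_apply, Finsupp.lsingle_apply, d₀,
        Finsupp.linearCombination_single, one_smul, map_sub, φ]
      exact Ext'.defect pq.1 pq.2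
    have h1 := LinearMap.congr_fun key x
    simp only [LinearMap.coe_comp, Function.comp_apply, LinearMap.mem_ker.1 hx, map_zero] at h1
    have h2 : (-S.mkQ) x = 0 := Ext'.incl_injective (f := f) (hf := hf) (hs := hs) (h1.symm.trans (map_zero _).symm)
    rw [LinearMap.neg_apply, neg_eq_zero] at h2
    exact (Submodule.Quotient.mk_eq_zero S).1 h2
  · refine sup_le ?_ ?_ <;> rintro _ ⟨y, rfl⟩ <;> rw [LinearMap.mem_ker] <;>
      induction y using Finsupp.induction_linear with
      | zero => simp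
      | add y z hy hz => rw [map_add, map_add, hy, hz, add_zero]
      | single t n =>
        simp [d₀, d₁, d₁', add_assoc, add_comm, add_left_comm, sub_eq_add_neg] <;> abel

end Groth.Agent.Easy3.SymCocycle
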