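import Mathlib.Algebra.CharP.Lemmas
import Mathlib.Tactic.LinearCombination
import Mathlib.Tactic.FinCases
import Mathlib.Algebra.MvPolynomial.CommRing
import Mathlib.RingTheory.MvPolynomial.Basic
import Mathlib.RingTheory.Ideal.Quotient.Operations
import Mathlib.RingTheory.LocalRing.MaximalIdeal.Basic

/-! The torsor `W ↦ x + W + λxW`. -/

universe u

namespace Groth.Agent.Easy3

open MvPolynomial

theorem exists_torsor_iso (p : ℕ) [Fact p.Prime] (R : Type u) [CommRing R] [IsLocalRing R] [CharP R p]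
    (lam f : R) (hlam : lam ∈ IsLocalRing.maximalIdeal R) :
    ∃ e : (MvPolynomial (Fin 2) R ⧸ Ideal.span {(X 0 ^ p - C f : MvPolynomial (Fin 2) R), X 1 ^ p - C f}) ≃ₐ[R]
        (MvPolynomial (Fin 2) R ⧸ Ideal.span {(X 0 ^ p : MvPolynomial (Fin 2) R), X 1 ^ p - C f}),
      e (Ideal.Quotient.mk _ (X 0)) = Ideal.Quotient.mk _ (X 0 + X 1 + C lam * X 0 * X 1) ∧
      e (Ideal.Quotient.mk _ (X 1)) = Ideal.Quotient.mk _ (X 1) := by
  have hp0 : p ≠ 0 := (Fact.out : p.Prime).ne_zero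
  have hunit : IsUnit (1 + lam ^ p * f) := by
    refine IsLocalRing.notMem_maximalIdeal.1 fun h => ?_
    have h2 : lam ^ p * f ∈ IsLocalRing.maximalIdeal R :=
      Ideal.mul_mem_right _ _ (Ideal.pow_mem_of_mem _ hlam p (Nat.pos_of_ne_zero hp0))
    exact (IsLocalRing.maximalIdeal.isMaximal R).ne_top
      ((Ideal.eq_top_iff_one _).2 (by simpa using sub_mem h h2))
  obtain ⟨w, hw⟩ := hunit.exists_left_inv
  let I : Ideal (MvPolynomial (Fin 2) R) := Ideal.span {X 0 ^ p - C f, X 1 ^ p - C f}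
  let J : Ideal (MvPolynomial (Fin 2) R) := Ideal.span {X 0 ^ p, X 1 ^ p - C f}
  let v : (MvPolynomial (Fin 2) R) := (1 + C lam * X 1) ^ (p - 1) * C w
  have hv : v * (1 + C lam * X 1) = (1 + C lam * X 1) ^ p * C w := by
    rw [mul_right_comm, ← pow_succ, Nat.sub_add_cancel (Nat.pos_of_ne_zero hp0)]
  have hv1 : v * (1 + C lam * X 1) - 1 = C (w * lam ^ p) * (X 1 ^ p - C f) := by
    rw [hv, add_pow_char, one_pow, mul_pow, map_mul, map_pow]
    have : C w * (1 + C lam ^ p * C f) = (1 : (MvPolynomial (Fin 2) R)) := by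
      rw [← map_pow, ← map_mul, ← map_one C, ← map_add, ← map_mul, hw]
    linear_combination this
  let φ : ((MvPolynomial (Fin 2) R) ⧸ I) →ₐ[R] ((MvPolynomial (Fin 2) R) ⧸ J) := Ideal.Quotient.liftₐ I
    (aeval ![Ideal.Quotient.mk J (X 0 + X 1 + C lam * X 0 * X 1), Ideal.Quotient.mk J (X 1)])
    (fun a ha => by
      refine (Ideal.span_le (I := RingHom.ker _)).2 ?_ ha
      rintro z (rfl | rfl) <;> rw [SetLike.mem_coe, RingHom.mem_ker]
      · simp only [map_sub, map_pow, aeval_X, aeval_C, Matrix.cons_val_zero]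
        rw [← map_pow, ← Ideal.Quotient.mk_algebraMap, ← map_sub, Ideal.Quotient.eq_zero_iff_mem,
          MvPolynomial.algebraMap_eq, add_pow_char, add_pow_char, mul_pow, mul_pow]
        exact Ideal.mem_span_pair.2 ⟨1 + C lam ^ p * X 1 ^ p, 1, by ring⟩
      · simp only [map_sub, map_pow, aeval_X, aeval_C, Matrix.cons_val_one, Matrix.cons_val_zero]
        rw [← map_pow, ← Ideal.Quotient.mk_algebraMap, ← map_sub, Ideal.Quotient.eq_zero_iff_mem,
          MvPolynomial.algebraMap_eq]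
        exact Ideal.subset_span (Or.inr rfl))
  let ψ : ((MvPolynomial (Fin 2) R) ⧸ J) →ₐ[R] ((MvPolynomial (Fin 2) R) ⧸ I) := Ideal.Quotient.liftₐ J
    (aeval ![Ideal.Quotient.mk I ((X 0 - X 1) * v), Ideal.Quotient.mk I (X 1)])
    (fun a ha => by
      refine (Ideal.span_le (I := RingHom.ker _)).2 ?_ ha
      rintro z (rfl | rfl) <;> rw [SetLike.mem_coe, RingHom.mem_ker]
      · simp only [map_pow, aeval_X, Matrix.cons_val_zero]
        rw [← map_pow, Ideal.Quotient.eq_zero_iff_mem, mul_pow, sub_pow_char]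
        exact Ideal.mem_span_pair.2 ⟨v ^ p, -v ^ p, by ring⟩
      · simp only [map_sub, map_pow, aeval_X, aeval_C, Matrix.cons_val_one, Matrix.cons_val_zero]
        rw [← map_pow, ← Ideal.Quotient.mk_algebraMap, ← map_sub, Ideal.Quotient.eq_zero_iff_mem,
          MvPolynomial.algebraMap_eq]
        exact Ideal.subset_span (Or.inr rfl))
  have hφ0 : φ (Ideal.Quotient.mk I (X 0)) = Ideal.Quotient.mk J (X 0 + X 1 + C lam * X 0 * X 1) := by
    simp [φ]
  have hφ1 : φ (Ideal.Quotient.mk I (X 1)) = Ideal.Quotient.mk J (X 1) := by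
    simp [φ]
  have hψ0 : ψ (Ideal.Quotient.mk J (X 0)) = Ideal.Quotient.mk I ((X 0 - X 1) * v) := by
    simp [ψ]
  have hψ1 : ψ (Ideal.Quotient.mk J (X 1)) = Ideal.Quotient.mk I (X 1) := by
    simp [ψ]
  have hC : ∀ (K : Ideal (MvPolynomial (Fin 2) R)) (r : R), Ideal.Quotient.mk K (C r) = algebraMap R ((MvPolynomial (Fin 2) R) ⧸ K) r := fun K r => rfl
  have hφv : φ (Ideal.Quotient.mk I v) = Ideal.Quotient.mk J v := by
    simp only [v, map_mul, map_pow, map_add, map_one, hC, AlgHom.commutes, hφ1]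
  have hψv : ψ (Ideal.Quotient.mk J v) = Ideal.Quotient.mk I v := by
    simp only [v, map_mul, map_pow, map_add, map_one, hC, AlgHom.commutes, hψ1]
  have hI : Ideal.Quotient.mk I (v * (1 + C lam * X 1)) = 1 := by
    rw [← map_one (Ideal.Quotient.mk I), Ideal.Quotient.eq, hv1]
    exact Ideal.mul_mem_left _ _ (Ideal.subset_span (Or.inr rfl))
  have hJ : Ideal.Quotient.mk J (v * (1 + C lam * X 1)) = 1 := by
    rw [← map_one (Ideal.Quotient.mk J), Ideal.Quotient.eq, hv1]
    exact Ideal.mul_mem_left _ _ (Ideal.subset_span (Or.inr rfl))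
  refine ⟨AlgEquiv.ofAlgHom φ ψ ?_ ?_, hφ0, hφ1⟩
  · refine Ideal.Quotient.algHom_ext _ (MvPolynomial.algHom_ext fun i => ?_)
    fin_cases i
    · show φ (ψ (Ideal.Quotient.mk J (X 0))) = Ideal.Quotient.mk J (X 0)
      rw [hψ0, map_mul (Ideal.Quotient.mk I), map_mul φ, map_sub (Ideal.Quotient.mk I), map_sub φ,
        hφ0, hφ1, hφv, ← map_sub, ← map_mul]
      rw [show (X 0 + X 1 + C lam * X 0 * X 1 - X 1) * v = X 0 * (v * (1 + C lam * X 1)) by ring,
        map_mul, hJ, mul_one]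
    · show φ (ψ (Ideal.Quotient.mk J (X 1))) = Ideal.Quotient.mk J (X 1)
      rw [hψ1, hφ1]
  · refine Ideal.Quotient.algHom_ext _ (MvPolynomial.algHom_ext fun i => ?_)
    fin_cases i
    · show ψ (φ (Ideal.Quotient.mk I (X 0))) = Ideal.Quotient.mk I (X 0)
      rw [hφ0]
      simp only [map_add, map_mul, hC, AlgHom.commutes, hψ0, hψ1]
      simp only [← hC, ← map_mul, ← map_add]
      rw [show (X 0 - X 1) * v + X 1 + C lam * ((X 0 - X 1) * v) * X 1 =
        (X 0 - X 1) * (v * (1 + C lam * X 1)) + X 1 by ring, map_add, map_mul, hI, mul_one, ← map_add,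
        sub_add_cancel]
    · show ψ (φ (Ideal.Quotient.mk I (X 1))) = Ideal.Quotient.mk I (X 1)
      rw [hφ1, hψ1]

end Groth.Agent.Easy3
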