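import Mathlib

/-! Trace over a field of an element of a finite local algebra on a finite module. -/

set_option autoImplicit false

namespace Groth.Agent.Easy3.TraceLen

universe u

theorem trace_eq_restrict_add_mapQ {k M : Type u} [Field k] [AddCommGroup M] [Module k M] [FiniteDimensional k M]
    (f : M →ₗ[k] M) (N : Submodule k M) (hN : ∀ x ∈ N, f x ∈ N) :
    LinearMap.trace k M f = LinearMap.trace k N (f.restrict hN) + LinearMap.trace k (M ⧸ N) (N.mapQ N f hN) := by
  obtain ⟨r, hr⟩ := N.subtype.exists_leftInverse_of_injective N.ker_subtype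
  obtain ⟨s, hs⟩ := N.mkQ.exists_rightInverse_of_surjective N.range_mkQ
  set P : M →ₗ[k] M := N.subtype ∘ₗ r
  have hP : ∀ x ∈ N, P x = x := fun x hx => congrArg Subtype.val (LinearMap.congr_fun hr ⟨x, hx⟩)
  let s' : (M ⧸ N) →ₗ[k] M := s - P ∘ₗ s
  have hid : f = (f ∘ₗ N.subtype) ∘ₗ r + (f ∘ₗ s') ∘ₗ N.mkQ := by
    refine LinearMap.ext fun x => ?_
    have hx : x - s (N.mkQ x) ∈ N := by
      rw [← Submodule.Quotient.mk_eq_zero N]
      have h1 : N.mkQ (s (N.mkQ x)) = N.mkQ x := LinearMap.congr_fun hs _
      show N.mkQ (x - s (N.mkQ x)) = 0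
      rw [map_sub, h1, sub_self]
    have h2 := hP _ hx
    rw [map_sub] at h2
    show f x = f (P x) + f (s (N.mkQ x) - P (s (N.mkQ x)))
    rw [← map_add]
    congr 1
    rw [← sub_eq_iff_eq_add]
    rw [← sub_eq_zero] at h2 ⊢
    rw [← neg_eq_zero, ← h2]
    abel
  have h1 : r ∘ₗ (f ∘ₗ N.subtype) = f.restrict hN := by
    refine LinearMap.ext fun x => ?_
    exact Subtype.ext (hP _ (hN x.1 x.2))
  have h2 : N.mkQ ∘ₗ (f ∘ₗ s') = N.mapQ N f hN := by
    refine LinearMap.ext fun y => ?_
    have hy : N.mkQ (s' y) = y := by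
      show N.mkQ (s y - (r (s y) : M)) = y
      rw [map_sub, (Submodule.Quotient.mk_eq_zero N).2 (r (s y)).2 |> fun h => (show N.mkQ (r (s y) : M) = 0 from h), sub_zero]
      exact LinearMap.congr_fun hs y
    conv_rhs => rw [← hy]
    rfl
  calc LinearMap.trace k M f = _ := congrArg _ hid
    _ = _ := by
      rw [map_add, ← h1, ← h2]
      exact congrArg₂ (· + ·) (LinearMap.trace_comp_comm' _ _) (LinearMap.trace_comp_comm' _ _)

theorem trace_lsmul_eq {k A : Type u} [Field k] [CommRing A] [Algebra k A] [FiniteDimensional k A] [IsLocalRing A]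
    (a : A) : ∀ (d : ℕ) (M : Type u) [AddCommGroup M] [Module A M] [Module k M] [IsScalarTower k A M]
      [FiniteDimensional k M], Module.finrank k M = d →
    LinearMap.trace k M ((LinearMap.lsmul A M a).restrictScalars k) =
      (Module.length A M).toNat • Algebra.trace k (IsLocalRing.ResidueField A) (IsLocalRing.residue A a) := by
  intro d
  induction d using Nat.strong_induction_on with
  | _ d ih =>
    intro M _ _ _ _ _ hd
    rcases subsingleton_or_nontrivial M with hs | hs
    · rw [Subsingleton.elim ((LinearMap.lsmul A M a).restrictScalars k) 0, map_zero, Module.length_eq_zero, ENat.toNat_zero, zero_smul]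
    haveI : IsArtinian A M := isArtinian_of_tower k inferInstance
    haveI : IsNoetherian A M := isNoetherian_of_tower k inferInstance
    obtain ⟨N, hN⟩ : ∃ N : Submodule A M, IsAtom N :=
      (eq_bot_or_exists_atom_le (⊤ : Submodule A M)).resolve_left top_ne_bot |>.imp fun N h => h.1
    haveI hsimp : IsSimpleModule A N := isSimpleModule_iff_isAtom.2 hN
    obtain ⟨m, hm, ⟨e⟩⟩ := isSimpleModule_iff_quot_maximal.1 hsimp
    have hmm : m = IsLocalRing.maximalIdeal A := IsLocalRing.eq_maximalIdeal hm
    subst hmm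
    let Nk : Submodule k M := N.restrictScalars k
    have hpos : 0 < Module.finrank k Nk := by
      haveI : Nontrivial N := IsSimpleModule.nontrivial A N
      haveI : Nontrivial Nk := ‹Nontrivial N›
      exact Module.finrank_pos
    have hlt : Module.finrank k (M ⧸ N) < d := by
      have h1 : Module.finrank k (M ⧸ Nk) = Module.finrank k (M ⧸ N) := (Submodule.Quotient.restrictScalarsEquiv k N).finrank_eq
      have h2 := Nk.finrank_quotient_add_finrank
      omega
    have hq := ih _ hlt (M ⧸ N) rfl
    have hlen : (Module.length A M).toNat = 1 + (Module.length A (M ⧸ N)).toNat := by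
      rw [Module.length_eq_add_of_exact N.subtype N.mkQ N.subtype_injective N.mkQ_surjective (LinearMap.exact_subtype_mkQ N),
        Module.length_eq_one A N, ENat.toNat_add ENat.one_ne_top Module.length_ne_top, ENat.toNat_one]
    rw [trace_eq_restrict_add_mapQ _ Nk (fun x hx => N.smul_mem a hx), hlen, add_smul, one_smul]
    congr 1
    · let ek : Nk ≃ₗ[k] IsLocalRing.ResidueField A := e.restrictScalars k
      rw [Algebra.trace_apply, ← LinearMap.trace_conj' _ ek]
      congr 1
      refine LinearMap.ext fun z => ?_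
      obtain ⟨w, rfl⟩ := ek.surjective z
      rw [LinearEquiv.conj_apply_apply, LinearEquiv.symm_apply_apply]
      show ek (a • (w : N)) = IsLocalRing.residue A a * ek w
      exact (map_smul e a w).trans (Algebra.smul_def a _)

theorem trace_ne_zero_iff (k A : Type u) [Field k] [CommRing A] [Algebra k A] [FiniteDimensional k A] [IsLocalRing A] :
    Algebra.trace k A ≠ 0 ↔
      (Algebra.IsSeparable k (IsLocalRing.ResidueField A) ∧
        ∀ p : ℕ, p.Prime → CharP k p → ¬ p ∣ (Module.length A A).toNat) := by
  haveI : IsArtinian A A := isArtinian_of_tower k inferInstance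
  haveI : IsNoetherian A A := isNoetherian_of_tower k inferInstance
  set n := (Module.length A A).toNat
  have hn : n ≠ 0 := fun h => by
    rcases ENat.toNat_eq_zero.1 h with h | h
    · exact not_subsingleton A (Module.length_eq_zero_iff.1 h)
    · exact Module.length_ne_top h
  have htr : ∀ a, Algebra.trace k A a = (n : k) * Algebra.trace k (IsLocalRing.ResidueField A) (IsLocalRing.residue A a) := by
    intro a
    rw [← nsmul_eq_mul, ← trace_lsmul_eq a _ A rfl, Algebra.trace_apply]
    congr 1
  have hchar : (n : k) ≠ 0 ↔ ∀ p : ℕ, p.Prime → CharP k p → ¬ p ∣ n := by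
    refine ⟨fun h p _ _ hp => h ((CharP.cast_eq_zero_iff k p n).2 hp), fun h h0 => ?_⟩
    obtain ⟨p, hp⟩ := CharP.exists k
    rcases CharP.char_is_prime_or_zero k p with hpp | rfl
    · exact h p hpp hp ((CharP.cast_eq_zero_iff k p n).1 h0)
    · exact hn (Nat.eq_zero_of_zero_dvd ((CharP.cast_eq_zero_iff k 0 n).1 h0))
  rw [← hchar]
  constructor
  · intro h
    obtain ⟨a, ha⟩ := DFunLike.ne_iff.1 h
    rw [htr, LinearMap.zero_apply, mul_ne_zero_iff] at ha
    refine ⟨?_, ha.1⟩
    by_contra hsep
    exact ha.2 (by rw [Algebra.trace_eq_zero_of_not_isSeparable hsep, LinearMap.zero_apply])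
  · rintro ⟨hsep, hn'⟩ h
    obtain ⟨z, hz⟩ := Algebra.trace_surjective k (IsLocalRing.ResidueField A) 1
    obtain ⟨a, rfl⟩ := IsLocalRing.residue_surjective z
    have := htr a
    rw [h, LinearMap.zero_apply, hz, mul_one] at this
    exact hn' this.symm

end Groth.Agent.Easy3.TraceLen
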