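import Groth.Agent.CompGroup.Tree
import Groth.Prelude.Def_W4c5modbuncurvesppStab

/-! The linear system of sides of a tree is nondegenerate. -/

universe u

namespace Groth.Agent.Easy3
open Groth.Agent.CompGroup PhiStab

variable {V E : Type u} [Fintype V] [Fintype E] [DecidableEq V] [DecidableEq E]

theorem existsUnique_weighting (ends : E → V × V) (hT : DualGr.IsTree ends) (c : E → ℝ) (c₀ : ℝ) :
    ∃! φ : V → ℝ, (∀ e : E, (∑ v ∈ side ends e, φ v) = c e) ∧ (∑ v : V, φ v) = c₀ := by
  classical
  have hcard := ((isTree_iff ends).1 hT).2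
  have hinj := (isForest_iff_injective ends).1 hT.2
  obtain ⟨⟨r⟩, -⟩ := hT.1
  let L : (V → ℝ) →ₗ[ℝ] (E → ℝ) × ℝ :=
    { toFun := fun φ => (fun e => ∑ v ∈ side ends e, φ v, ∑ v, φ v)
      map_add' := fun φ ψ => by ext <;> simp [Finset.sum_add_distrib]
      map_smul' := fun a φ => by ext <;> simp [Finset.mul_sum] }
  -- the second endpoint is not on the side of the first
  have hb : ∀ e : E, (ends e).2 ∉ side ends e := by
    intro e h
    simp only [side, Finset.mem_filter, Finset.mem_univ, true_and] at h
    have key : ∀ v, Relation.ReflTransGen (LabGraph.Adj (spanEnds ends (Finset.univ.erase e))) (ends e).1 v →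
        ∃ x : E → ZMod 2, x e = 0 ∧ inc2 ends x = Pi.single (ends e).1 1 + Pi.single v 1 := by
      intro v hv
      induction hv with
      | refl =>
        exact ⟨0, rfl, by rw [map_zero]; funext i; simp [CharTwo.add_self_eq_zero]⟩
      | @tail b d _ hbd ih =>
        obtain ⟨x, hxe, hx⟩ := ih
        obtain ⟨⟨e', he'⟩, h'⟩ := hbd
        refine ⟨x + Pi.single e' 1, by simp [hxe, (Finset.ne_of_mem_erase he').symm], ?_⟩
        have : inc2 ends (Pi.single e' 1) = Pi.single b 1 + Pi.single d 1 := by
          rcases h' with h' | h' <;> simp only [spanEnds] at h' <;>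
            simp [inc2, Fintype.linearCombination_apply_single, h', add_comm]
        rw [map_add, hx, this]
        funext i
        simp only [Pi.add_apply]
        have h3 : ∀ a b c : ZMod 2, a + b + (b + c) = a + c := by decide
        exact h3 _ _ _
    obtain ⟨x, hxe, hx⟩ := key _ h
    have : x = Pi.single e 1 := hinj (by
      rw [hx]; simp [inc2, Fintype.linearCombination_apply_single])
    rw [this] at hxe
    simp at hxe
  have hsurj : Function.Surjective L := by
    rw [← LinearMap.range_eq_top, eq_top_iff]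
    have hsingle : ∀ e : E, ((Pi.single e 1, 0) : (E → ℝ) × ℝ) ∈ LinearMap.range L := by
      intro e
      refine ⟨Pi.single (ends e).1 1 - Pi.single (ends e).2 1, Prod.ext (funext fun e' => ?_) ?_⟩
      · show ∑ v ∈ side ends e', _ = _
        simp only [Pi.sub_apply, Finset.sum_sub_distrib, Finset.sum_pi_single']
        by_cases he : e' = e
        · subst he
          rw [if_pos, if_neg (hb e'), sub_zero, Pi.single_eq_same]
          simp [side, Relation.ReflTransGen.refl]
        · rw [Pi.single_eq_of_ne he, sub_eq_zero]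
          have hiff : (ends e).1 ∈ side ends e' ↔ (ends e).2 ∈ side ends e' := by
            simp only [side, Finset.mem_filter, Finset.mem_univ, true_and]
            have h1 : LabGraph.Adj (spanEnds ends (Finset.univ.erase e')) (ends e).1 (ends e).2 :=
              ⟨⟨e, Finset.mem_erase.2 ⟨Ne.symm he, Finset.mem_univ e⟩⟩, Or.inl rfl⟩
            have h2 : LabGraph.Adj (spanEnds ends (Finset.univ.erase e')) (ends e).2 (ends e).1 :=
              ⟨⟨e, Finset.mem_erase.2 ⟨Ne.symm he, Finset.mem_univ e⟩⟩, Or.inr rfl⟩
            exact ⟨fun h => h.tail h1, fun h => h.tail h2⟩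
          simp only [hiff]
      · show ∑ v, _ = _
        simp [Finset.sum_sub_distrib]
    rintro ⟨y, y₀⟩ -
    have hr := LinearMap.mem_range_self L (Pi.single r y₀)
    have hy : ∀ z : E → ℝ, ((z, 0) : (E → ℝ) × ℝ) ∈ LinearMap.range L := fun z => by
      have : ((z, 0) : (E → ℝ) × ℝ) = ∑ e, z e • ((Pi.single e 1, 0) : (E → ℝ) × ℝ) := by
        ext i
        · simp [Prod.fst_sum, Finset.sum_apply, Pi.single_apply]
        · simp [Prod.snd_sum]
      rw [this]
      exact Submodule.sum_mem _ fun e _ => Submodule.smul_mem _ _ (hsingle e)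
    have : ((y, y₀) : (E → ℝ) × ℝ) = L (Pi.single r y₀) + (y - (L (Pi.single r y₀)).1, 0) := by
      ext i
      · simp
      · simp [L]
    rw [this]
    exact add_mem hr (hy _)
  have hdim : Module.finrank ℝ (V → ℝ) = Module.finrank ℝ ((E → ℝ) × ℝ) := by
    rw [Module.finrank_prod, Module.finrank_fintype_fun_eq_card, Module.finrank_fintype_fun_eq_card,
      Module.finrank_self, hcard]
  have hbij : Function.Bijective L :=
    ⟨(LinearMap.injective_iff_surjective_of_finrank_eq_finrank hdim).2 hsurj, hsurj⟩
  obtain ⟨φ, hφ, huniq⟩ := hbij.existsUnique (c, c₀)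
  exact ⟨φ, ⟨fun e => congrFun (congrArg Prod.fst hφ) e, congrArg Prod.snd hφ⟩,
    fun ψ hψ => huniq ψ (Prod.ext (funext hψ.1) hψ.2)⟩

end Groth.Agent.Easy3
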