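import Groth.Agent.Easy3.Cyclic
import Mathlib.LinearAlgebra.Matrix.Block
import Mathlib.Algebra.CharP.Lemmas
import Mathlib.Algebra.CharP.Invertible
import Mathlib.NumberTheory.Padics.PadicVal.Basic
import Mathlib.Algebra.Polynomial.Expand

/-! Regular upper triangular matrices; scalars of p-power order. -/

universe u
open Polynomial Matrix

namespace Groth.Agent.Easy3

theorem commute_triangular (k : Type u) [Field k] (n : ℕ) (u : Matrix (Fin n) (Fin n) k)
    (htri : ∀ i j : Fin n, j < i → u i j = 0) (hdiag : ∀ i j : Fin n, u i i = u j j)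
    (hreg : ∀ (i j : Fin n), j.val = i.val + 1 → u i j ≠ 0) (R : Type u) [CommRing R] [Algebra k R]
    (x : Matrix (Fin n) (Fin n) R)
    (hxu : x * u.map (algebraMap k R) = u.map (algebraMap k R) * x) :
    (∀ i j : Fin n, j < i → x i j = 0) ∧ (∀ i j : Fin n, x i i = x j j) := by
  classical
  rcases n with _ | n
  · exact ⟨fun i => i.elim0, fun i => i.elim0⟩
  set N : Matrix (Fin (n + 1)) (Fin (n + 1)) k := u - Matrix.scalar _ (u 0 0) with hN
  have hN0 : ∀ i j : Fin (n + 1), (j : ℕ) < (i : ℕ) + 1 → N i j = 0 := by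
    intro i j hij
    rcases eq_or_ne i j with rfl | hne
    · simp [hN, hdiag i 0]
    · have : j < i := by
        have : (i : ℕ) ≠ j := fun h => hne (Fin.ext h)
        show (j : ℕ) < i
        omega
      simp [hN, htri i j this, hne]
  have hN1 : ∀ i j : Fin (n + 1), (j : ℕ) = (i : ℕ) + 1 → N i j ≠ 0 := by
    intro i j hij
    have hne : i ≠ j := fun h => by rw [h] at hij; omega
    simpa [hN, hne] using hreg i j hij
  have hpow : ∀ (m : ℕ), (∀ i j : Fin (n + 1), (j : ℕ) < (i : ℕ) + m → (N ^ m) i j = 0) ∧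
      ∀ i j : Fin (n + 1), (j : ℕ) = (i : ℕ) + m → (N ^ m) i j ≠ 0 := by
    intro m
    induction m with
    | zero =>
      refine ⟨fun i j hij => ?_, fun i j hij => ?_⟩
      · rw [pow_zero, Matrix.one_apply_ne]
        intro h; rw [h] at hij; omega
      · rw [pow_zero, show i = j from Fin.ext (by omega), Matrix.one_apply_eq]
        exact one_ne_zero
    | succ m ih =>
      refine ⟨fun i j hij => ?_, fun i j hij => ?_⟩
      · rw [pow_succ', Matrix.mul_apply]
        refine Finset.sum_eq_zero fun l _ => ?_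
        rcases Nat.lt_or_ge (l : ℕ) ((i : ℕ) + 1) with hl | hl
        · rw [hN0 i l hl, zero_mul]
        · rw [ih.1 l j (by omega), mul_zero]
      · have hi1 : (i : ℕ) + 1 < n + 1 := by omega
        rw [pow_succ', Matrix.mul_apply, Finset.sum_eq_single (⟨(i : ℕ) + 1, hi1⟩ : Fin (n + 1))]
        · exact mul_ne_zero (hN1 _ _ rfl) (ih.2 _ _ (by simp; omega))
        · intro l _ hl
          have hl' : (l : ℕ) ≠ (i : ℕ) + 1 := fun h => hl (Fin.ext h)
          rcases Nat.lt_or_ge (l : ℕ) ((i : ℕ) + 1) with h | h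
          · rw [hN0 i l h, zero_mul]
          · rw [ih.1 l j (by omega), mul_zero]
        · intro h; exact absurd (Finset.mem_univ _) h
  set v : Fin (n + 1) → k := Pi.single (Fin.last n) 1 with hv
  have hdet : (krylov N v).det ≠ 0 := by
    let σ : Equiv.Perm (Fin (n + 1)) := Fin.revPerm
    have hT : ((krylov N v).submatrix id σ).det ≠ 0 := by
      rw [Matrix.det_of_upperTriangular, Finset.prod_ne_zero_iff]
      · intro i _
        simp only [Matrix.submatrix_apply, id, krylov, Matrix.of_apply, hv, Matrix.mulVec_single_one,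
          Matrix.col_apply]
        refine (hpow _).2 i _ ?_
        simp [σ]; omega
      · intro i j hij
        simp only [Matrix.submatrix_apply, id, krylov, Matrix.of_apply, hv, Matrix.mulVec_single_one,
          Matrix.col_apply]
        refine (hpow _).1 i _ ?_
        have h' : (j : ℕ) < i := hij
        simp [σ]; omega
    intro h0
    apply hT
    rw [Matrix.det_permute', h0, mul_zero]
  set G := N.map (algebraMap k R) with hG
  have hxN : x * G = G * x := by
    have : G = u.map (algebraMap k R) - Matrix.scalar _ (algebraMap k R (u 0 0)) := by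
      rw [hG, hN, Matrix.map_sub _ (map_sub (algebraMap k R))]
      congr 1
      ext i j
      by_cases h : i = j <;> simp [h]
    rw [this, Matrix.mul_sub, Matrix.sub_mul, hxu,
      (Matrix.scalar_commute _ (fun r' => Commute.all _ r') x).eq]
  obtain ⟨c, hc⟩ := exists_poly_of_commute N v x hxN
  have hentry : ∀ i j : Fin (n + 1),
      x i j = algebraMap k R (((krylov N v).det ^ 2)⁻¹) * ∑ l, c l * algebraMap k R ((N ^ (l : ℕ)) i j) := by
    intro i j
    have h1 := congrFun (congrFun hc i) j
    simp only [Matrix.smul_apply, Matrix.sum_apply, smul_eq_mul] at h1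
    have h2 : ∀ l : Fin (n + 1), (G ^ (l : ℕ)) i j = algebraMap k R ((N ^ (l : ℕ)) i j) := fun l => by
      have h := map_pow (algebraMap k R).mapMatrix N (l : ℕ)
      rw [RingHom.mapMatrix_apply, RingHom.mapMatrix_apply] at h
      rw [hG, ← h, Matrix.map_apply]
    simp only [← hG, h2] at h1
    rw [← h1, ← mul_assoc, ← map_mul, inv_mul_cancel₀ (pow_ne_zero _ hdet), map_one, one_mul]
  refine ⟨fun i j hij => ?_, fun i j => ?_⟩
  · rw [hentry, Finset.sum_eq_zero, mul_zero]
    intro l _
    have h' : (j : ℕ) < i := hij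
    rw [(hpow _).1 i j (by omega), map_zero, mul_zero]
  · rw [hentry, hentry j j]
    congr 1
    refine Finset.sum_congr rfl fun l _ => ?_
    rcases Nat.eq_zero_or_pos (l : ℕ) with hl | hl
    · rw [hl, pow_zero, Matrix.one_apply_eq, Matrix.one_apply_eq]
    · rw [(hpow _).1 i i (by omega), (hpow _).1 j j (by omega)]

section CharP
variable (p : ℕ) [hp : Fact p.Prime] (R : Type u) [CommRing R] [CharP R p] (n : ℕ)

theorem charpoly_add_scalar_iff (hn : 0 < n) (X' : Matrix (Fin n) (Fin n) R)
    (hX : X'.charpoly = Polynomial.X ^ n) (a : R) :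
    (X' + Matrix.scalar (Fin n) a).charpoly = Polynomial.X ^ n ↔ a ^ (p ^ padicValNat p n) = 0 := by
  set e := padicValNat p n with he
  obtain ⟨q, hq⟩ : p ^ e ∣ n := pow_padicValNat_dvd
  have hqp : ¬ p ∣ q := by
    rintro ⟨r, rfl⟩
    have : p ^ (e + 1) ∣ n := ⟨r, by rw [hq, pow_succ, mul_assoc]⟩
    exact pow_succ_padicValNat_not_dvd hn.ne' this
  haveI := ExpChar.prime (R := R) hp.out
  have hq0 : q ≠ 0 := fun h => hqp (h ▸ dvd_zero p)
  have hcp : (X' + Matrix.scalar (Fin n) a).charpoly = expand R (p ^ e) ((X + C (-(a ^ p ^ e))) ^ q) := by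
    rw [show X' + Matrix.scalar (Fin n) a = X' - Matrix.scalar (Fin n) (-a) by rw [map_neg, sub_neg_eq_add],
      Matrix.charpoly_sub_scalar, hX, X_pow_comp, map_neg, hq, pow_mul, map_pow, map_add, expand_X, expand_C,
      ← sub_eq_add_neg, sub_pow_char_pow, ← map_pow, sub_eq_add_neg, map_neg]
  have hexp : (Polynomial.X : R[X]) ^ n = expand R (p ^ e) (X ^ q) := by
    rw [map_pow, expand_X, ← pow_mul, ← hq]
  rw [hcp, hexp, (expand_injective (pow_pos hp.out.pos e)).eq_iff]
  constructor
  · intro h
    have h1 := congrArg (fun P => Polynomial.coeff P (q - 1)) h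
    simp only [Polynomial.coeff_X_add_C_pow, Polynomial.coeff_X_pow] at h1
    rw [show q - (q - 1) = 1 by omega, pow_one, if_neg (by omega), Nat.choose_symm (by omega : 1 ≤ q),
      Nat.choose_one_right] at h1
    have hu : IsUnit (q : R) := (CharP.isUnit_natCast_iff (R := R) hp.out).2 hqp
    exact neg_eq_zero.1 ((hu.mul_left_eq_zero).1 h1)
  · intro h
    rw [h, neg_zero, map_zero, add_zero]

theorem choose_mul_pow (hn : 0 < n) (α : R) (hα : α ^ (p ^ padicValNat p n) = 1) (i : ℕ) :
    (n.choose i : R) * α ^ i = (n.choose i : R) := by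
  obtain ⟨q, hq⟩ : p ^ padicValNat p n ∣ n := pow_padicValNat_dvd
  haveI := ExpChar.prime (R := R) hp.out
  have h : ((1 : R[X]) + C α * X) ^ n = (1 + X) ^ n := by
    rw [hq, pow_mul, pow_mul, add_pow_char_pow, add_pow_char_pow, mul_pow, ← map_pow, hα, map_one, one_mul]
  have h1 : ((1 : R[X]) + C α * X) ^ n = ((1 + X) ^ n).comp (C α * X) := by simp
  have h2 := congrArg (fun P => Polynomial.coeff P i) (h1.symm.trans h)
  simp only [Polynomial.comp_C_mul_X_coeff, Polynomial.coeff_one_add_X_pow] at h2
  exact h2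

end CharP

end Groth.Agent.Easy3
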